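import Cfsg.Agent.JankoSylow.Basic
import Mathlib.GroupTheory.Perm.Cycle.Type

/-!
The centralizer of the central involution: the Clifford group modulo the centre is strongly closed.
-/

set_option autoImplicit false
set_option linter.unusedSectionVars false
set_option linter.style.haveILetI false

namespace CfsgLib.JankoSylow

open Subgroup CfsgLib.SylL34

/-- A group with a central involution, a Sylow 2-subgroup of the type of that of the Hall–Janko group and an
element normalising the Clifford group which moves the fifth involution. -/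
structure Loc {C : Type*} [Group C] (S : Sylow 2 C) (f : Fin 128 → C) : Prop where
  tab : Tab (S : Subgroup C) f
  central : ∀ g : C, g * f zc = f zc * g
  moved : ∃ m : C, (∀ c, IQ c → ∃ d, IQ d ∧ m * f c * m⁻¹ = f d) ∧
    (m * f 1 * m⁻¹ = f uc ∨ m * f 1 * m⁻¹ = f (mm uc zc))

theorem sing_orbit : ∀ c : Fin 128, Sing c →
    c = uc ∨ c = mm uc zc ∨ ∃ t : Fin 128, mm (mm t 1) (inv t) = c := by decide +kernel

theorem q_swaps : mm (mm 1 uc) (inv 1) = mm uc zc ∧ mm (mm 1 (mm uc zc)) (inv 1) = uc ∧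
    ¬ IA 1 ∧ inv 1 = 1 := by decide +kernel

theorem cent_q_nonab : ∀ x : Fin 128, sq x = 0 → ¬ IA x →
    (Finset.univ.filter fun e => Com e x).card = 16 ∧ ∃ e, Com e x ∧ ∃ d, Com d x ∧ ¬ Com e d := by
  decide +kernel

theorem cent_a_card : ∀ a : Fin 128, IA a → ¬ IQ a → sq a = 0 →
    (Finset.univ.filter fun e => Com e a).card = 16 := by decide +kernel

theorem cent_a_normal : ∀ t e : Fin 128, IA t →
    (Com e 32 → Com (mm (mm t e) (inv t)) 32) ∧ (Com e 35 → Com (mm (mm t e) (inv t)) 35) := by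
  decide +kernel

/-- The orbit-stabiliser count for conjugation. -/
theorem card_conj_orbit {G : Type*} [Group G] (N : Subgroup G) (x : G) :
    Nat.card {y : G // ∃ n ∈ N, n * x * n⁻¹ = y} * Nat.card ((centralizer ({x} : Set G)).subgroupOf N) =
      Nat.card N := by
  set C := (centralizer ({x} : Set G)).subgroupOf N
  have key : ∀ n m : N, (n : G) * x * (n : G)⁻¹ = (m : G) * x * (m : G)⁻¹ ↔ n⁻¹ * m ∈ C := by
    intro n m
    rw [mem_subgroupOf, mem_centralizer_singleton_iff]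
    push_cast
    constructor
    · intro e
      calc (n : G)⁻¹ * m * x = (n : G)⁻¹ * (m * x * (m : G)⁻¹) * m := by group
        _ = (n : G)⁻¹ * (n * x * (n : G)⁻¹) * m := by rw [e]
        _ = x * ((n : G)⁻¹ * m) := by group
    · intro e
      calc (n : G) * x * (n : G)⁻¹ = n * (x * ((n : G)⁻¹ * m)) * (m : G)⁻¹ := by group
        _ = n * ((n : G)⁻¹ * m * x) * (m : G)⁻¹ := by rw [e]
        _ = m * x * (m : G)⁻¹ := by group
  let φ : N ⧸ C → {y : G // ∃ n ∈ N, n * x * n⁻¹ = y} := fun q => Quotient.liftOn' q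
    (fun n => (⟨(n : G) * x * (n : G)⁻¹, n, n.2, rfl⟩ : {y : G // ∃ n ∈ N, n * x * n⁻¹ = y}))
    fun n m h => Subtype.ext ((key n m).2 (QuotientGroup.leftRel_apply.1 h))
  have hφ : Function.Bijective φ := by
    constructor
    · intro p q
      induction p using Quotient.inductionOn' with
      | h n =>
      induction q using Quotient.inductionOn' with
      | h m =>
      intro e
      exact QuotientGroup.eq.2 ((key n m).1 (congrArg Subtype.val e))
    · rintro ⟨_, n, hn, rfl⟩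
      exact ⟨QuotientGroup.mk ⟨n, hn⟩, rfl⟩
  rw [← Nat.card_congr (Equiv.ofBijective φ hφ), ← index_eq_card, mul_comm, card_mul_index]

namespace Tab

variable {G : Type*} [Group G] {T : Subgroup G} {f : Fin 128 → G} (hT : Tab T f)
include hT

theorem com_mm {a x y : Fin 128} (hx : Com x a) (hy : Com y a) : Com (mm x y) a := by
  rw [← hT.comm_iff, hT.mul]
  exact (((show Commute (f x) (f a) from (hT.comm_iff x a).2 hx).mul_left ((hT.comm_iff y a).2 hy))).eq

theorem com_zero (a : Fin 128) : Com 0 a := by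
  show mm 0 a = mm a 0
  rw [(mm_one a).1, (mm_one a).2]

/-- The centralizer of an element in `T`. -/
abbrev subC (a : Fin 128) : Subgroup G :=
  hT.sub (fun c => Com c a) (hT.com_zero a) fun _ _ => hT.com_mm

theorem card_subC_a {a : Fin 128} (hA : IA a) (hQ : ¬ IQ a) (hs : JankoSylow.sq a = 0) :
    Nat.card (hT.subC a) = 16 := by rw [hT.card_sub]; exact cent_a_card a hA hQ hs

theorem subC_elem {a : Fin 128} (hA : IA a) (hQ : ¬ IQ a) (hs : JankoSylow.sq a = 0) :
    ∀ x ∈ hT.subC a, x * x = 1 := by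
  rintro _ ⟨c, hc, rfl⟩
  exact (hT.sq_eq_one_iff c).2 ((cent_a a hA hQ hs).1 c hc).2

theorem subC_class {a : Fin 128} (hA : IA a) (hQ : ¬ IQ a) (hs : JankoSylow.sq a = 0) :
    hT.subC a = hT.subC 32 ∨ hT.subC a = hT.subC 35 := by
  rcases cent_a_class a hA hQ hs with h | h
  · left; ext x; simp only [mem_sub]; exact exists_congr fun c => and_congr_left fun _ => h c
  · right; ext x; simp only [mem_sub]; exact exists_congr fun c => and_congr_left fun _ => h c

theorem cj_subC (e : G) (he : e = f 1) : cj e (hT.subC 35) = hT.subC 32 := by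
  subst he
  have h1 : ∀ e : Fin 128, mm (mm 1 (mm (mm 1 e) 1)) 1 = e := by decide +kernel
  have hi : (f 1)⁻¹ = f 1 := by rw [← hT.map_inv, q_swaps.2.2.2]
  have hc : ∀ c, (f 1)⁻¹ * f c * f 1 = f (mm (mm 1 c) 1) := fun c => by rw [hi, ← hT.mul, ← hT.mul]
  ext x
  rw [mem_cj]
  constructor
  · rintro ⟨c, hc', e'⟩
    refine ⟨_, (cent_a_swap c).1 hc', ?_⟩
    rw [← hc, e']
    calc (f 1)⁻¹ * ((f 1)⁻¹ * x * f 1) * f 1 = ((f 1)⁻¹ * (f 1)⁻¹) * x * (f 1 * f 1) := by group
      _ = x := by rw [hi, (hT.sq_eq_one_iff 1).2 (by decide), one_mul, mul_one]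
  · rintro ⟨c, hc', rfl⟩
    refine ⟨mm (mm 1 c) 1, ?_, (hc c).symm⟩
    show Com _ 35
    rw [cent_a_swap, h1]
    exact hc'

theorem subA_normalizes {a : Fin 128} (hA : IA a) (hQ : ¬ IQ a) (hs : JankoSylow.sq a = 0) [Finite G] :
    hT.subA ≤ normalizer (hT.subC a : Set G) := by
  rintro _ ⟨t, ht, rfl⟩
  refine mem_normalizer_of_conj_mem ?_
  rintro _ ⟨e, he, rfl⟩
  refine ⟨_, ?_, (hT.map_conj t e).symm⟩
  rcases cent_a_class a hA hQ hs with h | h <;> rw [h] at he ⊢
  · exact (cent_a_normal t e ht).1 he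
  · exact (cent_a_normal t e ht).2 he

/-- An elementary abelian subgroup of order 16 is the centralizer of an involution outside `Q`. -/
theorem sixteen [Finite G] {E : Subgroup G} (hE : E ≤ T) (hsq : ∀ x ∈ E, x * x = 1)
    (hc : Nat.card E = 16) : ∃ a, IA a ∧ ¬ IQ a ∧ JankoSylow.sq a = 0 ∧ E = hT.subC a := by
  classical
  have hcode : ∀ x ∈ E, ∃ c, f c = x ∧ JankoSylow.sq c = 0 := fun x hx => by
    obtain ⟨c, rfl⟩ := hT.surj x (hE hx)
    exact ⟨c, rfl, (hT.sq_eq_one_iff c).1 (hsq _ hx)⟩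
  have hle : ∀ c, f c ∈ E → E ≤ hT.subC c := fun c hcE x hx => by
    obtain ⟨d, rfl, -⟩ := hcode x hx
    exact ⟨d, (hT.comm_iff d c).1 (comm_of_sq hsq hx hcE), rfl⟩
  by_cases hout : ∃ c, f c ∈ E ∧ ¬ IA c
  · exfalso
    obtain ⟨c, hcE, hcA⟩ := hout
    have hc0 := (hT.sq_eq_one_iff c).1 (hsq _ hcE)
    obtain ⟨hcard, e, he, d, hd, hed⟩ := cent_q_nonab c hc0 hcA
    have hEq : E = hT.subC c := eq_of_le_of_card_ge (hle c hcE) (by rw [hT.card_sub, hc]; exact hcard.le)
    refine hed ((hT.comm_iff e d).1 (comm_of_sq hsq ?_ ?_)) <;> rw [hEq]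
    exacts [⟨e, he, rfl⟩, ⟨d, hd, rfl⟩]
  push Not at hout
  obtain ⟨a, haE, haQ⟩ : ∃ a, f a ∈ E ∧ ¬ IQ a := by
    by_contra! h
    have h1 : E ≤ hT.subZA := fun x hx => by
      obtain ⟨c, rfl, hc0⟩ := hcode x hx
      exact ⟨c, invol_iaq c (hout c hx) (h c hx) hc0, rfl⟩
    have := card_le_of_le h1
    rw [hT.card_subZA, hc] at this
    omega
  have ha0 := (hT.sq_eq_one_iff a).1 (hsq _ haE)
  exact ⟨a, hout a haE, haQ, ha0, eq_of_le_of_card_ge (hle a haE)
    (by rw [hT.card_subC_a (hout a haE) haQ ha0, hc])⟩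

end Tab

namespace Loc

variable {C : Type*} [Group C] [Finite C] {S : Sylow 2 C} {f : Fin 128 → C} (L : Loc S f)
include L

/-- No conjugate of an elementary abelian subgroup of order 16 is normalised by a group of order 128. -/
theorem no_normal {E P : Subgroup C} (hsq : ∀ x ∈ E, x * x = 1) (hc : Nat.card E = 16)
    (hP : Nat.card P = 128) (hn : P ≤ normalizer (E : Set C)) : False := by
  obtain ⟨g, hg⟩ := exists_cj_le S (IsPGroup.of_card (n := 7) hP : IsPGroup 2 P)
  have hgS : cj g P = S := eq_of_le_of_card_ge hg (by rw [card_cj, hP, L.tab.card_eq])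
  have hnorm : (S : Subgroup C) ≤ normalizer (cj g E : Set C) := by
    rw [← hgS]
    intro x hx
    refine mem_normalizer_of_conj_mem fun y hy => ?_
    rw [mem_cj] at hx hy ⊢
    have := conj_mem_of_normalizer (hn hx) hy
    rwa [show g⁻¹ * x * g * (g⁻¹ * y * g) * (g⁻¹ * x * g)⁻¹ = g⁻¹ * (x * y * x⁻¹) * g by group] at this
  have hle : cj g E ≤ (S : Subgroup C) := by
    haveI : Fact (Nat.Prime 2) := ⟨Nat.prime_two⟩
    set N := normalizer (cj g E : Set C)
    have hEN : cj g E ≤ N := le_normalizer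
    haveI : ((cj g E).subgroupOf N).Normal := normal_subgroupOf_iff_le_normalizer hEN |>.2 le_rfl
    intro x hx
    exact (show IsPGroup 2 ((cj g E).subgroupOf N) from (isPGroup_of_sq (cj_sq hsq)).comap_subtype).le_sylow_of_normal
      (S.subtype hnorm) (show (⟨x, hEN hx⟩ : N) ∈ (cj g E).subgroupOf N from hx)
  obtain ⟨a, hA, hQ, hs, hE⟩ := L.tab.sixteen hle (cj_sq hsq) (by rw [card_cj, hc])
  rw [hE] at hnorm
  have h1 := conj_mem_of_normalizer (hnorm (L.tab.mem 1))
    (show f a ∈ L.tab.subC a from ⟨a, rfl, rfl⟩)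
  rw [L.tab.map_conj] at h1
  obtain ⟨c, hcc, e⟩ := h1
  exact cent_a_normalizer a 1 hA hQ hs q_swaps.2.2.1 (L.tab.inj e ▸ hcc)

theorem subA_cent : L.tab.subA ≤ centralizer ({f uc} : Set C) := by
  rintro _ ⟨c, hc, rfl⟩
  exact mem_centralizer_singleton_iff.2 ((L.tab.comm_iff c uc).2 hc)

/-- `A` is a Sylow subgroup of the centralizer of `u`. -/
theorem exists_sylow_cent : ∃ PA : Sylow 2 (centralizer ({f uc} : Set C)),
    (PA : Subgroup (centralizer ({f uc} : Set C))) = L.tab.subA.subgroupOf (centralizer ({f uc} : Set C)) := by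
  haveI : Fact (Nat.Prime 2) := ⟨Nat.prime_two⟩
  set Cu := centralizer ({f uc} : Set C)
  have hc : Nat.card (L.tab.subA.subgroupOf Cu) = 64 :=
    (Nat.card_congr (subgroupOfEquivOfLe L.subA_cent).toEquiv).trans L.tab.card_subA
  obtain ⟨PA, hPA⟩ := (IsPGroup.of_card (n := 6) hc : IsPGroup 2 (L.tab.subA.subgroupOf Cu)).exists_le_sylow
  refine ⟨PA, (eq_of_le_of_card_ge hPA ?_).symm⟩
  rw [hc]
  obtain ⟨k, hk⟩ := IsPGroup.iff_card.1 PA.2
  have hmap : Nat.card ((PA : Subgroup Cu).map Cu.subtype) = 2 ^ k := by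
    rw [card_map_of_injective Cu.subtype_injective, hk]
  obtain ⟨g, hg⟩ := exists_cj_le S (IsPGroup.of_card hmap : IsPGroup 2 ((PA : Subgroup Cu).map Cu.subtype))
  have hle := card_le_of_le hg
  rw [card_cj, hmap, L.tab.card_eq] at hle
  have h7 : k ≤ 7 := (Nat.pow_le_pow_iff_right (by norm_num)).1 hle
  rw [hk]
  by_contra hlt
  obtain rfl : k = 7 := by
    have h6 : 6 < k := (Nat.pow_lt_pow_iff_right (by norm_num)).1 (by omega : 2 ^ 6 < 2 ^ k)
    omega
  have hgS : cj g ((PA : Subgroup Cu).map Cu.subtype) = S :=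
    eq_of_le_of_card_ge hg (by rw [card_cj, hmap, L.tab.card_eq]; norm_num)
  have hu : g * f uc * g⁻¹ ∈ (S : Subgroup C) := by
    rw [← hgS, conj_mem_cj]
    refine ⟨⟨f uc, mem_centralizer_singleton_iff.2 rfl⟩, hPA ⟨uc, rfl, rfl⟩, rfl⟩
  obtain ⟨c, hc'⟩ := L.tab.surj _ hu
  have hcz : c = 0 ∨ c = zc := (centre c).1 fun b => (L.tab.comm_iff c b).1 (by
    obtain ⟨y, ⟨y', -, rfl⟩, ey⟩ := hgS.ge (L.tab.mem b)
    rw [hc', ← ey]
    show g * f uc * g⁻¹ * (g * y' * g⁻¹) = g * y' * g⁻¹ * (g * f uc * g⁻¹)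
    rw [show g * f uc * g⁻¹ * (g * y' * g⁻¹) = g * (f uc * y') * g⁻¹ by group,
      ← mem_centralizer_singleton_iff.1 y'.2]
    group)
  rcases hcz with rfl | rfl
  · exact absurd ((L.tab.eq_one_iff uc).1 (conj_eq_one_iff.1 (hc'.symm.trans L.tab.map_zero))) (by decide)
  · have e : f uc = f zc := by
      calc f uc = g⁻¹ * (g * f uc * g⁻¹) * g := by group
        _ = g⁻¹ * (f zc * g) := by rw [← hc', mul_assoc]
        _ = f zc := by rw [← L.central, inv_mul_cancel_left]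
    exact absurd (L.tab.inj e) (by decide)

/-- The fifth involution is not conjugate to an involution outside the Clifford group. -/
theorem not_conj_out {a : Fin 128} (hA : IA a) (hQ : ¬ IQ a) (hs : JankoSylow.sq a = 0) (g : C) :
    g * f uc * g⁻¹ ≠ f a := by
  classical
  intro hg
  haveI : Fact (Nat.Prime 2) := ⟨Nat.prime_two⟩
  set E := L.tab.subC a
  have hEsq := L.tab.subC_elem hA hQ hs
  have hEc := L.tab.card_subC_a hA hQ hs
  obtain ⟨PA, hPA⟩ := L.exists_sylow_cent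
  have hgE : cj g⁻¹ E ≤ centralizer ({f uc} : Set C) := by
    intro y hy
    rw [mem_cj, inv_inv] at hy
    obtain ⟨c, hc, e⟩ := hy
    rw [mem_centralizer_singleton_iff]
    have h1 := (L.tab.comm_iff c a).2 hc
    rw [e, ← hg] at h1
    calc y * f uc = g⁻¹ * (g * y * g⁻¹ * (g * f uc * g⁻¹)) * g := by group
      _ = g⁻¹ * (g * f uc * g⁻¹ * (g * y * g⁻¹)) * g := by rw [h1]
      _ = f uc * y := by group
  obtain ⟨k, hk⟩ := exists_cj_le PA (P := (cj g⁻¹ E).subgroupOf _)
    ((isPGroup_of_sq (cj_sq hEsq)).comap_subtype)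
  set c₁ := (k : C) * g⁻¹ with hc₁
  have hcA : cj c₁ E ≤ L.tab.subA := by
    rw [hc₁, ← cj_cj]
    intro y hy
    rw [mem_cj] at hy
    have hyk : (k : C)⁻¹ * y * k ∈ centralizer ({f uc} : Set C) := hgE hy
    have hyC : y ∈ centralizer ({f uc} : Set C) := by
      have := mul_mem (mul_mem k.2 hyk) (inv_mem k.2)
      rwa [show (k : C) * ((k : C)⁻¹ * y * k) * (k : C)⁻¹ = y by group] at this
    have := hk ((mem_cj (g := k) (x := ⟨y, hyC⟩)).2 hy)
    rw [hPA] at this
    exact this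
  obtain ⟨a', hA', hQ', hs', hE'⟩ := L.tab.sixteen (hcA.trans L.tab.sub_le) (cj_sq hEsq) (by rw [card_cj, hEc])
  have hca : c₁ * f a * c₁⁻¹ = f uc := by
    have hk2 := mem_centralizer_singleton_iff.1 k.2
    rw [hc₁, ← hg, show (k : C) * g⁻¹ * (g * f uc * g⁻¹) * ((k : C) * g⁻¹)⁻¹ = k * f uc * (k : C)⁻¹ by group,
      hk2, mul_inv_cancel_right]
  -- correct by an element outside `A`
  obtain ⟨c₂, hc₂E, hc₂a⟩ : ∃ c₂ : C, cj c₂ E = E ∧
      (c₂ * f a * c₂⁻¹ = f uc ∨ c₂ * f a * c₂⁻¹ = f (mm uc zc)) := by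
    have hflip : f 1 * f uc * (f 1)⁻¹ = f (mm uc zc) := by rw [L.tab.map_conj, q_swaps.1]
    have hq := L.tab.cj_subC (f 1) rfl
    have hq' : cj (f 1) (L.tab.subC 32) = L.tab.subC 35 := by
      rw [← hq, cj_cj, (L.tab.sq_eq_one_iff 1).2 (by decide), cj_one]
    rcases L.tab.subC_class hA hQ hs with hE | hE <;> rcases L.tab.subC_class hA' hQ' hs' with hE2 | hE2
    · exact ⟨c₁, by rw [hE', hE2]; exact hE.symm, Or.inl hca⟩
    · refine ⟨f 1 * c₁, ?_, Or.inr ?_⟩
      · rw [← cj_cj, hE', hE2, hq]; exact hE.symm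
      · rw [show f 1 * c₁ * f a * (f 1 * c₁)⁻¹ = f 1 * (c₁ * f a * c₁⁻¹) * (f 1)⁻¹ by group, hca, hflip]
    · refine ⟨f 1 * c₁, ?_, Or.inr ?_⟩
      · rw [← cj_cj, hE', hE2, hq']; exact hE.symm
      · rw [show f 1 * c₁ * f a * (f 1 * c₁)⁻¹ = f 1 * (c₁ * f a * c₁⁻¹) * (f 1)⁻¹ by group, hca, hflip]
    · exact ⟨c₁, by rw [hE', hE2]; exact hE.symm, Or.inl hca⟩
  set x := c₂ * f a * c₂⁻¹ with hx
  set N := normalizer (E : Set C)
  have hc₂N : c₂ ∈ N := mem_normalizer_of_cj hc₂E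
  set z := f zc with hzdef
  set O := {y : C // ∃ n ∈ N, n * x * n⁻¹ = y}
  -- the orbit of `x` has odd length
  have hodd : Odd (Nat.card O) := by
    rw [← Nat.not_even_iff_odd]
    intro he
    have hAN := L.tab.subA_normalizes hA hQ hs
    have h64 : 64 ∣ Nat.card ((centralizer ({x} : Set C)).subgroupOf N) := by
      rw [← L.tab.card_subA, ← Nat.card_congr (subgroupOfEquivOfLe hAN).toEquiv]
      refine card_dvd_of_le fun y hy => ?_
      rw [mem_subgroupOf, mem_centralizer_singleton_iff]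
      obtain ⟨c, hc, e⟩ := hy
      have hu : Com c uc ∧ Com c (mm uc zc) :=
        (by decide +kernel : ∀ c : Fin 128, IA c → Com c uc ∧ Com c (mm uc zc)) c hc
      rcases hc₂a with e' | e' <;> rw [e', show (y : C) = f c from e.symm]
      · exact (L.tab.comm_iff c uc).2 hu.1
      · exact (L.tab.comm_iff c (mm uc zc)).2 hu.2
    have h128 : 2 ^ 7 ∣ Nat.card N := by
      rw [← card_conj_orbit N x]
      show 2 * 64 ∣ _
      exact Nat.mul_dvd_mul (even_iff_two_dvd.1 he) h64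
    obtain ⟨P, hP⟩ := Sylow.exists_subgroup_card_pow_prime 2 h128
    exact L.no_normal hEsq hEc (P := P.map N.subtype)
      (by rw [card_map_of_injective N.subtype_injective, hP]; rfl) (map_subtype_le P)
  -- and is invariant under the central involution
  have hz : ∀ y : O, ∃ n ∈ N, n * x * n⁻¹ = (y : C) * z := by
    rintro ⟨y, n, hn, rfl⟩
    obtain ⟨t, ht, e⟩ := cent_a_coset a zc hA hQ hs (Or.inr (Or.inl rfl))
    refine ⟨n * c₂ * f t * c₂⁻¹, mul_mem (mul_mem (mul_mem hn hc₂N)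
      (L.tab.subA_normalizes hA hQ hs ⟨t, ht, rfl⟩)) (inv_mem hc₂N), ?_⟩
    have e' : f t * f a * (f t)⁻¹ = f a * z := by rw [L.tab.map_conj, e, L.tab.mul]
    calc n * c₂ * f t * c₂⁻¹ * x * (n * c₂ * f t * c₂⁻¹)⁻¹ = n * c₂ * (f t * f a * (f t)⁻¹) * (n * c₂)⁻¹ := by
          rw [hx]; group
      _ = n * c₂ * (f a * z) * (n * c₂)⁻¹ := by rw [e']
      _ = n * c₂ * f a * (z * (n * c₂)⁻¹) := by group
      _ = n * c₂ * f a * ((n * c₂)⁻¹ * z) := by rw [hzdef, L.central]
      _ = n * x * n⁻¹ * z := by rw [hx]; group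
  haveI : Fintype O := Fintype.ofFinite _
  have hzz : z * z = 1 := L.tab.z_sq
  let σ : Function.End O := fun y => ⟨y * z, hz y⟩
  have hσ : σ ^ 2 ^ 1 = 1 := funext fun y => Subtype.ext (by
    show (y : C) * z * z = y
    rw [mul_assoc, hzz, mul_one])
  have hmod := Equiv.Perm.card_fixedPoints_modEq (f := σ) hσ
  have hempty : Fintype.card (Function.fixedPoints σ) = 0 := by
    rw [Fintype.card_eq_zero_iff]
    refine ⟨fun ⟨y, hy⟩ => L.tab.z_ne ?_⟩
    have : (y : C) * z = y := congrArg Subtype.val hy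
    exact mul_left_cancel (this.trans (mul_one _).symm)
  rw [hempty, ← Nat.card_eq_fintype_card] at hmod
  exact (Nat.not_even_iff_odd.2 hodd) (Nat.even_iff.2 (by simpa [Nat.ModEq] using hmod))

theorem uc_conj {c : Fin 128} (hc : Sing c) : ∃ g : C, g * f uc * g⁻¹ = f c := by
  rcases sing_orbit c hc with rfl | rfl | ⟨t, ht⟩
  · exact ⟨1, by group⟩
  · exact ⟨f 1, by rw [L.tab.map_conj, q_swaps.1]⟩
  · obtain ⟨m, -, hm⟩ := L.moved
    rcases hm with hm | hm
    · refine ⟨f t * m⁻¹, ?_⟩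
      rw [← ht, ← L.tab.map_conj, ← hm]
      group
    · refine ⟨f t * m⁻¹ * f 1, ?_⟩
      rw [show f t * m⁻¹ * f 1 * f uc * (f t * m⁻¹ * f 1)⁻¹ =
          f t * m⁻¹ * (f 1 * f uc * (f 1)⁻¹) * m * (f t)⁻¹ by group, L.tab.map_conj 1, q_swaps.1,
        ← ht, ← L.tab.map_conj, ← hm]
      group

/-- `Q` is strongly closed modulo the centre. -/
theorem closed {c d : Fin 128} (hc : IQ c) {g : C} (h : g * f c * g⁻¹ = f d) : IQ d := by
  have hsq : f (JankoSylow.sq d) = g * f (JankoSylow.sq c) * g⁻¹ := by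
    rw [← L.tab.map_sq, ← L.tab.map_sq, ← h]; group
  by_cases hz : JankoSylow.sq c = zc
  · refine root_iq d (L.tab.inj ?_)
    rw [hsq, hz, L.central, mul_inv_cancel_right]
  have hc0 : JankoSylow.sq c = 0 := ((by decide +kernel : ∀ c : Fin 128, IQ c →
    JankoSylow.sq c = 0 ∨ JankoSylow.sq c = zc) c hc).resolve_right hz
  have hd0 : JankoSylow.sq d = 0 := by
    refine L.tab.inj ?_
    rw [hsq, hc0, L.tab.map_zero]; group
  by_cases h0 : c = 0
  · subst h0
    rw [L.tab.map_zero] at h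
    rw [show d = 0 from (L.tab.eq_one_iff d).1 (by rw [← h]; group)]
    decide
  by_cases h1 : c = zc
  · subst h1
    rw [L.central, mul_inv_cancel_right] at h
    rw [← L.tab.inj h]
    decide
  by_contra hd
  obtain ⟨k, hk⟩ := L.uc_conj ⟨hc, hc0, h0, h1⟩
  refine L.not_conj_out (by_contra fun hA => hd (invol_out d hd0 hA)) hd hd0 (g * k) ?_
  rw [← h, ← hk]
  group

end Loc

end CfsgLib.JankoSylow
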