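import Cfsg.Agent.SylL34.Tools

/-!
The odd core of a quotient by a central involution.
-/

set_option autoImplicit false
set_option linter.style.haveILetI false

namespace CfsgLib.JankoSylow

open Subgroup CfsgLib.SylL34

/-- The odd core lifts through a quotient by a central involution. -/
theorem core_lift {K Q : Type*} [Group K] [Finite K] [Group Q] [Finite Q] (π : K →* Q) {a : K}
    (ha : ∀ k : K, k * a = a * k) (haa : a * a = 1) (hker : ∀ k : K, π k = 1 ↔ k = 1 ∨ k = a) {x : K}
    (hx : π x ∈ Cfsg.oddCore Q) : ∃ o ∈ Cfsg.oddCore K, x = o ∨ x = o * a := by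
  classical
  haveI : (Cfsg.oddCore Q).Normal := ocore_normal
  haveI : Fact (Nat.Prime 2) := ⟨Nat.prime_two⟩
  set M := (Cfsg.oddCore Q).comap π with hM
  haveI : M.Normal := Normal.comap inferInstance π
  have haM : a ∈ M := by
    rw [hM, mem_comap, (hker a).2 (Or.inr rfl)]
    exact one_mem _
  obtain ⟨P⟩ : Nonempty (Sylow 2 M) := inferInstance
  have hP : ∀ y ∈ (P : Subgroup M), (y : K) = 1 ∨ (y : K) = a := by
    intro y hy
    obtain ⟨k, hk⟩ := P.2 ⟨y, hy⟩
    have hk' : (y : K) ^ 2 ^ k = 1 := congrArg (fun t : (P : Subgroup M) => ((t : M) : K)) hk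
    refine (hker _).1 (eq_one_odd_two (k := k) (odd_orderOf_of_mem ocore_odd y.2) ?_)
    rw [← map_pow, hk', map_one]
  obtain ⟨h1, -⟩ := twoNil P fun n _ => mem_centralizer_iff.2 fun y hy => Subtype.ext (by
    rcases hP y hy with e | e <;> push_cast <;> rw [e]
    · rw [one_mul, mul_one]
    · exact (ha _).symm)
  obtain ⟨o, ho, p, hp, e⟩ := h1 ⟨x, hx⟩
  have hle : (Cfsg.oddCore M).map M.subtype ≤ Cfsg.oddCore K := by
    refine le_ocore (normalizer_eq_top_iff.1 (top_le_iff.1 ?_))
      (by rw [card_map_of_injective M.subtype_injective]; exact ocore_odd)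
    exact (normalizer_eq_top_iff.2 (inferInstance : M.Normal)).ge.trans
      (LocalBalance.normalizer_le_normalizer_core (p := 2) M)
  refine ⟨o, hle ⟨o, ho, rfl⟩, ?_⟩
  have e' : x = (o : K) * (p : K) := congrArg Subtype.val e
  rcases hP p hp with h | h <;> rw [h] at e'
  · exact Or.inl (e'.trans (mul_one _))
  · exact Or.inr e'

end CfsgLib.JankoSylow
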