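import Cfsg.Agent.JankoSylow.Table
import Cfsg.Agent.SylL34.Fusion

/-!
Working with a parametrisation by the code table.
-/

set_option autoImplicit false
set_option linter.unusedSectionVars false

namespace CfsgLib.JankoSylow

open Subgroup

namespace Tab

variable {G : Type*} [Group G] {T : Subgroup G} {f : Fin 128 → G} (hT : Tab T f)
include hT

theorem map_zero : f 0 = 1 := by
  have := hT.mul 0 0
  rw [(mm_one 0).1] at this
  exact left_eq_mul.1 this

theorem map_inv (c : Fin 128) : f (inv c) = (f c)⁻¹ :=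
  eq_inv_of_mul_eq_one_left (by rw [← hT.mul, (mm_inv c).2, hT.map_zero])

theorem map_sq (c : Fin 128) : f c * f c = f (JankoSylow.sq c) := (hT.mul c c).symm

theorem sq_eq_one_iff (c : Fin 128) : f c * f c = 1 ↔ JankoSylow.sq c = 0 := by
  rw [hT.map_sq, ← hT.map_zero, hT.inj.eq_iff]

theorem sq_eq_iff (c d : Fin 128) : f c * f c = f d ↔ JankoSylow.sq c = d := by
  rw [hT.map_sq, hT.inj.eq_iff]

theorem comm_iff (a b : Fin 128) : f a * f b = f b * f a ↔ Com a b := by
  rw [← hT.mul, ← hT.mul, hT.inj.eq_iff]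

theorem map_conj (t c : Fin 128) : f t * f c * (f t)⁻¹ = f (mm (mm t c) (inv t)) := by
  rw [hT.mul, hT.mul, hT.map_inv]

theorem eq_one_iff (c : Fin 128) : f c = 1 ↔ c = 0 := by rw [← hT.map_zero, hT.inj.eq_iff]

theorem z_ne : f zc ≠ 1 := fun h => absurd ((hT.eq_one_iff zc).1 h) (by decide)

theorem z_sq : f zc * f zc = 1 := (hT.sq_eq_one_iff zc).2 (by decide)

theorem eqz_iff (a b : Fin 128) : Eqz a b ↔ f a = f b ∨ f a = f b * f zc := by
  rw [← hT.mul, hT.inj.eq_iff, hT.inj.eq_iff]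

theorem card_eq : Nat.card T = 128 := by
  refine (Nat.card_congr (Equiv.ofBijective (fun c => (⟨f c, hT.mem c⟩ : T)) ⟨?_, ?_⟩)).symm.trans
    (Nat.card_fin 128)
  · exact fun x y h => hT.inj (congrArg Subtype.val h :)
  · rintro ⟨x, hx⟩
    obtain ⟨c, rfl⟩ := hT.surj x hx
    exact ⟨c, rfl⟩

/-- The subgroup given by a set of codes closed under products. -/
def sub (P : Fin 128 → Prop) (h0 : P 0) (hm : ∀ a b, P a → P b → P (mm a b)) : Subgroup G where
  carrier := {x | ∃ c, P c ∧ f c = x}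
  one_mem' := ⟨0, h0, hT.map_zero⟩
  mul_mem' := by
    rintro _ _ ⟨a, ha, rfl⟩ ⟨b, hb, rfl⟩
    exact ⟨mm a b, hm a b ha hb, hT.mul a b⟩
  inv_mem' := by
    rintro _ ⟨a, ha, rfl⟩
    refine ⟨mm a (mm (JankoSylow.sq a) (JankoSylow.sq (JankoSylow.sq a))), ?_, hT.map_inv a⟩
    exact hm _ _ ha (hm _ _ (hm _ _ ha ha) (hm _ _ (hm _ _ ha ha) (hm _ _ ha ha)))

theorem mem_sub {P : Fin 128 → Prop} {h0 : P 0} {hm : ∀ a b, P a → P b → P (mm a b)} {x : G} :
    x ∈ hT.sub P h0 hm ↔ ∃ c, P c ∧ f c = x := Iff.rfl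

theorem sub_le {P : Fin 128 → Prop} {h0 : P 0} {hm : ∀ a b, P a → P b → P (mm a b)} :
    hT.sub P h0 hm ≤ T := by
  rintro _ ⟨c, -, rfl⟩
  exact hT.mem c

theorem card_sub (P : Fin 128 → Prop) [DecidablePred P] (h0 : P 0)
    (hm : ∀ a b, P a → P b → P (mm a b)) :
    Nat.card (hT.sub P h0 hm) = (Finset.univ.filter P).card := by
  rw [← Fintype.card_subtype, ← Nat.card_eq_fintype_card]
  refine (Nat.card_congr (Equiv.ofBijective
    (fun c : {c : Fin 128 // P c} => (⟨f c.1, c.1, c.2, rfl⟩ : hT.sub P h0 hm)) ⟨?_, ?_⟩)).symm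
  · exact fun x y h => Subtype.ext (hT.inj (congrArg Subtype.val h :))
  · rintro ⟨x, c, hc, rfl⟩
    exact ⟨⟨c, hc⟩, rfl⟩

/-- The Clifford group `Q`. -/
abbrev subQ : Subgroup G := hT.sub (fun c => IQ c) (by decide) iq_mm

/-- `A = C_T(u)`. -/
abbrev subA : Subgroup G := hT.sub (fun c => IA c) (by decide) ia_mm

/-- The centre of `A`. -/
abbrev subZA : Subgroup G := hT.sub (fun c => IZA c) (by decide) iza_mm

theorem card_subQ : Nat.card hT.subQ = 32 := by rw [hT.card_sub]; decide +kernel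

theorem card_subA : Nat.card hT.subA = 64 := by rw [hT.card_sub]; decide +kernel

theorem card_subZA : Nat.card hT.subZA = 4 := by rw [hT.card_sub]; decide +kernel

end Tab

end CfsgLib.JankoSylow
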