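import Cfsg.Agent.JankoSylow.Closed
import Cfsg.Agent.SylL34.Central

/-!
The centralizer of the fifth involution modulo the centre: the Clifford group is normal modulo the odd core.
-/

set_option autoImplicit false
set_option linter.unusedSectionVars false
set_option linter.style.haveILetI false

namespace CfsgLib.JankoSylow

open Subgroup CfsgLib.SylL34

theorem dat_facts :
    (∀ e : Fin 128, Com e 32 → IA e) ∧ (∀ e : Fin 128, Com e 35 → IA e) ∧
    (∀ e : Fin 128, Com e 32 → sq e = 0) ∧ (∀ e : Fin 128, Com e 35 → sq e = 0) ∧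
    (∀ e : Fin 128, Com e 32 ∧ Com e 35 ↔ IZA e) ∧
    (∀ e : Fin 128, IA e → sq e = 0 → Com e 32 ∨ Com e 35) ∧
    (∀ w : Fin 128, IZA w → ∀ x : Fin 128, IA x → Com w x) := by decide +kernel

theorem dat_self : ∀ a : Fin 128, Com a 32 → ¬ Com a 35 → ∀ b : Fin 128, Com b 35 → Com a b →
    Com b 32 := by decide +kernel

theorem aq_swap : ∀ w : Fin 128, IA w → IQ w → Eqz (mm (mm 1 w) 1) w := by decide +kernel

theorem iq_split : ∀ c : Fin 128, IQ c → IA c ∨ (IA (mm c 1) ∧ IQ (mm c 1)) := by decide +kernel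

/-- An element of odd order congruent to an involution modulo an odd subgroup it normalises. -/
theorem mem_of_odd_mul {G : Type*} [Group G] {O : Subgroup G} {o e : G} (ho : o ∈ O) (he : e * e = 1)
    (hn : ∀ x ∈ O, e * x * e⁻¹ ∈ O) (hodd : Odd (orderOf (o * e))) : e ∈ O := by
  have h2 : o * e * (o * e) ∈ O := by
    rw [show o * e * (o * e) = o * (e * o * e⁻¹) * (e * e) by group, he, mul_one]
    exact mul_mem ho (hn o ho)
  obtain ⟨j, hj⟩ := hodd
  have h1 : o * e = ((o * e * (o * e)) ^ j)⁻¹ := by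
    refine eq_inv_of_mul_eq_one_left ?_
    rw [← pow_two, ← pow_mul, ← pow_succ', ← hj, pow_orderOf_eq_one]
  have h3 : o * e ∈ O := h1 ▸ inv_mem (pow_mem h2 j)
  exact (mul_mem_cancel_left ho).1 h3

namespace Loc

variable {C : Type*} [Group C] [Finite C] {S : Sylow 2 C} {f : Fin 128 → C} (L : Loc S f)
include L

/-- The odd core of `C(u)`. -/
def Ou (_L : Loc S f) : Subgroup C :=
  (Cfsg.oddCore (centralizer ({f uc} : Set C))).map (centralizer ({f uc} : Set C)).subtype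

/-- The elements fixing the fifth involution modulo the centre normalise its core. -/
theorem normalizes_Ou {g : C} (hg : g * f uc * g⁻¹ = f uc ∨ g * f uc * g⁻¹ = f (mm uc zc)) :
    g ∈ normalizer (L.Ou : Set C) := by
  refine LocalBalance.normalizer_le_normalizer_core (p := 2) _ (mem_normalizer_of_conj_mem fun y hy => ?_)
  rw [mem_centralizer_singleton_iff] at hy ⊢
  have hy' : g * y * g⁻¹ * (g * f uc * g⁻¹) = g * f uc * g⁻¹ * (g * y * g⁻¹) := by
    rw [show g * y * g⁻¹ * (g * f uc * g⁻¹) = g * (y * f uc) * g⁻¹ by group, hy]; group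
  rcases hg with e | e <;> rw [e] at hy'
  · exact hy'
  · rw [L.tab.mul, ← mul_assoc, mul_assoc (f uc), ← L.central (g * y * g⁻¹), ← mul_assoc] at hy'
    exact mul_right_cancel hy'

theorem Ou_odd : Odd (Nat.card L.Ou) := by
  rw [Ou, card_map_of_injective (centralizer ({f uc} : Set C)).subtype_injective]
  exact ocore_odd

/-- The structure of `C(u)` and of the centralizer of `A` in it. -/
theorem cu_decomp :
    (∀ y : C, y * f uc = f uc * y →
      ∃ o ∈ L.Ou, ∃ n, n * f uc = f uc * n ∧ n ∈ normalizer (L.tab.subA : Set C) ∧ y = o * n) ∧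
    (∀ h : C, h * f uc = f uc * h → (∀ a ∈ L.tab.subA, h * a = a * h) →
      ∃ o ∈ L.Ou, ∃ w ∈ L.tab.subZA, h = o * w) := by
  classical
  set Cu := centralizer ({f uc} : Set C) with hCu
  obtain ⟨PA, hPA⟩ := L.exists_sylow_cent
  set A' := (L.tab.subC 32).subgroupOf Cu
  set B' := (L.tab.subC 35).subgroupOf Cu
  have hAle : L.tab.subC 32 ≤ L.tab.subA := by
    rintro _ ⟨c, hc, rfl⟩; exact ⟨c, dat_facts.1 c hc, rfl⟩
  have hBle : L.tab.subC 35 ≤ L.tab.subA := by
    rintro _ ⟨c, hc, rfl⟩; exact ⟨c, dat_facts.2.1 c hc, rfl⟩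
  have hcard : ∀ X : Subgroup C, X ≤ L.tab.subA → Nat.card (X.subgroupOf Cu) = Nat.card X := fun X hX =>
    Nat.card_congr (subgroupOfEquivOfLe (hX.trans L.subA_cent)).toEquiv
  have hmem : ∀ x : Cu, x ∈ A' ⊓ B' → ∃ c, IZA c ∧ f c = (x : C) := by
    rintro x ⟨⟨c, hc, e⟩, ⟨d, hd, e'⟩⟩
    obtain rfl := L.tab.inj (e.trans e'.symm)
    exact ⟨c, (dat_facts.2.2.2.2.1 c).1 ⟨hc, hd⟩, e⟩
  have D : SylL34.Dat PA A' B' := by
    refine ⟨?_, ?_, fun x hx => Subtype.ext ?_, fun x hx => Subtype.ext ?_, ?_, ?_, ?_, ?_, ?_, ?_, ?_⟩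
    · rw [hPA]; exact fun x hx => hAle hx
    · rw [hPA]; exact fun x hx => hBle hx
    · exact L.tab.subC_elem (a := 32) (by decide +kernel) (by decide) (by decide +kernel) (x : C) hx
    · exact L.tab.subC_elem (a := 35) (by decide +kernel) (by decide) (by decide +kernel) (x : C) hx
    · rw [hcard _ hAle, L.tab.card_subC_a (a := 32) (by decide +kernel) (by decide) (by decide +kernel)]
    · rw [hcard _ hBle, L.tab.card_subC_a (a := 35) (by decide +kernel) (by decide) (by decide +kernel)]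
    · rw [show A' ⊓ B' = (L.tab.subC 32 ⊓ L.tab.subC 35).subgroupOf Cu from rfl,
        hcard _ (inf_le_left.trans hAle), show L.tab.subC 32 ⊓ L.tab.subC 35 = L.tab.subZA from ?_,
        L.tab.card_subZA]
      ext x
      constructor
      · rintro ⟨⟨c, hc, rfl⟩, ⟨d, hd, e⟩⟩
        obtain rfl := L.tab.inj e
        exact ⟨d, (dat_facts.2.2.2.2.1 d).1 ⟨hc, hd⟩, rfl⟩
      · rintro ⟨c, hc, rfl⟩
        exact ⟨⟨c, ((dat_facts.2.2.2.2.1 c).2 hc).1, rfl⟩, ⟨c, ((dat_facts.2.2.2.2.1 c).2 hc).2, rfl⟩⟩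
    · rw [hPA, hcard _ le_rfl, L.tab.card_subA]
    · intro x hx h
      rw [hPA] at hx
      obtain ⟨c, hc, e⟩ := hx
      have hc0 : JankoSylow.sq c = 0 := (L.tab.sq_eq_one_iff c).1 (by rw [e]; exact congrArg Subtype.val h)
      exact (dat_facts.2.2.2.2.2.1 c hc hc0).imp (fun h => ⟨c, h, e⟩) (fun h => ⟨c, h, e⟩)
    · intro w hw x hx
      obtain ⟨c, hc, e⟩ := hmem w hw
      rw [hPA] at hx
      obtain ⟨d, hd, e'⟩ := hx
      refine Subtype.ext ?_
      show (w : C) * x = x * w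
      rw [← e, show (x : C) = f d from e'.symm]
      exact (L.tab.comm_iff c d).2 (dat_facts.2.2.2.2.2.2 c hc d hd)
    · rintro a ⟨c, hc, e⟩ haB b ⟨d, hd, e'⟩ hab
      refine ⟨d, dat_self c hc (fun h => haB ⟨c, h, e⟩) d hd ((L.tab.comm_iff c d).1 ?_), e'⟩
      rw [e, e']
      exact congrArg Subtype.val hab
  have hcz : ∀ y : Cu, ∀ w : Cu, (∃ c, IZA c ∧ f c = (w : C)) → y * w = w * y := by
    rintro y w ⟨c, hc, e⟩
    refine Subtype.ext ?_
    show (y : C) * w = w * y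
    rw [← e]
    have hu := mem_centralizer_singleton_iff.1 y.2
    rcases hc with rfl | rfl | rfl | rfl
    · rw [L.tab.map_zero, one_mul, mul_one]
    · exact L.central y
    · exact hu
    · rw [L.tab.mul, ← mul_assoc, hu, mul_assoc, L.central, ← mul_assoc]
  -- centralizers of central elements are everything
  have hcore : ∀ X : Subgroup Cu, X = ⊤ → (Cfsg.oddCore X).map X.subtype ≤ Cfsg.oddCore Cu := by
    intro X hX
    haveI : X.Normal := hX ▸ inferInstance
    refine le_ocore (normalizer_eq_top_iff.1 (top_le_iff.1 ?_))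
      (by rw [card_map_of_injective X.subtype_injective]; exact ocore_odd)
    exact (normalizer_eq_top_iff.2 (inferInstance : X.Normal)).ge.trans
      (LocalBalance.normalizer_le_normalizer_core (p := 2) X)
  have htop : centralizer ((A' ⊓ B' : Subgroup Cu) : Set Cu) = ⊤ :=
    top_le_iff.1 fun y _ => mem_centralizer_iff.2 fun w hw => (hcz y w (hmem w hw)).symm
  refine ⟨fun y hy => ?_, fun h hh hha => ?_⟩
  · obtain ⟨o, ho, n, hn, -, e⟩ := D.cZ_decomp (c := (⟨y, mem_centralizer_singleton_iff.2 hy⟩ : Cu))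
      (htop ▸ mem_top _)
    refine ⟨o, ⟨o, hcore _ htop ho, rfl⟩, n, mem_centralizer_singleton_iff.1 n.2,
      mem_normalizer_of_conj_mem fun a ha => ?_, congrArg Subtype.val e⟩
    rw [hPA] at hn
    exact (mem_normalizer_iff.1 hn ⟨a, L.subA_cent ha⟩).1 ha
  · set z' : Cu := ⟨f zc, mem_centralizer_singleton_iff.2 (L.central (f uc)).symm⟩
    have hz' : z' ∈ A' ⊓ B' := ⟨⟨zc, ((dat_facts.2.2.2.2.1 zc).2 (Or.inr (Or.inl rfl))).1, rfl⟩,
      ⟨zc, ((dat_facts.2.2.2.2.1 zc).2 (Or.inr (Or.inl rfl))).2, rfl⟩⟩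
    have hz1 : z' ≠ 1 := fun e => L.tab.z_ne (congrArg Subtype.val e)
    have htz : centralizer ({z'} : Set Cu) = ⊤ :=
      top_le_iff.1 fun y _ => mem_centralizer_singleton_iff.2 (Subtype.ext (L.central y))
    obtain ⟨o, ho, w, hw, e⟩ := D.cS_decomp hz' hz1 (h := (⟨h, mem_centralizer_singleton_iff.2 hh⟩ : Cu))
      (mem_centralizer_iff.2 fun a ha => by
        rw [SetLike.mem_coe, hPA] at ha
        exact Subtype.ext (hha a ha).symm)
    obtain ⟨c, hc, ec⟩ := hmem w hw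
    exact ⟨o, ⟨o, hcore _ htz ho, rfl⟩, w, ⟨c, hc, ec⟩, congrArg Subtype.val e⟩

/-- An element of `C(u)` normalising `A` and acting trivially on `(A ∩ Q) / ⟨z⟩` lies in `A` modulo the core. -/
theorem trivial_action {c : C} (hcu : c * f uc = f uc * c) (hcA : c ∈ normalizer (L.tab.subA : Set C))
    (hW : ∀ w, IA w → IQ w → c * f w * c⁻¹ = f w ∨ c * f w * c⁻¹ = f w * f zc) :
    ∃ a ∈ L.tab.subA, ∃ o ∈ L.Ou, c = a * o := by
  classical
  set Cu := centralizer ({f uc} : Set C)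
  obtain ⟨PA, hPA⟩ := L.exists_sylow_cent
  obtain ⟨m, k, hm, hmk⟩ := exists_odd_pow c
  have hmk' : (c ^ m) ^ 2 ^ (k + 1) = 1 := by rw [pow_succ, pow_mul, hmk, one_pow]
  have hcm : c ^ m ∈ L.tab.subA := by
    have hx : (⟨c ^ m, pow_mem (mem_centralizer_singleton_iff.2 hcu) m⟩ : Cu) ∈ (PA : Subgroup Cu) := by
      refine mem_of_two (k := k) (Subtype.ext hmk) ?_
      rw [hPA]
      refine mem_normalizer_of_conj_mem fun a ha => ?_
      exact (mem_normalizer_iff.1 (pow_mem hcA m) (a : C)).1 ha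
    rw [hPA] at hx
    exact hx
  set s := c * c with hs
  set c' := c ^ 2 ^ (k + 1) with hc'
  have hW' : ∀ w, IA w → IQ w → c' * f w = f w * c' := by
    intro w hA hQ
    have h2 : Commute s (f w) := by
      show s * f w = f w * s
      refine mul_inv_eq_iff_eq_mul.1 ?_
      rw [hs, show c * c * f w * (c * c)⁻¹ = c * (c * f w * c⁻¹) * c⁻¹ by group]
      rcases hW w hA hQ with e | e
      · rw [e, e]
      · rw [e, show c * (f w * f zc) * c⁻¹ = c * f w * c⁻¹ * (c * f zc * c⁻¹) by group, e, L.central c,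
          mul_inv_cancel_right, mul_assoc, L.tab.z_sq, mul_one]
    rw [hc', pow_succ', pow_mul, pow_two, ← hs]
    exact (h2.pow_left _).eq
  have hcu' : ∀ j : ℕ, c ^ j * f uc = f uc * c ^ j := fun j =>
    ((show Commute c (f uc) from hcu).pow_left j).eq
  -- `c'` centralizes `A`
  have hA' : ∀ a ∈ L.tab.subA, c' * a = a * c' := by
    rintro _ ⟨a, ha, rfl⟩
    obtain ⟨d, hd, ed⟩ := conj_mem_of_normalizer (pow_mem hcA (2 ^ (k + 1))) (show f a ∈ L.tab.subA from ⟨a, ha, rfl⟩)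
    obtain ⟨v, hv⟩ : ∃ v, f v = (f a)⁻¹ * (c' * f a * c'⁻¹) :=
      L.tab.surj _ (mul_mem (inv_mem (L.tab.mem a)) (ed ▸ L.tab.mem d))
    have hvZ : IZA v := by
      refine cent_aq v fun w hA hQ => (L.tab.comm_iff v w).1 ?_
      have h1 : f a * f w * (f a)⁻¹ = f (mm (mm a w) (inv a)) := L.tab.map_conj a w
      obtain ⟨hA2, hQ2⟩ := aq_normal a w hA hQ
      have h2 : c' * (f a * f w * (f a)⁻¹) * c'⁻¹ = f a * f w * (f a)⁻¹ := by
        rw [h1, hW' _ hA2 hQ2, mul_inv_cancel_right]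
      have h3 : c'⁻¹ * f w * c' = f w := by rw [mul_assoc, ← hW' w hA hQ, inv_mul_cancel_left]
      rw [hv]
      calc (f a)⁻¹ * (c' * f a * c'⁻¹) * f w
          = (f a)⁻¹ * (c' * f a * (c'⁻¹ * f w * c') * (f a)⁻¹ * c'⁻¹) * (c' * f a * c'⁻¹) := by group
        _ = (f a)⁻¹ * (c' * (f a * f w * (f a)⁻¹) * c'⁻¹) * (c' * f a * c'⁻¹) := by rw [h3]; group
        _ = (f a)⁻¹ * (f a * f w * (f a)⁻¹) * (c' * f a * c'⁻¹) := by rw [h2]
        _ = f w * ((f a)⁻¹ * (c' * f a * c'⁻¹)) := by group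
    have hfix : c' * f v = f v * c' := by
      rcases hvZ with rfl | rfl | rfl | rfl
      · rw [L.tab.map_zero, one_mul, mul_one]
      · exact L.central _
      · exact hcu' _
      · rw [L.tab.mul, ← mul_assoc, hcu', mul_assoc, L.central, ← mul_assoc]
    have hea : c' * f a = f a * f v * c' := by rw [hv]; group
    have hiter : ∀ i : ℕ, c' ^ i * f a = f a * f v ^ i * c' ^ i := by
      intro i
      induction i with
      | zero => simp
      | succ i ih =>
        rw [pow_succ c', mul_assoc, hea, ← mul_assoc, ← mul_assoc, ih, mul_assoc _ (c' ^ i) (f v),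
          ((show Commute c' (f v) from hfix).pow_left i).eq, pow_succ (f v)]
        group
    have hcm1 : c' ^ m = 1 := by rw [hc', ← pow_mul, mul_comm, pow_mul, hmk']
    have h := hiter m
    rw [hcm1, one_mul, mul_one, left_eq_mul] at h
    have hv1 : f v = 1 := by
      obtain ⟨j, hj⟩ := hm
      rw [hj, pow_succ, pow_mul, pow_two,
        (L.tab.sq_eq_one_iff v).2 ((by decide +kernel : ∀ v, IZA v → JankoSylow.sq v = 0) v hvZ), one_pow,
        one_mul] at h
      exact h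
    rw [hea, hv1, mul_one]
  -- Bezout
  have hcop : Nat.gcd m (2 ^ (k + 1)) = 1 :=
    Nat.Coprime.pow_right _ (Nat.coprime_two_right.2 hm)
  have hc : c = (c ^ m) ^ Nat.gcdA m (2 ^ (k + 1)) * c' ^ Nat.gcdB m (2 ^ (k + 1)) := by
    have h := Nat.gcd_eq_gcd_ab m (2 ^ (k + 1))
    rw [hcop] at h
    rw [hc', ← zpow_natCast c m, ← zpow_natCast c (2 ^ (k + 1)), ← zpow_mul, ← zpow_mul, ← zpow_add, ← h,
      Nat.cast_one, zpow_one]
  obtain ⟨o, ho, w, hw, e⟩ := L.cu_decomp.2 (c' ^ Nat.gcdB m (2 ^ (k + 1)))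
    ((show Commute c' (f uc) from hcu' _).zpow_left _).eq
    (fun a ha => ((show Commute c' a from hA' a ha).zpow_left _).eq)
  obtain ⟨wc, hwc, rfl⟩ := hw
  have how : o * f wc = f wc * o := by
    obtain ⟨o', -, rfl⟩ := ho
    have hu := mem_centralizer_singleton_iff.1 o'.2
    rcases hwc with rfl | rfl | rfl | rfl
    · rw [L.tab.map_zero, one_mul, mul_one]
    · exact L.central _
    · exact hu
    · show (o' : C) * _ = _ * (o' : C)
      rw [L.tab.mul, ← mul_assoc, hu, mul_assoc, L.central, ← mul_assoc]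
  refine ⟨(c ^ m) ^ Nat.gcdA m (2 ^ (k + 1)) * f wc,
    mul_mem (zpow_mem hcm _) ⟨wc, ((iza_iff wc).1 hwc).1, rfl⟩, o, ho, ?_⟩
  rw [mul_assoc, ← how, ← e]
  exact hc

/-- The Clifford group is normal modulo the core in the stabiliser of the fifth involution modulo the centre. -/
theorem stab_decomp {g : C} (hg : g * f uc * g⁻¹ = f uc ∨ g * f uc * g⁻¹ = f (mm uc zc)) :
    ∃ o ∈ L.Ou, ∃ n ∈ normalizer (L.tab.subQ : Set C), g = o * n := by
  classical
  haveI : Fact (Nat.Prime 2) := ⟨Nat.prime_two⟩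
  have hTu : ∀ t : Fin 128, f t * f uc * (f t)⁻¹ = f uc ∨ f t * f uc * (f t)⁻¹ = f (mm uc zc) := fun t => by
    rw [L.tab.map_conj]
    rcases (by decide +kernel : ∀ t : Fin 128, mm (mm t uc) (inv t) = uc ∨ mm (mm t uc) (inv t) = mm uc zc) t
      with e | e <;> rw [e]
    · exact Or.inl rfl
    · exact Or.inr rfl
  set M := L.Ou ⊔ L.tab.subQ with hM
  have hQO : L.tab.subQ ≤ normalizer (L.Ou : Set C) := by
    rintro _ ⟨c, -, rfl⟩; exact L.normalizes_Ou (hTu c)
  have hq : f 1 ∈ L.tab.subQ := ⟨1, by decide, rfl⟩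
  have hq1 : (f 1)⁻¹ = f 1 := by rw [← L.tab.map_inv, q_swaps.2.2.2]
  have hqu : f 1 * f uc * (f 1)⁻¹ = f (mm uc zc) := by rw [L.tab.map_conj, q_swaps.1]
  have hqA : f 1 ∈ normalizer (L.tab.subA : Set C) := mem_normalizer_of_conj_mem (by
    rintro _ ⟨a, ha, rfl⟩
    exact ⟨_, ia_normal 1 a ha, (L.tab.map_conj 1 a).symm⟩)
  -- elements of `C(u)` normalising `A`
  have hnA : ∀ n : C, n * f uc = f uc * n → n ∈ normalizer (L.tab.subA : Set C) →
      n ∈ normalizer (M : Set C) := by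
    intro n hnu hnN
    have hnO : n ∈ normalizer (L.Ou : Set C) := L.normalizes_Ou (Or.inl (by rw [hnu, mul_inv_cancel_right]))
    have hW : ∀ m : C, m ∈ normalizer (L.tab.subA : Set C) → ∀ w, IA w → IQ w →
        ∃ d, IA d ∧ IQ d ∧ m * f w * m⁻¹ = f d := by
      intro m hm w hA hQ
      obtain ⟨d, hd, e⟩ := conj_mem_of_normalizer hm (show f w ∈ L.tab.subA from ⟨w, hA, rfl⟩)
      exact ⟨d, hd, L.closed hQ e.symm, e.symm⟩
    set x := n * f 1 * n⁻¹ with hx
    have hxu : x * f uc * x⁻¹ = f (mm uc zc) := by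
      have e2 : n * f (mm uc zc) * n⁻¹ = f (mm uc zc) := by
        rw [L.tab.mul, ← mul_assoc, hnu, mul_assoc (f uc), L.central, ← mul_assoc, mul_inv_cancel_right]
      rw [hx, show n * f 1 * n⁻¹ * f uc * (n * f 1 * n⁻¹)⁻¹ =
        n * (f 1 * (n⁻¹ * f uc * n) * (f 1)⁻¹) * n⁻¹ by group,
        show n⁻¹ * f uc * n = f uc by rw [mul_assoc, ← hnu, inv_mul_cancel_left], hqu, e2]
    have hcu : x * f 1 * f uc = f uc * (x * f 1) := by
      refine mul_inv_eq_iff_eq_mul.1 ?_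
      rw [show x * f 1 * f uc * (x * f 1)⁻¹ = x * (f 1 * f uc * (f 1)⁻¹) * x⁻¹ by group, hqu, L.tab.mul,
        show x * (f uc * f zc) * x⁻¹ = x * f uc * x⁻¹ * (x * f zc * x⁻¹) by group, hxu, L.central x,
        mul_inv_cancel_right, L.tab.mul, mul_assoc, L.tab.z_sq, mul_one]
    have hxA : x ∈ normalizer (L.tab.subA : Set C) := mul_mem (mul_mem hnN hqA) (inv_mem hnN)
    have hact : ∀ w, IA w → IQ w →
        x * f 1 * f w * (x * f 1)⁻¹ = f w ∨ x * f 1 * f w * (x * f 1)⁻¹ = f w * f zc := by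
      have h1 : ∀ w, IA w → IQ w → f 1 * f w * (f 1)⁻¹ = f w ∨ f 1 * f w * (f 1)⁻¹ = f w * f zc :=
        fun w hA hQ => by
          rw [hq1, ← L.tab.mul, ← L.tab.mul]
          rcases aq_swap w hA hQ with e | e <;> rw [e]
          · exact Or.inl rfl
          · exact Or.inr (L.tab.mul _ _)
      have hz : ∀ (g y : C), g * (y * f zc) * g⁻¹ = g * y * g⁻¹ * f zc := fun g y => by
        rw [← mul_assoc, mul_assoc (g * y), ← L.central, ← mul_assoc]
      have h2 : ∀ w, IA w → IQ w → x * f w * x⁻¹ = f w ∨ x * f w * x⁻¹ = f w * f zc := by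
        intro w hA hQ
        obtain ⟨d, hd, hdQ, e⟩ := hW n⁻¹ (inv_mem hnN) w hA hQ
        rw [inv_inv] at e
        have e' : n * f d * n⁻¹ = f w := by rw [← e]; group
        rw [hx, show n * f 1 * n⁻¹ * f w * (n * f 1 * n⁻¹)⁻¹ = n * (f 1 * (n⁻¹ * f w * n) * (f 1)⁻¹) * n⁻¹ by group, e]
        rcases h1 d hd hdQ with h | h <;> rw [h]
        · exact Or.inl e'
        · rw [hz, e']; exact Or.inr rfl
      intro w hA hQ
      rw [show x * f 1 * f w * (x * f 1)⁻¹ = x * (f 1 * f w * (f 1)⁻¹) * x⁻¹ by group]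
      rcases h1 w hA hQ with h | h <;> rw [h]
      · exact h2 w hA hQ
      · rw [hz]
        rcases h2 w hA hQ with h' | h' <;> rw [h']
        · exact Or.inr rfl
        · exact Or.inl (by rw [mul_assoc, L.tab.z_sq, mul_one])
    obtain ⟨a, ⟨ac, hac, rfl⟩, o, ho, e⟩ := L.trivial_action hcu (mul_mem hxA hqA) hact
    -- the image of `q` lies in `M`
    set y := f ac * f 1 with hy
    set o' := f ac * o * (f ac)⁻¹ with ho'
    have ho'O : o' ∈ L.Ou := conj_mem_of_normalizer (L.normalizes_Ou (hTu ac)) ho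
    have hxy : x = o' * y := by
      calc x = x * f 1 * (f 1)⁻¹ := by group
        _ = o' * y := by rw [e, hq1, ho', hy]; group
    have hxx : x * x = 1 := conj_sq n (f 1) ((L.tab.sq_eq_one_iff 1).2 (by decide))
    have hyT : y ∈ (S : Subgroup C) := mul_mem (L.tab.mem ac) (L.tab.mem 1)
    have hyy : y * y = 1 := by
      obtain ⟨d, hd⟩ := L.tab.surj y hyT
      refine inf_eq_bot_of_odd L.Ou_odd S.2 ?_ (mul_mem hyT hyT)
      have hyo : y * o' * y⁻¹ ∈ L.Ou := conj_mem_of_normalizer (L.normalizes_Ou (hd ▸ hTu d)) ho'O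
      rw [show y * y = (y * o' * y⁻¹)⁻¹ * (o'⁻¹ * (o' * y * (o' * y))) by group, ← hxy, hxx, mul_one]
      exact mul_mem (inv_mem hyo) (inv_mem ho'O)
    have hf1 : f 1 ≠ 1 := fun h => absurd ((L.tab.eq_one_iff 1).1 h) (by decide)
    have hy1 : y ≠ 1 := fun h => by
      rw [h, mul_one] at hxy
      have := eq_one_of_sq_odd hxx (odd_orderOf_of_mem L.Ou_odd (hxy ▸ ho'O))
      exact hf1 (conj_eq_one_iff.1 this)
    have hx1 : x ≠ 1 := fun h => hf1 (conj_eq_one_iff.1 h)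
    obtain ⟨o'', -, ec⟩ := exists_conj_mod L.Ou_odd (order_two hyy hy1) (order_two hxx hx1)
      (by rw [hxy, mul_assoc, hyy, mul_one]; exact ho'O)
    obtain ⟨d, hd⟩ := L.tab.surj y hyT
    have hdQ : IQ d := L.closed (show IQ (1 : Fin 128) by decide) (g := o''⁻¹ * n) (by
      rw [hd, show o''⁻¹ * n * f 1 * (o''⁻¹ * n)⁻¹ = o''⁻¹ * (n * f 1 * n⁻¹) * o'' by group, ← hx, ← ec]
      group)
    have hxM : x ∈ M := by
      rw [hxy]
      exact mul_mem (mem_sup_left ho'O) (mem_sup_right ⟨d, hdQ, hd⟩)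
    refine mem_normalizer_of_cj (eq_of_le_of_card_ge ?_ (card_cj n M).ge)
    rw [cj, hM, Subgroup.map_sup, sup_le_iff]
    refine ⟨(cj_of_mem_normalizer hnO).le.trans le_sup_left, ?_⟩
    rintro _ ⟨_, ⟨c, hc, rfl⟩, rfl⟩
    show n * f c * n⁻¹ ∈ M
    rcases iq_split c hc with hA | ⟨hA, hQ⟩
    · obtain ⟨d', -, hdQ', e'⟩ := hW n hnN c hA hc
      rw [e']
      exact mem_sup_right ⟨d', hdQ', rfl⟩
    · obtain ⟨d', -, hdQ', e'⟩ := hW n hnN _ hA hQ
      rw [L.tab.mul] at e'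
      rw [show n * f c * n⁻¹ = n * (f c * f 1) * n⁻¹ * (n * f 1 * n⁻¹)⁻¹ by group, e', ← hx]
      exact mul_mem (mem_sup_right ⟨d', hdQ', rfl⟩) (inv_mem hxM)
  have hgM : g ∈ normalizer (M : Set C) := by
    have hCu : ∀ y : C, y * f uc = f uc * y → y ∈ normalizer (M : Set C) := fun y hy => by
      obtain ⟨o, ho, n, hnu, hnN, rfl⟩ := L.cu_decomp.1 y hy
      exact mul_mem (le_normalizer (mem_sup_left ho)) (hnA n hnu hnN)
    rcases hg with e | e
    · exact hCu g (mul_inv_eq_iff_eq_mul.1 e)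
    · have h : f 1 * g * f uc = f uc * (f 1 * g) := by
        refine mul_inv_eq_iff_eq_mul.1 ?_
        rw [show f 1 * g * f uc * (f 1 * g)⁻¹ = f 1 * (g * f uc * g⁻¹) * (f 1)⁻¹ by group, e,
          L.tab.map_conj, q_swaps.2.1]
      have := mul_mem (inv_mem (le_normalizer (mem_sup_right hq : f 1 ∈ M))) (hCu _ h)
      rwa [inv_mul_cancel_left] at this
  -- Frattini
  have hQM : L.tab.subQ ≤ M := le_sup_right
  obtain ⟨PQ, hPQ⟩ := ((IsPGroup.of_card (n := 5) L.tab.card_subQ : IsPGroup 2 L.tab.subQ).comap_subtype :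
    IsPGroup 2 (L.tab.subQ.subgroupOf M)).exists_le_sylow
  have hPQeq : (PQ : Subgroup M) = L.tab.subQ.subgroupOf M := by
    refine (eq_of_le_of_card_ge hPQ ?_).symm
    show _ ≤ Nat.card (L.tab.subQ.subgroupOf M)
    rw [Nat.card_congr (subgroupOfEquivOfLe hQM).toEquiv, L.tab.card_subQ]
    obtain ⟨k, hk⟩ := IsPGroup.iff_card.1 PQ.2
    have hd : 2 ^ k ∣ 32 * Nat.card L.Ou := by
      rw [← hk, ← L.tab.card_subQ]
      refine (card_subgroup_dvd_card _).trans ?_
      rw [hM, sup_comm]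
      exact Solvable.card_sup_dvd hQO
    have h5 : 2 ^ k ∣ 32 :=
      Nat.Coprime.dvd_of_dvd_mul_right (Nat.Coprime.pow_left _ (Nat.coprime_two_left.2 L.Ou_odd)) hd
    rw [hk]
    exact Nat.le_of_dvd (by norm_num) h5
  obtain ⟨l, hl⟩ := exists_cj_le PQ (P := (cj g L.tab.subQ).subgroupOf M)
    (((IsPGroup.of_card (n := 5) L.tab.card_subQ : IsPGroup 2 L.tab.subQ).map _).comap_subtype)
  have hn : (l : C) * g ∈ normalizer (L.tab.subQ : Set C) := by
    refine mem_normalizer_of_conj_mem fun y hy => ?_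
    have hgy : g * y * g⁻¹ ∈ M := conj_mem_of_normalizer hgM (hQM hy)
    have := hl ((conj_mem_cj (g := l)).2 (show (⟨_, hgy⟩ : M) ∈ (cj g L.tab.subQ).subgroupOf M from conj_mem_cj.2 hy))
    rw [hPQeq] at this
    rw [show (l : C) * g * y * ((l : C) * g)⁻¹ = l * (g * y * g⁻¹) * (l : C)⁻¹ by group]
    exact this
  have hlM : (l : C)⁻¹ ∈ (L.Ou ⊔ L.tab.subQ : Subgroup C) := inv_mem l.2
  rw [← SetLike.mem_coe, Subgroup.coe_mul_of_right_le_normalizer_left L.Ou L.tab.subQ hQO] at hlM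
  obtain ⟨o, ho, q, hq', e⟩ := hlM
  refine ⟨o, ho, q * ((l : C) * g), mul_mem (le_normalizer hq') hn, ?_⟩
  calc g = (l : C)⁻¹ * ((l : C) * g) := by group
    _ = o * q * ((l : C) * g) := congrArg (· * ((l : C) * g)) e.symm
    _ = _ := mul_assoc _ _ _

end Loc

end CfsgLib.JankoSylow
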