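import Cfsg.Agent.JankoSylow.Table
import Mathlib.Tactic.Group
import Mathlib.Algebra.Group.Subgroup.Lattice

/-!
Five anticommuting involutions with product the commutator, and their monomials.
-/

set_option autoImplicit false
set_option linter.unusedSimpArgs false
set_option linter.unusedSectionVars false

namespace CfsgLib.JankoSylow

/-- Five anticommuting involutions with product `z`. -/
structure Frame {G : Type*} [Group G] (b : Fin 5 → G) (z : G) : Prop where
  ne : z ≠ 1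
  zz : z * z = 1
  sq : ∀ i, b i * b i = 1
  anti : ∀ i j, i ≠ j → b i * b j = z * (b j * b i)
  prod : b 0 * b 1 * b 2 * b 3 * b 4 = z

variable {G : Type*} [Group G]

/-- A power with a bit. -/
def bp (x : G) (t : Bool) : G := if t then x else 1

@[simp] theorem bp_true (x : G) : bp x true = x := rfl

@[simp] theorem bp_false (x : G) : bp x false = 1 := rfl

/-- The monomial of five bits. -/
def elb (b : Fin 5 → G) (z : G) (e t0 t1 t2 t3 : Bool) : G :=
  bp z e * (bp (b 0) t0 * (bp (b 1) t1 * (bp (b 2) t2 * bp (b 3) t3)))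

/-- A bit of a code. -/
abbrev bit (c : Fin 128) (k : Nat) : Bool := c.val.testBit k

/-- The monomial of a code. -/
def el (b : Fin 5 → G) (z : G) (c : Fin 128) : G :=
  elb b z (bit c 4) (bit c 0) (bit c 1) (bit c 2) (bit c 3)

theorem bits_gen : ∀ a : Fin 128, IQ a →
    (bit (mm a zc) 4 = !bit a 4 ∧ bit (mm a zc) 0 = bit a 0 ∧ bit (mm a zc) 1 = bit a 1 ∧
      bit (mm a zc) 2 = bit a 2 ∧ bit (mm a zc) 3 = bit a 3) ∧
    (bit (mm a (bc 0)) 4 = (bit a 4 ^^ bit a 1 ^^ bit a 2 ^^ bit a 3) ∧ bit (mm a (bc 0)) 0 = !bit a 0 ∧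
      bit (mm a (bc 0)) 1 = bit a 1 ∧ bit (mm a (bc 0)) 2 = bit a 2 ∧ bit (mm a (bc 0)) 3 = bit a 3) ∧
    (bit (mm a (bc 1)) 4 = (bit a 4 ^^ bit a 2 ^^ bit a 3) ∧ bit (mm a (bc 1)) 0 = bit a 0 ∧
      bit (mm a (bc 1)) 1 = !bit a 1 ∧ bit (mm a (bc 1)) 2 = bit a 2 ∧ bit (mm a (bc 1)) 3 = bit a 3) ∧
    (bit (mm a (bc 2)) 4 = (bit a 4 ^^ bit a 3) ∧ bit (mm a (bc 2)) 0 = bit a 0 ∧
      bit (mm a (bc 2)) 1 = bit a 1 ∧ bit (mm a (bc 2)) 2 = !bit a 2 ∧ bit (mm a (bc 2)) 3 = bit a 3) ∧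
    (bit (mm a (bc 3)) 4 = bit a 4 ∧ bit (mm a (bc 3)) 0 = bit a 0 ∧
      bit (mm a (bc 3)) 1 = bit a 1 ∧ bit (mm a (bc 3)) 2 = bit a 2 ∧ bit (mm a (bc 3)) 3 = !bit a 3) := by
  decide +kernel

theorem bits_const : (∀ k : Fin 5, bit 0 k = false) ∧ (∀ k : Fin 5, bit zc k = (k == 4)) ∧
    (∀ k : Fin 5, bit 15 k = (k != 4)) ∧ ∀ i : Fin 4, ∀ k : Fin 5, bit (bc i.castSucc) k = (k == i.castSucc) := by
  decide +kernel

namespace Frame

variable {b : Fin 5 → G} {z : G} (F : Frame b z)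
include F

theorem z_eq {i j : Fin 5} (h : i ≠ j) : z = b i * b j * b i * b j := by
  rw [F.anti i j h, show z * (b j * b i) * b i * b j = z * (b j * (b i * b i) * b j) by group, F.sq,
    mul_one, F.sq, mul_one]

theorem zb (i : Fin 5) : z * b i = b i * z := by
  obtain ⟨j, hj⟩ : ∃ j, i ≠ j := ⟨if i = 0 then 1 else 0, by split <;> omega⟩
  have h1 : z * b i = b j * b i * b j := by
    rw [F.z_eq (Ne.symm hj), mul_assoc _ (b i) (b i), F.sq, mul_one]
  have h2 : b i * z = b j * b i * b j := by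
    rw [F.z_eq hj, ← mul_assoc, ← mul_assoc, ← mul_assoc, F.sq, one_mul]
  rw [h1, h2]

theorem zb' (i : Fin 5) (x : G) : z * (b i * x) = b i * (z * x) := by
  rw [← mul_assoc, F.zb, mul_assoc]

theorem zz' (x : G) : z * (z * x) = x := by rw [← mul_assoc, F.zz, one_mul]

theorem sq' (i : Fin 5) (x : G) : b i * (b i * x) = x := by rw [← mul_assoc, F.sq, one_mul]

theorem swap {i j : Fin 5} (h : i ≠ j) (x : G) : b i * (b j * x) = z * (b j * (b i * x)) := by
  rw [← mul_assoc, F.anti i j h, mul_assoc, mul_assoc]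

theorem el_zero : el b z 0 = 1 := by
  simp [el, elb, bp, bit]

theorem el_zc : el b z zc = z := by
  simp [el, elb, bp, bit, zc, Nat.testBit, Nat.shiftRight_eq_div_pow]

theorem elb_z (e t0 t1 t2 t3 : Bool) : elb b z e t0 t1 t2 t3 * z = elb b z (!e) t0 t1 t2 t3 := by
  have hc : z * elb b z e t0 t1 t2 t3 = elb b z e t0 t1 t2 t3 * z := by
    have hk : ∀ (x : G) (t : Bool), z * x = x * z → Commute z (bp x t) := fun x t h => by
      cases t
      · exact Commute.one_right z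
      · exact h
    exact ((hk z e rfl).mul_right ((hk _ t0 (F.zb 0)).mul_right ((hk _ t1 (F.zb 1)).mul_right
      ((hk _ t2 (F.zb 2)).mul_right (hk _ t3 (F.zb 3))))))
  rw [← hc]
  cases e <;> simp [elb, F.zz']

theorem elb_zero (e t0 t1 t2 t3 : Bool) :
    elb b z e t0 t1 t2 t3 * b 0 = elb b z (e ^^ t1 ^^ t2 ^^ t3) (!t0) t1 t2 t3 := by
  cases e <;> cases t0 <;> cases t1 <;> cases t2 <;> cases t3 <;>
    simp [elb, bp, mul_assoc, F.anti 1 0 (by decide), F.anti 2 0 (by decide), F.anti 3 0 (by decide),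
      F.swap (i := 1) (j := 0) (by decide), F.swap (i := 2) (j := 0) (by decide),
      F.swap (i := 3) (j := 0) (by decide), ← F.zb 0, ← F.zb 1, ← F.zb 2, ← F.zb 3,
      ← F.zb' 0, ← F.zb' 1, ← F.zb' 2, ← F.zb' 3, F.zz, F.zz', F.sq, F.sq']

theorem elb_one (e t0 t1 t2 t3 : Bool) :
    elb b z e t0 t1 t2 t3 * b 1 = elb b z (e ^^ t2 ^^ t3) t0 (!t1) t2 t3 := by
  cases e <;> cases t0 <;> cases t1 <;> cases t2 <;> cases t3 <;>
    simp [elb, bp, mul_assoc, F.anti 2 1 (by decide), F.anti 3 1 (by decide),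
      F.swap (i := 2) (j := 1) (by decide), F.swap (i := 3) (j := 1) (by decide),
      ← F.zb 0, ← F.zb 1, ← F.zb 2, ← F.zb 3,
      ← F.zb' 0, ← F.zb' 1, ← F.zb' 2, ← F.zb' 3, F.zz, F.zz', F.sq, F.sq']

theorem elb_two (e t0 t1 t2 t3 : Bool) :
    elb b z e t0 t1 t2 t3 * b 2 = elb b z (e ^^ t3) t0 t1 (!t2) t3 := by
  cases e <;> cases t0 <;> cases t1 <;> cases t2 <;> cases t3 <;>
    simp [elb, bp, mul_assoc, F.anti 3 2 (by decide), F.swap (i := 3) (j := 2) (by decide),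
      ← F.zb 0, ← F.zb 1, ← F.zb 2, ← F.zb 3,
      ← F.zb' 0, ← F.zb' 1, ← F.zb' 2, ← F.zb' 3, F.zz, F.zz', F.sq, F.sq']

theorem elb_three (e t0 t1 t2 t3 : Bool) :
    elb b z e t0 t1 t2 t3 * b 3 = elb b z e t0 t1 t2 (!t3) := by
  cases t3 <;> simp [elb, bp, mul_assoc, F.sq]

theorem mul_z {a : Fin 128} (ha : IQ a) : el b z a * z = el b z (mm a zc) := by
  obtain ⟨⟨h4, h0, h1, h2, h3⟩, -⟩ := bits_gen a ha
  simp only [el, h4, h0, h1, h2, h3, F.elb_z]

theorem mul_gen {a : Fin 128} (ha : IQ a) (j : Fin 4) :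
    el b z a * b j.castSucc = el b z (mm a (bc j.castSucc)) := by
  obtain ⟨-, ⟨a4, a0, a1, a2, a3⟩, ⟨b4, b0, b1, b2, b3⟩, ⟨c4, c0, c1, c2, c3⟩, ⟨d4, d0, d1, d2, d3⟩⟩ :=
    bits_gen a ha
  rw [el, el]
  fin_cases j
  · exact (F.elb_zero _ _ _ _ _).trans (by simp only [Fin.castSucc_mk]; erw [a4, a0, a1, a2, a3])
  · exact (F.elb_one _ _ _ _ _).trans (by simp only [Fin.castSucc_mk]; erw [b4, b0, b1, b2, b3])
  · exact (F.elb_two _ _ _ _ _).trans (by simp only [Fin.castSucc_mk]; erw [c4, c0, c1, c2, c3])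
  · exact (F.elb_three _ _ _ _ _).trans (by simp only [Fin.castSucc_mk]; erw [d4, d0, d1, d2, d3])

omit F in
theorem letters : ∀ c : Fin 128, IQ c → ∀ a : Fin 128, IQ a →
    mm a c =
      (fun x : Fin 128 => if c.val.testBit 3 then mm x (bc 3) else x)
      ((fun x : Fin 128 => if c.val.testBit 2 then mm x (bc 2) else x)
      ((fun x : Fin 128 => if c.val.testBit 1 then mm x (bc 1) else x)
      ((fun x : Fin 128 => if c.val.testBit 0 then mm x (bc 0) else x)
      ((fun x : Fin 128 => if c.val.testBit 4 then mm x zc else x) a)))) := by decide +kernel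

theorem mul_el {a c : Fin 128} (ha : IQ a) (hc : IQ c) : el b z a * el b z c = el b z (mm a c) := by
  have hb : ∀ (i : Fin 5) (t : Bool) (x : Fin 128), IQ x → i ≠ 4 →
      IQ (if t then mm x (bc i) else x) ∧ el b z x * bp (b i) t = el b z (if t then mm x (bc i) else x) := by
    intro i t x hx hi
    have hj := F.mul_gen hx (i.castLT (by omega))
    rw [Fin.castSucc_castLT] at hj
    cases t
    · exact ⟨hx, by simp [bp]⟩
    · exact ⟨iq_mm _ _ hx ((bc_sing i).1), by simp [bp, hj]⟩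
  have hz : IQ (if c.val.testBit 4 then mm a zc else a) ∧
      el b z a * bp z (c.val.testBit 4) = el b z (if c.val.testBit 4 then mm a zc else a) := by
    cases c.val.testBit 4
    · exact ⟨ha, by simp [bp]⟩
    · exact ⟨iq_mm _ _ ha (by decide), by simp [bp, F.mul_z ha]⟩
  obtain ⟨q0, e0⟩ := hz
  obtain ⟨q1, e1⟩ := hb 0 (c.val.testBit 0) _ q0 (by decide)
  obtain ⟨q2, e2⟩ := hb 1 (c.val.testBit 1) _ q1 (by decide)
  obtain ⟨q3, e3⟩ := hb 2 (c.val.testBit 2) _ q2 (by decide)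
  obtain ⟨q4, e4⟩ := hb 3 (c.val.testBit 3) _ q3 (by decide)
  have hl := (letters c hc a ha).symm
  simp only at hl
  rw [hl] at e4
  rw [← e4, ← e3, ← e2, ← e1, ← e0]
  simp only [el, elb, bit, mul_assoc]

theorem el_bc (i : Fin 5) : el b z (bc i) = b i := by
  by_cases hi : i = 4
  · subst hi
    have h15 : el b z 15 = b 0 * b 1 * b 2 * b 3 := by
      simp [el, elb, bp, bit, Nat.testBit, Nat.shiftRight_eq_div_pow, mul_assoc]
    have h := F.mul_el (a := 15) (c := bc 4) (by decide) (by decide)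
    rw [show mm 15 (bc 4) = zc by decide, F.el_zc, h15] at h
    exact mul_left_cancel (h.trans F.prod.symm)
  · fin_cases i <;>
      first
      | (exact absurd rfl hi)
      | simp [el, elb, bp, bit, bc, Nat.testBit, Nat.shiftRight_eq_div_pow]

theorem el_inv {a : Fin 128} (ha : IQ a) : el b z (inv a) = (el b z a)⁻¹ := by
  have hi : ∀ a : Fin 128, IQ a → IQ (inv a) := by decide +kernel
  refine eq_inv_of_mul_eq_one_left ?_
  rw [F.mul_el (hi a ha) ha, (mm_inv a).2, F.el_zero]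

theorem el_eq_one {a : Fin 128} (ha : IQ a) (h : el b z a = 1) : a = 0 := by
  have hne : ∀ a : Fin 128, IQ a → a = 0 ∨ a = zc ∨ ∃ i, mm (bc i) a = mm (mm a (bc i)) zc := by
    decide +kernel
  rcases hne a ha with e | e | ⟨i, e⟩
  · exact e
  · exact absurd (by rwa [e, F.el_zc] at h) F.ne
  · have h1 := F.mul_el (bc_sing i).1 ha
    rw [e, ← F.mul_el (iq_mm _ _ ha (bc_sing i).1) (by decide), ← F.mul_el ha (bc_sing i).1, h, F.el_bc, F.el_zc,
      mul_one, one_mul] at h1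
    exact absurd (mul_left_cancel (h1.symm.trans (mul_one (b i)).symm)) F.ne

theorem el_inj {a c : Fin 128} (ha : IQ a) (hc : IQ c) (h : el b z a = el b z c) : a = c := by
  have hi : ∀ a : Fin 128, IQ a → IQ (inv a) := by decide +kernel
  have h2 : ∀ a c : Fin 128, IQ a → IQ c → mm (inv a) c = 0 → a = c := by decide +kernel
  refine h2 a c ha hc (F.el_eq_one (iq_mm _ _ (hi a ha) hc) ?_)
  rw [← F.mul_el (hi a ha) hc, F.el_inv ha, h, inv_mul_cancel]

end Frame

end CfsgLib.JankoSylow
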