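import Cfsg.Agent.JankoSylow.Basic
import Cfsg.Agent.Invol.ThompsonTransfer

/-!
Fusion in a group without subgroup of index two whose Sylow 2-subgroup has the code table: an element
centralizing the central involution normalizes the Clifford group and moves the first involution to the fifth.
-/

set_option autoImplicit false
set_option linter.unusedSectionVars false
set_option linter.style.haveILetI false

namespace CfsgLib.JankoSylow

namespace Fus

open Subgroup CfsgLib.SylL34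

theorem out_card : ∀ a : Fin 128, sq a = 0 → ¬ IA a →
    (Finset.univ.filter fun e => Com e a).card = 16 := by decide +kernel

theorem q_facts : (Finset.univ.filter fun e => Com e 1).card = 16 ∧
    (Finset.univ.filter fun e => IA e ∧ IQ e).card = 16 ∧ IQ (1 : Fin 128) ∧ ¬ IA (1 : Fin 128) ∧
    sq (1 : Fin 128) = 0 ∧ Com (1 : Fin 128) 1 ∧ Com zc (1 : Fin 128) ∧
    mm (mm 1 uc) (inv 1) = mm uc zc ∧ mm (mm 1 zc) (inv 1) = zc := by decide +kernel

theorem com_iza : ∀ a : Fin 128, IZA a → ∀ e : Fin 128, IA e → Com e a := by decide +kernel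

theorem q_conj : ∀ w c : Fin 128, IQ w → Com c 1 → Com (mm (mm w c) (inv w)) 1 := by decide +kernel

theorem aq_mm : ∀ a b : Fin 128, IA a ∧ IQ a → IA b ∧ IQ b → IA (mm a b) ∧ IQ (mm a b) := by decide +kernel

theorem com_mm : ∀ a b : Fin 128, Com a 1 → Com b 1 → Com (mm a b) 1 := by decide +kernel

theorem u_facts : ∀ d : Fin 128, (Com d uc ∨ Com d (mm uc zc)) → IA d := by decide +kernel

theorem z_facts : Com uc uc ∧ IA uc ∧ IA (mm uc zc) ∧ IA zc ∧ sq uc = 0 ∧ uc ≠ 0 ∧ uc ≠ zc ∧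
    (∀ d : Fin 128, Com d zc) ∧ (∀ d : Fin 128, Com zc d) := by decide +kernel

variable {G : Type*} [Group G]

theorem le_centralizer_of {X : Subgroup G} {y : G} (h : ∀ x ∈ X, x * y = y * x) :
    X ≤ centralizer ({y} : Set G) := fun x hx => mem_centralizer_singleton_iff.2 (h x hx)

variable [Finite G]

/-- Membership in a normalizer by mapping into. -/
theorem mem_norm {X : Subgroup G} {t : G} (h : ∀ x ∈ X, t * x * t⁻¹ ∈ X) :
    t ∈ normalizer (X : Set G) := by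
  haveI : Finite ↥X := inferInstance
  have he : cj t X = X := eq_of_le_of_card_ge (fun x hx => by
    obtain ⟨y, hy, rfl⟩ := hx
    exact h y hy) (card_cj t X).ge
  refine mem_normalizer_iff.2 fun x => ⟨h x, fun hx => ?_⟩
  rw [← he] at hx
  exact conj_mem_cj.1 hx

/-- Sylow's theorem inside a subgroup containing the Sylow subgroup. -/
theorem move_into (S : Sylow 2 G) {H P : Subgroup G} (hSH : (S : Subgroup G) ≤ H)
    (hP : IsPGroup 2 P) (hPH : P ≤ H) : ∃ k ∈ H, cj k P ≤ (S : Subgroup G) := by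
  obtain ⟨k, hk⟩ := SylL34.exists_cj_le (S.subtype hSH) (P := P.subgroupOf H)
    (hP.of_equiv (subgroupOfEquivOfLe hPH).symm)
  refine ⟨k, k.2, ?_⟩
  rintro _ ⟨x, hx, rfl⟩
  exact hk (conj_mem_cj.2 (show (⟨x, hPH hx⟩ : H) ∈ P.subgroupOf H from hx))

section Setup

variable {S : Sylow 2 G} {f : Fin 128 → G} (hT : Tab (S : Subgroup G) f)

/-- The centralizer in `S` of the first involution. -/
abbrev subC : Subgroup G := hT.sub (fun c => Com c 1) (by decide) com_mm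

/-- The intersection of the Clifford group with `A`. -/
abbrev subW : Subgroup G := hT.sub (fun c => IA c ∧ IQ c) (by decide) aq_mm

include hT

theorem card_subC : Nat.card (subC hT) = 16 := by rw [hT.card_sub]; exact q_facts.1

theorem card_subW : Nat.card (subW hT) = 16 := by rw [hT.card_sub]; exact q_facts.2.1

theorem isPGroup_sub {P : Fin 128 → Prop} {h0 : P 0} {hm : ∀ a b, P a → P b → P (mm a b)} :
    IsPGroup 2 (hT.sub P h0 hm) := S.2.to_le hT.sub_le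

/-- The first involution goes to the centre of `A`, with its centralizer inside `S`. -/
theorem step_one (h2 : ∀ H : Subgroup G, H.Normal → H.index ≠ 2) :
    ∃ g : G, cj g (subC hT) ≤ (S : Subgroup G) ∧ ∃ r, IZA r ∧ g * f 1 * g⁻¹ = f r := by
  classical
  haveI : Fact (Nat.Prime 2) := ⟨Nat.prime_two⟩
  have hidx : hT.subA.relIndex (S : Subgroup G) = 2 := by
    have h := (hT.subA.subgroupOf (S : Subgroup G)).card_mul_index
    rw [Nat.card_congr (subgroupOfEquivOfLe hT.sub_le).toEquiv, hT.card_subA, hT.card_eq] at h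
    rw [relIndex]
    omega
  rcases ThompsonTransfer.thompson_transfer (S : Subgroup G) hT.subA
    (Nat.odd_iff.2 (Nat.two_dvd_ne_zero.1 S.not_dvd_index)) hidx
    ((hT.sq_eq_one_iff 1).2 q_facts.2.2.2.2.1) with ⟨M, hM, hMi, -⟩ | ⟨g₀, hg₀⟩
  · exact absurd hMi (h2 M hM)
  obtain ⟨cy, hyA, hy⟩ := hg₀
  set H := centralizer ({f 1} : Set G)
  have hCH : subC hT ≤ H := le_centralizer_of fun x hx => by
    obtain ⟨c, hc, rfl⟩ := hx
    exact (hT.comm_iff c 1).2 hc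
  obtain ⟨R, hR⟩ := ((isPGroup_sub hT).of_equiv (subgroupOfEquivOfLe hCH).symm :
    IsPGroup 2 ((subC hT).subgroupOf H)).exists_le_sylow
  set R' := (R : Subgroup H).map H.subtype with hR'
  have hCR : subC hT ≤ R' := fun x hx => ⟨⟨x, hCH hx⟩, hR hx, rfl⟩
  obtain ⟨g, hg⟩ := SylL34.exists_cj_le S (P := R') (R.2.map _)
  have hgC : cj g (subC hT) ≤ (S : Subgroup G) := fun x hx => hg (map_mono hCR hx)
  obtain ⟨r, hr⟩ := hT.surj _ (hgC (conj_mem_cj.2 ⟨1, q_facts.2.2.2.2.2.1, rfl⟩ :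
    g * f 1 * g⁻¹ ∈ cj g (subC hT)))
  have hr2 : sq r = 0 := by
    rw [← hT.sq_eq_one_iff, hr]
    exact SylL34.conj_sq g _ ((hT.sq_eq_one_iff 1).2 q_facts.2.2.2.2.1)
  refine ⟨g, hgC, r, ?_, hr.symm⟩
  have hin : ∀ x ∈ R', ∃ e, f e = g * x * g⁻¹ ∧ Com e r := by
    intro x hx
    obtain ⟨e, he⟩ := hT.surj _ (hg (conj_mem_cj.2 hx))
    refine ⟨e, he, (hT.comm_iff e r).1 ?_⟩
    obtain ⟨x', -, rfl⟩ := hx
    have hxq : (x' : G) * f 1 = f 1 * x' := mem_centralizer_singleton_iff.1 x'.2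
    rw [he, hr]
    calc g * (x' : G) * g⁻¹ * (g * f 1 * g⁻¹) = g * ((x' : G) * f 1) * g⁻¹ := by group
      _ = g * f 1 * g⁻¹ * (g * (x' : G) * g⁻¹) := by rw [hxq]; group
  obtain ⟨a₀, ha₁, ha₂, -⟩ := cent_q_roots 1 q_facts.2.2.2.2.2.1
  by_cases hrA : IA r
  · refine invol_iaq r hrA ?_ hr2
    by_contra hrQ
    obtain ⟨e, he, hec⟩ := hin (f a₀) (hCR ⟨a₀, ha₁, rfl⟩)
    have h0 := (hT.sq_eq_one_iff e).2 (((cent_a r hrA hrQ hr2).1 e hec).2)
    rw [he, show g * f a₀ * g⁻¹ * (g * f a₀ * g⁻¹) = g * (f a₀ * f a₀) * g⁻¹ by group,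
      hT.map_sq, ha₂, conj_eq_one_iff] at h0
    exact hT.z_ne h0
  exfalso
  -- now the given centralizer is a Sylow subgroup of the centralizer
  have hRle : Nat.card R' ≤ 16 := by
    choose e he hec using hin
    refine (Nat.card_le_card_of_injective
      (fun x : R' => (⟨e x x.2, hec x x.2⟩ : {c : Fin 128 // Com c r})) fun x y h => ?_).trans
      (le_of_eq ?_)
    · refine Subtype.ext ((MulAut.conj g).injective ?_)
      show g * (x : G) * g⁻¹ = g * (y : G) * g⁻¹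
      rw [← he x x.2, ← he y y.2, show e x x.2 = e y y.2 from congrArg Subtype.val h]
    · rw [Nat.card_eq_fintype_card, Fintype.card_subtype]
      exact out_card r hr2 hrA
  have hRC : R' = subC hT := (eq_of_le_of_card_ge hCR (by rw [card_subC hT]; exact hRle)).symm
  have hR16 : Nat.card R' = 16 := by rw [hRC, card_subC hT]
  have hmax : ∀ P : Subgroup G, IsPGroup 2 P → P ≤ H → ∃ k : G, cj k P ≤ R' := by
    intro P hP hPH
    obtain ⟨k, hk⟩ := SylL34.exists_cj_le R (P := P.subgroupOf H)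
      (hP.of_equiv (subgroupOfEquivOfLe hPH).symm)
    refine ⟨k, ?_⟩
    rintro _ ⟨x, hx, rfl⟩
    exact ⟨k * ⟨x, hPH hx⟩ * k⁻¹, hk (conj_mem_cj.2 (show (⟨x, hPH hx⟩ : H) ∈ P.subgroupOf H from hx)),
      rfl⟩
  -- the centralizer in `S` of the conjugate in `A`
  have hpull : ∀ (P : Fin 128 → Prop) (h0 : P 0) (hm : ∀ a b, P a → P b → P (mm a b)),
      (∀ e, P e → Com e cy) → ∃ k : G, cj k (hT.sub P h0 hm) ≤ R' := by
    intro P h0 hm hP
    obtain ⟨k, hk⟩ := hmax (cj g₀⁻¹ (hT.sub P h0 hm)) ((isPGroup_sub hT).map _)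
      (le_centralizer_of fun x hx => by
        obtain ⟨-, ⟨c, hc, rfl⟩, rfl⟩ := hx
        show g₀⁻¹ * f c * g₀⁻¹⁻¹ * f 1 = f 1 * (g₀⁻¹ * f c * g₀⁻¹⁻¹)
        have h := (hT.comm_iff c cy).2 (hP c hc)
        rw [hy] at h
        calc g₀⁻¹ * f c * g₀⁻¹⁻¹ * f 1 = g₀⁻¹ * (f c * (g₀ * f 1 * g₀⁻¹)) * g₀ := by group
          _ = _ := by rw [h]; group)
    exact ⟨k * g₀⁻¹, by rwa [← cj_cj]⟩
  have hcy2 : sq cy = 0 := by
    rw [← hT.sq_eq_one_iff, hy]
    exact SylL34.conj_sq g₀ _ ((hT.sq_eq_one_iff 1).2 q_facts.2.2.2.2.1)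
  by_cases hyQ : IQ cy
  · obtain ⟨k, hk⟩ := hpull (fun c => IA c) (by decide) ia_mm
      (com_iza cy (invol_iaq cy hyA hyQ hcy2))
    have := card_le_of_le hk
    rw [card_cj, hT.card_subA, hR16] at this
    omega
  · obtain ⟨k, hk⟩ := hpull (fun e => Com e cy) ((hT.comm_iff 0 cy).1 (by rw [hT.map_zero]; simp))
      (fun a b ha hb => (hT.comm_iff _ _).1 (by
        rw [hT.mul, mul_assoc, (hT.comm_iff b cy).2 hb, ← mul_assoc, (hT.comm_iff a cy).2 ha, mul_assoc]))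
      (fun _ he => he)
    have h16 : Nat.card (cj k (hT.sub (fun e => Com e cy) ((hT.comm_iff 0 cy).1 (by rw [hT.map_zero]; simp))
      (fun a b ha hb => (hT.comm_iff _ _).1 (by
        rw [hT.mul, mul_assoc, (hT.comm_iff b cy).2 hb, ← mul_assoc, (hT.comm_iff a cy).2 ha, mul_assoc])))) = 16 := by
      rw [card_cj, hT.card_sub]
      rcases cent_a_class cy hyA hyQ hcy2 with h | h <;>
        rw [Finset.filter_congr fun e _ => h e] <;> decide +kernel
    have heq := eq_of_le_of_card_ge hk (by rw [h16, hR16])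
    obtain ⟨x, ⟨c, hc, rfl⟩, hx⟩ := heq.ge (hCR ⟨a₀, ha₁, rfl⟩)
    have h0 : f a₀ * f a₀ = 1 := by
      rw [← hx]
      exact SylL34.conj_sq k _ ((hT.sq_eq_one_iff c).2 (((cent_a cy hyA hyQ hcy2).1 c hc).2))
    rw [hT.map_sq, ha₂] at h0
    exact hT.z_ne h0

/-- The conjugating element may be taken to centralize the central involution. -/
theorem step_two (h2 : ∀ H : Subgroup G, H.Normal → H.index ≠ 2) :
    ∃ g : G, g * f zc * g⁻¹ = f zc ∧ cj g (subC hT) ≤ hT.subA ∧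
      ∃ r, (r = uc ∨ r = mm uc zc) ∧ g * f 1 * g⁻¹ = f r := by
  classical
  obtain ⟨g, hgC, r, hrZ, hr⟩ := step_one hT h2
  obtain ⟨a₀, ha₁, ha₂, -⟩ := cent_q_roots 1 q_facts.2.2.2.2.2.1
  obtain ⟨e, he⟩ := hT.surj _ (hgC (conj_mem_cj.2 ⟨zc, q_facts.2.2.2.2.2.2.1, rfl⟩ :
    g * f zc * g⁻¹ ∈ cj g (subC hT)))
  obtain ⟨d, hd⟩ := hT.surj _ (hgC (conj_mem_cj.2 ⟨a₀, ha₁, rfl⟩ : g * f a₀ * g⁻¹ ∈ cj g (subC hT)))
  have hde : sq d = e := (hT.sq_eq_iff d e).1 (by
    rw [hd, he, show g * f a₀ * g⁻¹ * (g * f a₀ * g⁻¹) = g * (f a₀ * f a₀) * g⁻¹ by group, hT.map_sq, ha₂])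
  have he2 : sq e = 0 := by
    rw [← hT.sq_eq_one_iff, he]
    exact SylL34.conj_sq g _ hT.z_sq
  have heZ : IZA e := hde ▸ sq_invol d (by rw [hde]; exact he2)
  have he0 : e ≠ 0 := fun h => hT.z_ne (conj_eq_one_iff.1 (by rw [← he, h, hT.map_zero] : g * f zc * g⁻¹ = 1))
  have her : e ≠ r := fun h => absurd (hT.inj ((MulAut.conj g).injective
    (he.symm.trans ((congrArg f h).trans hr.symm)) : f zc = f 1)) (by decide)
  have hr0 : r ≠ 0 := fun h => absurd ((hT.eq_one_iff 1).1 (conj_eq_one_iff.1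
    (by rw [hr, h, hT.map_zero] : g * f 1 * g⁻¹ = 1))) (by decide)
  have hgA : cj g (subC hT) ≤ hT.subA := by
    intro x hx
    obtain ⟨c, hc⟩ := hT.surj _ (hgC hx)
    refine ⟨c, ?_, hc⟩
    obtain ⟨-, ⟨a, ha, rfl⟩, rfl⟩ := hx
    have key : ∀ b v, f v = g * f b * g⁻¹ → Com a b → Com c v := by
      intro b v hv hab
      rw [← hT.comm_iff, hc, hv]
      show g * f a * g⁻¹ * (g * f b * g⁻¹) = g * f b * g⁻¹ * (g * f a * g⁻¹)
      calc g * f a * g⁻¹ * (g * f b * g⁻¹) = g * (f a * f b) * g⁻¹ := by group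
        _ = _ := by rw [(hT.comm_iff a b).2 hab]; group
    have h1 := key 1 r hr.symm ha
    have h3 := key zc e he (z_facts.2.2.2.2.2.2.2.1 a)
    rcases hrZ with h | h | h | h
    · exact absurd h hr0
    · rcases heZ with h' | h' | h' | h'
      · exact absurd h' he0
      · exact absurd (h'.trans h.symm) her
      · exact u_facts c (Or.inl (h' ▸ h3))
      · exact u_facts c (Or.inr (h' ▸ h3))
    · exact u_facts c (Or.inl (h ▸ h1))
    · exact u_facts c (Or.inr (h ▸ h1))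
  -- an element normalizing `A` and moving the image of `z` back
  obtain ⟨n, hnA, hn⟩ : ∃ n : G, (∀ x ∈ hT.subA, n * x * n⁻¹ ∈ hT.subA) ∧ n * f e * n⁻¹ = f zc := by
    by_cases hez : e = zc
    · exact ⟨1, fun x hx => by simpa using hx, by simp [hez]⟩
    set t := f 1
    have htA : ∀ x ∈ hT.subA, t * x * t⁻¹ ∈ hT.subA := by
      rintro _ ⟨c, hc, rfl⟩
      exact ⟨_, ia_normal 1 c hc, (hT.map_conj 1 c).symm⟩
    have htu : t * f uc * t⁻¹ = f (mm uc zc) := by rw [hT.map_conj, q_facts.2.2.2.2.2.2.2.1]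
    have htz : t * f zc * t⁻¹ = f zc := by rw [hT.map_conj, q_facts.2.2.2.2.2.2.2.2]
    -- `z` is conjugate to `u`
    obtain ⟨h₀, hh₀⟩ : ∃ h : G, h * f uc * h⁻¹ = f zc := by
      have hz : f zc = g⁻¹ * f e * g := by rw [he]; group
      rcases heZ with h' | h' | h' | h'
      · exact absurd h' he0
      · exact absurd h' hez
      · exact ⟨g⁻¹, by rw [hz, h', inv_inv]⟩
      · exact ⟨g⁻¹ * t, by rw [hz, h', ← htu]; group⟩
    obtain ⟨k, hkz, hk⟩ := move_into S (H := centralizer ({f zc} : Set G))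
      (le_centralizer_of fun x hx => by
        obtain ⟨c, rfl⟩ := hT.surj x hx
        exact (hT.comm_iff c zc).2 (z_facts.2.2.2.2.2.2.2.1 c))
      (P := cj h₀ hT.subA) ((isPGroup_sub hT).map _) (le_centralizer_of fun x hx => by
        obtain ⟨-, ⟨c, hc, rfl⟩, rfl⟩ := hx
        show h₀ * f c * h₀⁻¹ * f zc = f zc * (h₀ * f c * h₀⁻¹)
        rw [← hh₀]
        calc h₀ * f c * h₀⁻¹ * (h₀ * f uc * h₀⁻¹) = h₀ * (f c * f uc) * h₀⁻¹ := by group
          _ = _ := by rw [(hT.comm_iff c uc).2 hc]; group)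
    rw [cj_cj] at hk
    set h := k * h₀ with hhdef
    have hhu : h * f uc * h⁻¹ = f zc := by
      rw [hhdef, show k * h₀ * f uc * (k * h₀)⁻¹ = k * (h₀ * f uc * h₀⁻¹) * k⁻¹ by group, hh₀,
        mem_centralizer_singleton_iff.1 hkz, mul_inv_cancel_right]
    haveI : ((cj h hT.subA).subgroupOf (S : Subgroup G)).Normal := normal_of_index_eq_two (by
      have h1 := ((cj h hT.subA).subgroupOf (S : Subgroup G)).card_mul_index
      rw [Nat.card_congr (subgroupOfEquivOfLe hk).toEquiv, card_cj, hT.card_subA, hT.card_eq] at h1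
      omega)
    obtain ⟨v, hv⟩ := hT.surj _ (hk (conj_mem_cj.2 ⟨zc, z_facts.2.2.2.1, rfl⟩ : h * f zc * h⁻¹ ∈ cj h hT.subA))
    obtain ⟨b, hb⟩ : ∃ b, ¬ Com v b := by
      by_contra hcon
      push Not at hcon
      rcases (centre v).1 hcon with rfl | rfl
      · rw [hT.map_zero] at hv
        exact hT.z_ne (conj_eq_one_iff.1 hv.symm)
      · have := (MulAut.conj h).injective (hv.symm.trans hhu.symm : h * f zc * h⁻¹ = h * f uc * h⁻¹)
        exact z_facts.2.2.2.2.2.2.1 (hT.inj this).symm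
    obtain ⟨t', ht'⟩ : ∃ t', t' = h⁻¹ * f b * h := ⟨_, rfl⟩
    have ht'A : ∀ x ∈ hT.subA, t' * x * t'⁻¹ ∈ hT.subA := by
      intro x hx
      have hn' := Subgroup.Normal.conj_mem ‹((cj h hT.subA).subgroupOf (S : Subgroup G)).Normal›
        ⟨_, hk (conj_mem_cj.2 hx)⟩ (conj_mem_cj.2 hx) ⟨f b, hT.mem b⟩
      have h1 : f b * (h * x * h⁻¹) * (f b)⁻¹ ∈ cj h hT.subA := hn'
      rw [mem_cj] at h1
      rwa [show t' * x * t'⁻¹ = h⁻¹ * (f b * (h * x * h⁻¹) * (f b)⁻¹) * h by rw [ht']; group]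
    have ht'u : t' * f uc * t'⁻¹ = f uc := by
      have hc : f b * f zc = f zc * f b := (hT.comm_iff b zc).2 (z_facts.2.2.2.2.2.2.2.1 b)
      rw [show t' * f uc * t'⁻¹ = h⁻¹ * (f b * (h * f uc * h⁻¹) * (f b)⁻¹) * h by rw [ht']; group, hhu, hc,
        mul_inv_cancel_right, ← hhu]
      group
    obtain ⟨w, hwA, hw⟩ := ht'A _ ⟨zc, z_facts.2.2.2.1, rfl⟩
    have hw' : w = mm uc zc := by
      have hwZ : IZA w := (iza_iff w).2 ⟨hwA, fun b' hb' => by
        have hm := mem_norm ht'A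
        obtain ⟨b'', hb'', hb3⟩ := ((mem_normalizer_iff.1 ((normalizer _).inv_mem hm)) (f b')).1 ⟨b', hb', rfl⟩
        rw [← hT.comm_iff, hw]
        rw [inv_inv] at hb3
        have hb4 : f b' = t' * f b'' * t'⁻¹ := by rw [hb3]; group
        rw [hb4]
        calc t' * f zc * t'⁻¹ * (t' * f b'' * t'⁻¹) = t' * (f zc * f b'') * t'⁻¹ := by group
          _ = _ := by rw [(hT.comm_iff zc b'').2 (z_facts.2.2.2.2.2.2.2.2 b'')]; group⟩
      rcases hwZ with h' | h' | h' | h'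
      · rw [h', hT.map_zero] at hw
        exact absurd (conj_eq_one_iff.1 hw.symm) hT.z_ne
      · exfalso
        apply hb
        rw [← hT.comm_iff, hv]
        rw [h'] at hw
        have e1 : t' * f zc = f zc * t' := mul_inv_eq_iff_eq_mul.1 hw.symm
        have hbt : f b = h * t' * h⁻¹ := by rw [ht']; group
        calc h * f zc * h⁻¹ * f b = h * (f zc * t') * h⁻¹ := by rw [hbt]; group
          _ = f b * (h * f zc * h⁻¹) := by rw [← e1, hbt]; group
      · exact absurd (hT.inj ((MulAut.conj t').injective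
          ((hw.symm.trans (congrArg f h')).trans ht'u.symm : t' * f zc * t'⁻¹ = t' * f uc * t'⁻¹)))
          (Ne.symm z_facts.2.2.2.2.2.2.1)
      · exact h'
    rw [hw'] at hw
    have hti : ∀ x ∈ hT.subA, t'⁻¹ * x * t' ∈ hT.subA := fun x hx => by
      have := ((mem_normalizer_iff.1 ((normalizer _).inv_mem (mem_norm ht'A))) x).1 hx
      rwa [inv_inv] at this
    have hback : t'⁻¹ * f (mm uc zc) * t' = f zc := by rw [hw]; group
    rcases heZ with h' | h' | h' | h'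
    · exact absurd h' he0
    · exact absurd h' hez
    · refine ⟨t'⁻¹ * t, fun x hx => ?_, ?_⟩
      · rw [show t'⁻¹ * t * x * (t'⁻¹ * t)⁻¹ = t'⁻¹ * (t * x * t⁻¹) * t' by group]
        exact hti _ (htA x hx)
      · rw [h', show t'⁻¹ * t * f uc * (t'⁻¹ * t)⁻¹ = t'⁻¹ * (t * f uc * t⁻¹) * t' by group, htu, hback]
    · exact ⟨t'⁻¹, fun x hx => by rw [inv_inv]; exact hti x hx, by rw [h', inv_inv, hback]⟩
  have hmove : ∀ y, n * g * y * (n * g)⁻¹ = n * (g * y * g⁻¹) * n⁻¹ := fun y => by group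
  have hz' : n * g * f zc * (n * g)⁻¹ = f zc := by rw [hmove, ← he, hn]
  obtain ⟨r', hr'A, hr'⟩ := hnA (f r) ⟨r, ((iza_iff r).1 hrZ).1, rfl⟩
  refine ⟨n * g, hz', fun x hx => ?_, r', ?_, by rw [hmove, hr, hr']⟩
  · rw [← cj_cj] at hx
    obtain ⟨y, hy, rfl⟩ := hx
    exact hnA y (hgA hy)
  have hr'Z : IZA r' := (iza_iff r').2 ⟨hr'A, fun b' hb' => by
    obtain ⟨b'', hb'', hb3⟩ := ((mem_normalizer_iff.1 ((normalizer _).inv_mem (mem_norm hnA))) (f b')).1
      ⟨b', hb', rfl⟩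
    rw [← hT.comm_iff, hr']
    have hb4 : f b' = n * f b'' * n⁻¹ := by rw [hb3]; group
    rw [hb4]
    calc n * f r * n⁻¹ * (n * f b'' * n⁻¹) = n * (f r * f b'') * n⁻¹ := by group
      _ = _ := by rw [(hT.comm_iff r b'').2 (((iza_iff r).1 hrZ).2 b'' hb'')]; group⟩
  rcases hr'Z with h' | h' | h' | h'
  · rw [h', hT.map_zero] at hr'
    exact absurd ((hT.eq_one_iff r).1 (conj_eq_one_iff.1 hr'.symm)) hr0
  · rw [h', ← hn] at hr'
    exact absurd (hT.inj ((MulAut.conj n).injective hr')) her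
  · exact Or.inl h'
  · exact Or.inr h'

end Setup

end Fus

open Subgroup CfsgLib.SylL34 in
/-- An element centralizing `z` normalizes the Clifford group and moves the first involution to the fifth. -/
theorem fusion {G : Type*} [Group G] [Finite G] (S : Sylow 2 G) {f : Fin 128 → G}
    (hT : Tab (S : Subgroup G) f) (h2 : ∀ H : Subgroup G, H.Normal → H.index ≠ 2) :
    ∃ g : G, g * f zc = f zc * g ∧ (∀ c, IQ c → ∃ d, IQ d ∧ g * f c * g⁻¹ = f d) ∧
      (g * f 1 * g⁻¹ = f uc ∨ g * f 1 * g⁻¹ = f (mm uc zc)) := by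
  obtain ⟨g, hgz, hgA, r, hr, hgr⟩ := Fus.step_two hT h2
  have hroot : ∀ a x, Com a 1 → sq a = zc → x = g * f a * g⁻¹ → x ∈ Fus.subW hT := by
    intro a x ha ha2 hx
    obtain ⟨d, hdA, hd⟩ := hgA (conj_mem_cj.2 ⟨a, ha, rfl⟩ : g * f a * g⁻¹ ∈ cj g (Fus.subC hT))
    refine ⟨d, ⟨hdA, root_iq d ((hT.sq_eq_iff d zc).1 ?_)⟩, hd.trans hx.symm⟩
    rw [hd, show g * f a * g⁻¹ * (g * f a * g⁻¹) = g * (f a * f a) * g⁻¹ by group, hT.map_sq, ha2, hgz]
  have hgW : cj g (Fus.subC hT) ≤ Fus.subW hT := by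
    rintro _ ⟨-, ⟨c, hc, rfl⟩, rfl⟩
    obtain ⟨a, ha, ha2, hrest⟩ := cent_q_roots c hc
    have e : f c = f a * f (mm (inv a) c) := by
      rw [hT.mul, hT.map_inv, mul_inv_cancel_left]
    show g * f c * g⁻¹ ∈ Fus.subW hT
    rw [e, show g * (f a * f (mm (inv a) c)) * g⁻¹ = g * f a * g⁻¹ * (g * f (mm (inv a) c) * g⁻¹) by group]
    refine mul_mem (hroot a _ ha ha2 rfl) ?_
    rcases hrest with h | ⟨h, h'⟩
    · rw [h, hT.map_zero]
      simp
    · exact hroot _ _ h h' rfl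
  have hWeq : cj g (Fus.subC hT) = Fus.subW hT :=
    eq_of_le_of_card_ge hgW (by rw [card_cj, Fus.card_subC hT, Fus.card_subW hT])
  set H := centralizer ({f zc} : Set G) ⊓ normalizer (Fus.subW hT : Set G) with hH
  have hSH : (S : Subgroup G) ≤ H := fun x hx => by
    obtain ⟨t, rfl⟩ := hT.surj x hx
    refine ⟨mem_centralizer_singleton_iff.2 ((hT.comm_iff t zc).2 (Fus.z_facts.2.2.2.2.2.2.2.1 t)),
      Fus.mem_norm fun y hy => ?_⟩
    obtain ⟨w, hw, rfl⟩ := hy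
    exact ⟨_, aq_normal t w hw.1 hw.2, (hT.map_conj t w).symm⟩
  have hQH : cj g hT.subQ ≤ H := by
    rintro _ ⟨-, ⟨w, hw, rfl⟩, rfl⟩
    show g * f w * g⁻¹ ∈ H
    refine ⟨mem_centralizer_singleton_iff.2 ?_, Fus.mem_norm fun y hy => ?_⟩
    · conv_lhs => rw [← hgz]
      conv_rhs => rw [← hgz]
      calc g * f w * g⁻¹ * (g * f zc * g⁻¹) = g * (f w * f zc) * g⁻¹ := by group
        _ = _ := by rw [(hT.comm_iff w zc).2 (Fus.z_facts.2.2.2.2.2.2.2.1 w)]; group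
    rw [← hWeq] at hy ⊢
    obtain ⟨-, ⟨c, hc, rfl⟩, rfl⟩ := hy
    show g * f w * g⁻¹ * (g * f c * g⁻¹) * (g * f w * g⁻¹)⁻¹ ∈ cj g (Fus.subC hT)
    rw [show g * f w * g⁻¹ * (g * f c * g⁻¹) * (g * f w * g⁻¹)⁻¹ = g * (f w * f c * (f w)⁻¹) * g⁻¹ by group,
      hT.map_conj]
    exact conj_mem_cj.2 ⟨_, Fus.q_conj w c hw hc, rfl⟩
  obtain ⟨k, hkH, hk⟩ := Fus.move_into S hSH (P := cj g hT.subQ) ((Fus.isPGroup_sub hT).map _) hQH
  rw [cj_cj] at hk
  have hkz : k * g * f zc * (k * g)⁻¹ = f zc := by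
    rw [show k * g * f zc * (k * g)⁻¹ = k * (g * f zc * g⁻¹) * k⁻¹ by group, hgz,
      mem_centralizer_singleton_iff.1 hkH.1, mul_inv_cancel_right]
  have hQ : ∀ c, IQ c → k * g * f c * (k * g)⁻¹ ∈ hT.subQ := by
    have hr' : ∀ a, IQ a → sq a = zc → k * g * f a * (k * g)⁻¹ ∈ hT.subQ := by
      intro a ha ha2
      obtain ⟨d, hd⟩ := hT.surj _ (hk (conj_mem_cj.2 ⟨a, ha, rfl⟩ : k * g * f a * (k * g)⁻¹ ∈ cj (k * g) hT.subQ))
      refine ⟨d, root_iq d ((hT.sq_eq_iff d zc).1 ?_), hd⟩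
      rw [hd, show k * g * f a * (k * g)⁻¹ * (k * g * f a * (k * g)⁻¹) =
        k * g * (f a * f a) * (k * g)⁻¹ by group, hT.map_sq, ha2, hkz]
    intro c hc
    obtain ⟨a, ha, hrest⟩ := iq_roots c hc
    have e : f c = f a * f (mm (inv a) c) := by rw [hT.mul, hT.map_inv, mul_inv_cancel_left]
    rw [e, show k * g * (f a * f (mm (inv a) c)) * (k * g)⁻¹ =
      k * g * f a * (k * g)⁻¹ * (k * g * f (mm (inv a) c) * (k * g)⁻¹) by group]
    refine mul_mem (hr' a (root_iq a ha) ha) ?_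
    rcases hrest with h | h
    · rw [h, hT.map_zero]
      simp
    · exact hr' _ (root_iq _ h) h
  refine ⟨k * g, mul_inv_eq_iff_eq_mul.1 hkz, fun c hc => ?_, ?_⟩
  · obtain ⟨d, hd, hd'⟩ := hQ c hc
    exact ⟨d, hd, hd'.symm⟩
  have hW1 : k * f r * k⁻¹ ∈ Fus.subW hT :=
    ((mem_normalizer_iff.1 hkH.2) _).1 (hgr ▸ hgW (conj_mem_cj.2 ⟨1, Fus.q_facts.2.2.2.2.2.1, rfl⟩))
  obtain ⟨d, ⟨hdA, hdQ⟩, hd⟩ := hW1
  have hkq : k * g * f 1 * (k * g)⁻¹ = f d := by
    rw [hd, ← hgr]; group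
  have hd2 : sq d = 0 := by
    rw [← hT.sq_eq_one_iff, ← hkq]
    exact SylL34.conj_sq _ _ ((hT.sq_eq_one_iff 1).2 Fus.q_facts.2.2.2.2.1)
  rcases invol_iaq d hdA hdQ hd2 with h | h | h | h
  · rw [h, hT.map_zero] at hkq
    exact absurd ((hT.eq_one_iff 1).1 (conj_eq_one_iff.1 hkq)) (by decide)
  · rw [h, ← hkz] at hkq
    exact absurd (hT.inj ((MulAut.conj (k * g)).injective hkq)) (by decide)
  · exact Or.inl (h ▸ hkq)
  · exact Or.inr (h ▸ hkq)

end CfsgLib.JankoSylow
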