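import Cfsg.Agent.JankoSylow.Uniq
import Cfsg.Agent.J2.Main
import Cfsg.Agent.J2.Perm.Cent

/-!
The centraliser of a 2-central involution of the Hall–Janko group is the split extension `2^{1+4}.A₅`.
-/

set_option autoImplicit false
set_option linter.style.haveILetI false
set_option maxRecDepth 100000

namespace CfsgLib.JankoSylow

open CfsgLib.Coset CfsgLib.J2.Perm

/-- The indices of the five involutions belonging to the blocks. -/
def blkInvol (k : Fin 5) : Fin 32 := ([4, 2, 5, 20, 30] : List (Fin 32)).getD k.val 0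

/-- The five involutions in the centraliser. -/
noncomputable def aJ (k : Fin 5) : C := (qElt (blkInvol k)).1

/-- The involution as an element of its centraliser. -/
noncomputable def zJ : C := ⟨CfsgLib.J2.Perm.z, Subgroup.mem_centralizer_singleton_iff.mpr rfl⟩

theorem one_word : sameW (qWords.getD 1 []) [0] = true := by decide +kernel

theorem qElt_one : ((qElt 1).1 : C) = zJ := Subtype.ext (by
  show ev Lp (qWords.getD 1 []) = fl Lp 0
  rw [sameW_eq one_word]; simp)

theorem invol_facts : ∀ i j : Fin 5, qm (blkInvol i) (blkInvol i) = 0 ∧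
    (i ≠ j → qm (blkInvol i) (blkInvol j) = qm 1 (qm (blkInvol j) (blkInvol i))) := by
  decide +kernel

theorem invol_separated : ∀ i j : Fin 5,
    (blkInvol i = blkInvol j ∨ blkInvol i = qm 1 (blkInvol j)) → i = j := by decide +kernel

theorem cent_facts : ∀ t : Fin 32, (∀ k : Fin 5, qm t (blkInvol k) = qm (blkInvol k) t) →
    t = 0 ∨ t = 1 := by decide +kernel

theorem gen_conj : ∀ t : Fin 4, ∀ k : Fin 5,
    (sameW (G1G.getD t.val [] ++ qWords.getD (blkInvol k).val [] ++ (G1G.getD t.val []).reverse)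
      (qWords.getD (blkInvol (wordMap (G1G.getD t.val []) k)).val []) ||
    sameW (G1G.getD t.val [] ++ qWords.getD (blkInvol k).val [] ++ (G1G.getD t.val []).reverse)
      ([0] ++ qWords.getD (blkInvol (wordMap (G1G.getD t.val []) k)).val [])) = true := by
  decide +kernel

theorem qElt_val (a b : Fin 32) : (qElt a).1 * (qElt b).1 = (qElt (qm a b)).1 :=
  congrArg (fun q : Q => (q : C)) (qElt_mul a b)

theorem qElt_val_inj {a b : Fin 32} (h : (qElt a).1 = (qElt b).1) : a = b :=
  qElt_bijective.1 (Subtype.ext h)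

/-- The conjugation action matches the action on the blocks. -/
theorem conj_model (c : C) (k : Fin 5) :
    c * aJ k * c⁻¹ = aJ (η c k) ∨ c * aJ k * c⁻¹ = zJ * aJ (η c k) := by
  have hfin := finite_P
  suffices H : ∀ g : P, g ∈ genW Lp G1G → ∀ hg : g ∈ C, ∀ k,
      g * (aJ k : P) * g⁻¹ = (aJ (η ⟨g, hg⟩ k) : P) ∨
        g * (aJ k : P) * g⁻¹ = CfsgLib.J2.Perm.z * (aJ (η ⟨g, hg⟩ k) : P) by
    rcases H c.1 (C_eq_genW ▸ c.2) c.2 k with h | h
    · exact Or.inl (Subtype.ext h)
    · exact Or.inr (Subtype.ext h)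
  intro g hg
  have h : g ∈ Submonoid.closure (ev Lp '' {w | w ∈ G1G}) := by
    rw [← Subgroup.closure_toSubmonoid_of_finite]; exact hg
  induction h using Submonoid.closure_induction with
  | mem x hx =>
    obtain ⟨w, hw, rfl⟩ := hx
    obtain ⟨t, ht, rfl⟩ := List.getElem_of_mem hw
    intro hg k
    obtain ⟨p, hpk, hp⟩ := maps_word (List.all_eq_true.mp gens_maps _ (List.getElem_mem ht))
    have ht4 : t < 4 := (show G1G.length = 4 by decide +kernel) ▸ ht
    rw [η_eq (g := ⟨_, hg⟩) hp, hpk]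
    have hk := gen_conj ⟨t, ht4⟩ k
    simp only [List.getD_eq_getElem _ _ ht, Bool.or_eq_true] at hk
    rcases hk with hk | hk
    · left
      have e := sameW_eq hk
      rw [ev_append, ev_append, ev_reverse] at e
      exact e
    · right
      have e := sameW_eq hk
      rw [ev_append, ev_append, ev_reverse, ev_append] at e
      refine e.trans ?_
      simp [CfsgLib.J2.Perm.z, aJ, qElt]
  | one => intro hg k; left; rw [show η ⟨1, hg⟩ = 1 from map_one η]; simp
  | mul a b ha hb iha ihb =>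
    intro hg k
    have ha' : a ∈ C := genW_le_C (Subgroup.le_closure_toSubmonoid _ ha)
    have hb' : b ∈ C := genW_le_C (Subgroup.le_closure_toSubmonoid _ hb)
    rw [show η ⟨a * b, hg⟩ = η ⟨a, ha'⟩ * η ⟨b, hb'⟩ from map_mul η ⟨a, ha'⟩ ⟨b, hb'⟩,
      Equiv.Perm.mul_apply,
      show a * b * (aJ k : P) * (a * b)⁻¹ = a * (b * (aJ k : P) * b⁻¹) * a⁻¹ by group]
    have haz : a * CfsgLib.J2.Perm.z = CfsgLib.J2.Perm.z * a :=
      Subgroup.mem_centralizer_singleton_iff.mp ha'
    have hzz : CfsgLib.J2.Perm.z * CfsgLib.J2.Perm.z = 1 := z_sq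
    rcases ihb (Subgroup.le_closure_toSubmonoid _ hb) hb' k with h1 | h1 <;>
      rcases iha (Subgroup.le_closure_toSubmonoid _ ha) ha' (η ⟨b, hb'⟩ k) with h2 | h2
    · exact Or.inl (by rw [h1, h2])
    · exact Or.inr (by rw [h1, h2])
    · exact Or.inr (by rw [h1, ← mul_assoc a, haz, mul_assoc CfsgLib.J2.Perm.z,
        mul_assoc CfsgLib.J2.Perm.z, h2])
    · exact Or.inl (by rw [h1, ← mul_assoc a, haz, mul_assoc CfsgLib.J2.Perm.z,
        mul_assoc CfsgLib.J2.Perm.z, h2, ← mul_assoc, hzz, one_mul])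

theorem invol_word : (wordMaps (altWords.getD 55 []) &&
    sameW (altWords.getD 55 [] ++ altWords.getD 55 []) [] &&
    decide (wordMap (altWords.getD 55 []) ≠ id)) = true := by decide +kernel

/-- The centraliser is the split extension. -/
theorem cliffExt_C : CliffExt C zJ aJ η := by
  have h0 : ((qElt 0).1 : C) = 1 := congrArg (fun q : Q => (q : C)) qElt_zero
  have hfix : ∀ c : C, (∀ i, c * aJ i * c⁻¹ = aJ i) → c = 1 ∨ c = zJ := by
    intro c hc
    have hη : η c = 1 := by
      ext1 k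
      rw [Equiv.Perm.one_apply]
      refine invol_separated _ _ ?_
      rcases conj_model c k with h | h <;> rw [hc] at h
      · exact Or.inl (qElt_val_inj h.symm)
      · right
        have hzz : zJ * zJ = 1 := Subtype.ext z_sq
        have e : aJ (η c k) = zJ * aJ k := by rw [h, ← mul_assoc, hzz, one_mul]
        refine qElt_val_inj (e.trans ?_)
        rw [← qElt_one]; exact qElt_val _ _
    obtain ⟨t, ht⟩ := qElt_bijective.2 ⟨c, hη⟩
    have htc : (qElt t).1 = c := congrArg (fun q : Q => (q : C)) ht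
    rcases cent_facts t (fun k => qElt_val_inj (by
      rw [← qElt_val, ← qElt_val, htc]; exact mul_inv_eq_iff_eq_mul.1 (hc k))) with h | h <;>
      rw [← htc, h]
    exacts [Or.inl h0, Or.inr qElt_one]
  refine ⟨card_C, fun c => Subtype.ext (Subgroup.mem_centralizer_singleton_iff.mp c.2),
    Subtype.ext z_sq, ?_, fun i => ?_, fun i j hij => ?_, conj_model, range_eq, hfix, ?_⟩
  · intro h
    exact absurd (qElt_val_inj ((qElt_one.trans h).trans h0.symm)) (by decide)
  · rw [aJ, qElt_val, (invol_facts i i).1, h0]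
  · rw [aJ, aJ, qElt_val, qElt_val, ← qElt_one, qElt_val, (invol_facts i j).2 hij]
  · have h := invol_word
    simp only [Bool.and_eq_true, decide_eq_true_eq] at h
    obtain ⟨⟨hm, hs⟩, hne⟩ := h
    have hmem : altWords.getD 55 [] ∈ altWords ++ qWords := List.mem_append_left _ (by
      have h : 55 < altWords.length := by decide +kernel
      rw [List.getD_eq_getElem _ _ h]; exact List.getElem_mem h)
    obtain ⟨p, hpk, hp⟩ := maps_word hm
    refine ⟨⟨ev Lp (altWords.getD 55 []), mem_C_word hmem⟩, Subtype.ext ?_, fun e => hne ?_⟩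
    · show ev Lp _ * ev Lp _ = 1
      rw [← ev_append, sameW_eq hs, ev_nil]
    · funext k
      rw [← hpk, ← η_eq (g := ⟨_, mem_C_word hmem⟩) hp, e]; rfl

/-- A split extension `2^{1+4}.A₅` is the centraliser of a 2-central involution of `J₂`. -/
theorem CliffExt.exists_J2 {X : Type*} [Group X] {z : X} {a : Fin 5 → X}
    {π : X →* Equiv.Perm (Fin 5)} (D : CliffExt X z a π) :
    ∃ (z' : Cfsg.Spor.J2) (Q : Sylow 2 Cfsg.Spor.J2), orderOf z' = 2 ∧
      z' ∈ (Q : Subgroup Cfsg.Spor.J2) ∧ (∀ s ∈ (Q : Subgroup Cfsg.Spor.J2), s * z' = z' * s) ∧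
      Nonempty (X ≃* Subgroup.centralizer ({z'} : Set Cfsg.Spor.J2)) := by
  classical
  haveI : Fact (Nat.Prime 2) := ⟨Nat.prime_two⟩
  obtain ⟨eX⟩ := D.nonempty_iso cliffExt_C
  set e := CfsgLib.J2.eJ with he
  set z' := e.symm CfsgLib.J2.Perm.z with hz'
  have hfinJ : Finite Cfsg.Spor.J2 :=
    Nat.finite_of_card_ne_zero (by rw [CfsgLib.J2.card_J2]; norm_num)
  have hmap : (CfsgLib.J2.Perm.C).map e.symm.toMonoidHom =
      Subgroup.centralizer ({z'} : Set Cfsg.Spor.J2) := by
    ext g
    rw [Subgroup.mem_map_equiv, MulEquiv.symm_symm, CfsgLib.J2.Perm.C,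
      Subgroup.mem_centralizer_singleton_iff, Subgroup.mem_centralizer_singleton_iff,
      ← e.injective.eq_iff, map_mul, map_mul, hz', e.apply_symm_apply]
  have hord : orderOf z' = 2 := by
    rw [hz', MulEquiv.orderOf_eq]
    refine orderOf_eq_prime (by rw [pow_two, CfsgLib.J2.Perm.z_sq]) fun h => ?_
    exact cliffExt_C.zne (Subtype.ext h)
  have hcard : Nat.card (Subgroup.centralizer ({z'} : Set Cfsg.Spor.J2)) = 1920 := by
    rw [← hmap, Subgroup.card_map_of_injective e.symm.injective, CfsgLib.J2.Perm.card_C]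
  obtain ⟨R⟩ : Nonempty (Sylow 2 (Subgroup.centralizer ({z'} : Set Cfsg.Spor.J2))) := inferInstance
  have hR : Nat.card (R : Subgroup (Subgroup.centralizer ({z'} : Set Cfsg.Spor.J2))) = 128 := by
    rw [R.card_eq_multiplicity, hcard, show (1920 : ℕ) = 2 ^ 7 * 15 by norm_num,
      Nat.factorization_mul (by norm_num) (by norm_num), Nat.factorization_pow]
    simp [Nat.Prime.factorization_self Nat.prime_two,
      Nat.factorization_eq_zero_of_not_dvd (show ¬ 2 ∣ 15 by decide)]
  set R' := (R : Subgroup (Subgroup.centralizer ({z'} : Set Cfsg.Spor.J2))).map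
    (Subgroup.subtype _) with hR'
  have hR'card : Nat.card R' = 128 := by
    rw [hR', Subgroup.card_map_of_injective (Subgroup.subtype_injective _), hR]
  have hQ : Nat.card R' = 2 ^ (Nat.card Cfsg.Spor.J2).factorization 2 := by
    rw [hR'card, CfsgLib.J2.card_J2, show (604800 : ℕ) = 2 ^ 7 * 4725 by norm_num,
      Nat.factorization_mul (by norm_num) (by norm_num), Nat.factorization_pow]
    simp [Nat.Prime.factorization_self Nat.prime_two,
      Nat.factorization_eq_zero_of_not_dvd (show ¬ 2 ∣ 4725 by decide)]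
  let Q : Sylow 2 Cfsg.Spor.J2 := Sylow.ofCard R' hQ
  have hQR : (Q : Subgroup Cfsg.Spor.J2) = R' := rfl
  refine ⟨z', Q, hord, ?_, ?_, ⟨eX.trans ((e.symm.subgroupMap _).trans (MulEquiv.subgroupCongr hmap))⟩⟩
  · rw [hQR]
    have hzc : z' ∈ Subgroup.centralizer ({z'} : Set Cfsg.Spor.J2) :=
      Subgroup.mem_centralizer_singleton_iff.mpr rfl
    set zc : Subgroup.centralizer ({z'} : Set Cfsg.Spor.J2) := ⟨z', hzc⟩
    have hcen : zc ∈ Subgroup.center (Subgroup.centralizer ({z'} : Set Cfsg.Spor.J2)) :=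
      Subgroup.mem_center_iff.mpr fun g =>
        Subtype.ext (Subgroup.mem_centralizer_singleton_iff.mp g.2)
    haveI : (Subgroup.zpowers zc).Normal :=
      ⟨fun n hn g => by
        have := Subgroup.mem_center_iff.mp (Subgroup.zpowers_le.mpr hcen hn) g
        rwa [this, mul_inv_cancel_right]⟩
    have hp : IsPGroup 2 (Subgroup.zpowers zc) := IsPGroup.of_card (n := 1) (by
      rw [Nat.card_zpowers, pow_one, ← Subgroup.orderOf_coe]; exact hord)
    exact ⟨zc, hp.le_sylow_of_normal R (Subgroup.mem_zpowers zc), rfl⟩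
  · intro s hs
    rw [hQR] at hs
    obtain ⟨s', -, rfl⟩ := hs
    exact Subgroup.mem_centralizer_singleton_iff.mp s'.2

/-- A subgroup of order 128 of a split extension `2^{1+4}.A₅` is a Sylow 2-subgroup of `J₂`. -/
theorem CliffExt.sylow_iso {X : Type*} [Group X] {z : X} {a : Fin 5 → X}
    {π : X →* Equiv.Perm (Fin 5)} (D : CliffExt X z a π) (R : Subgroup X)
    (hR : Nat.card R = 128) (P : Sylow 2 Cfsg.Spor.J2) :
    Nonempty (R ≃* (P : Subgroup Cfsg.Spor.J2)) := by
  haveI : Fact (Nat.Prime 2) := ⟨Nat.prime_two⟩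
  obtain ⟨z', Q, -, -, -, ⟨e⟩⟩ := D.exists_J2
  have hfinJ : Finite Cfsg.Spor.J2 :=
    Nat.finite_of_card_ne_zero (by rw [CfsgLib.J2.card_J2]; norm_num)
  set f : X →* Cfsg.Spor.J2 := (Subgroup.subtype _).comp e.toMonoidHom
  have hf : Function.Injective f := fun u v h => e.injective (Subtype.ext h)
  have hRf : Nat.card (R.map f) = 2 ^ (Nat.card Cfsg.Spor.J2).factorization 2 := by
    rw [Subgroup.card_map_of_injective hf, hR, CfsgLib.J2.card_J2,
      show (604800 : ℕ) = 2 ^ 7 * 4725 by norm_num,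
      Nat.factorization_mul (by norm_num) (by norm_num), Nat.factorization_pow]
    simp [Nat.Prime.factorization_self Nat.prime_two,
      Nat.factorization_eq_zero_of_not_dvd (show ¬ 2 ∣ 4725 by decide)]
  exact ⟨(R.equivMapOfInjective f hf).trans ((Sylow.ofCard (R.map f) hRf).equiv P)⟩

end CfsgLib.JankoSylow
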