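import Cfsg.Agent.JankoSylow.Split
import Cfsg.Agent.JankoSylow.J2Model

/-!
The code table parametrises the Sylow 2-subgroups of the Hall–Janko group.
-/

set_option autoImplicit false
set_option linter.style.haveILetI false

namespace CfsgLib.JankoSylow

open Subgroup

theorem CliffExt.exists_hyp {C : Type*} [Group C] {z : C} {a : Fin 5 → C}
    {π : C →* Equiv.Perm (Fin 5)} (D : CliffExt C z a π) : ∃ b : Fin 5 → C, Hyp b z := by
  obtain ⟨b, E, hb⟩ := D.exists_normal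
  have F : Frame b z := ⟨E.zne, E.zz, E.sq, E.anti, hb⟩
  refine ⟨b, ⟨⟨F, E.zc, ⟨fun x hx g => ?_⟩, fun g hg => ?_⟩, E.card, ?_⟩⟩
  · suffices QQ b ≤ (QQ b).comap (MulAut.conj g).toMonoidHom from this hx
    refine (closure_le _).2 ?_
    rintro _ ⟨i, rfl⟩
    show g * b i * g⁻¹ ∈ QQ b
    rcases E.conj g i with h | h <;> rw [h]
    · exact subset_closure ⟨_, rfl⟩
    · exact mul_mem F.z_mem (subset_closure ⟨_, rfl⟩)
  · rcases E.fix g (fun i => by rw [hg i, mul_inv_cancel_right]) with h | h <;> rw [h]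
    · exact one_mem _
    · exact F.z_mem
  · obtain ⟨s, hs, hss⟩ := E.exists_S hb
    refine ⟨s, hss, fun hQ => ?_, CfsgLib.J2U.σS, hs⟩
    obtain ⟨c, hc, rfl⟩ := F.mem_iff.1 hQ
    have hd : ∀ c : Fin 128, IQ c → Eqz (mm c (bc 0)) (mm (bc 0) c) := by decide +kernel
    have h0 := hs 0
    rw [mul_inv_eq_iff_eq_mul, ← F.el_bc 0, F.mul_el hc (bc_sing 0).1] at h0
    have hne : (CfsgLib.J2U.σS (0 : Fin 5)) ≠ 0 := by decide +kernel
    refine hne (F.b_unique ?_)
    rcases hd c hc with e | e <;> rw [e] at h0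
    · left
      rw [← F.mul_el (bc_sing 0).1 hc, F.el_bc] at h0
      exact (mul_right_cancel h0).symm
    · right
      rw [← F.mul_z (iq_mm _ _ (bc_sing 0).1 hc), ← F.mul_el (bc_sing 0).1 hc, F.el_bc, mul_assoc,
        E.zc (el b z c), ← mul_assoc] at h0
      exact (mul_right_cancel h0).symm

/-- A group isomorphic to a Sylow 2-subgroup of the Hall–Janko group is parametrised by the code table. -/
theorem exists_tab_of_J2 {G : Type*} [Group G] (S : Subgroup G) (P : Sylow 2 Cfsg.Spor.J2)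
    (hS : Nonempty (S ≃* (P : Subgroup Cfsg.Spor.J2))) : ∃ f : Fin 128 → G, Tab S f := by
  obtain ⟨b, H⟩ := cliffExt_C.exists_hyp
  obtain ⟨T, f, hf⟩ := H.exists_tab
  have hT : Nat.card T = 128 := by
    refine (Nat.card_congr (Equiv.ofBijective (fun c => (⟨f c, hf.mem c⟩ : T)) ⟨?_, ?_⟩)).symm.trans
      (Nat.card_fin 128)
    · exact fun x y h => hf.inj (congrArg Subtype.val h :)
    · rintro ⟨x, hx⟩
      obtain ⟨c, rfl⟩ := hf.surj x hx
      exact ⟨c, rfl⟩
  obtain ⟨e1⟩ := hS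
  obtain ⟨e2⟩ := cliffExt_C.sylow_iso T hT P
  let e : T ≃* S := e2.trans e1.symm
  refine ⟨fun c => e ⟨f c, hf.mem c⟩, fun c => (e ⟨f c, hf.mem c⟩).2, fun x hx => ?_, fun c d h => ?_,
    fun c d => ?_⟩
  · obtain ⟨c, hc⟩ := hf.surj (e.symm ⟨x, hx⟩ : T) (e.symm ⟨x, hx⟩).2
    refine ⟨c, ?_⟩
    show ((e ⟨f c, hf.mem c⟩ : S) : G) = x
    rw [show (⟨f c, hf.mem c⟩ : T) = e.symm ⟨x, hx⟩ from Subtype.ext hc, e.apply_symm_apply]
  · exact hf.inj (congrArg Subtype.val (e.injective (Subtype.ext h)) :)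
  · rw [← Subgroup.coe_mul, ← map_mul]
    exact congrArg (fun t : T => ((e t : S) : G)) (Subtype.ext (hf.mul c d))

end CfsgLib.JankoSylow
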