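import Cfsg.Agent.JankoSylow.Quot
import Cfsg.Agent.JankoSylow.Sylow
import Cfsg.Agent.JankoSylow.Fusion
import Cfsg.Agent.LocalB.OddSignalizer

/-!
The centralizer of a central involution in a group with a Sylow 2-subgroup of the type of that of `J₂` and no
normal subgroup of index two.
-/

set_option autoImplicit false
set_option linter.unusedSectionVars false
set_option linter.style.haveILetI false

namespace CfsgLib.JankoSylow

open Subgroup CfsgLib.SylL34

theorem frame_codes : (∀ i j : Fin 5, i ≠ j → mm (bc i) (bc j) = mm zc (mm (bc j) (bc i))) ∧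
    mm (mm (mm (mm (bc 0) (bc 1)) (bc 2)) (bc 3)) (bc 4) = zc ∧ bc 0 = 1 ∧ bc 4 = uc := by decide +kernel

theorem perm_orders : ∀ σ : Equiv.Perm (Fin 5), σ 0 = 4 →
    (∃ v w : Fin 4, (kp v * (σ * kp w * σ⁻¹)) ^ 3 = 1 ∧ kp v * (σ * kp w * σ⁻¹) ≠ 1) ∧
    (∃ v w : Fin 4, (kp v * (σ * kp w * σ⁻¹)) ^ 5 = 1 ∧ kp v * (σ * kp w * σ⁻¹) ≠ 1) := by decide +kernel

namespace Loc

variable {C : Type*} [Group C] [Finite C] {S : Sylow 2 C} {f : Fin 128 → C} (L : Loc S f)
include L

/-- The hypotheses on the frame of the Clifford group in a core-free such group. -/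
theorem exists_hyp (hO : Cfsg.oddCore C = ⊥) :
    ∃ H : Hyp (fun i => f (bc i)) (f zc), QQ (fun i => f (bc i)) = L.tab.subQ ∧
      ∀ v : Fin 4, H.eta (f (kc v)) = kp v := by
  classical
  haveI : Fact (Nat.Prime 2) := ⟨Nat.prime_two⟩
  set z := f zc with hzdef
  haveI : (zpowers z).Normal := ⟨fun n hn g => by
    obtain ⟨k, rfl⟩ := mem_zpowers_iff.1 hn
    rw [((show Commute g z from L.central g).zpow_right k).eq, mul_inv_cancel_right]
    exact zpow_mem (mem_zpowers z) k⟩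
  set π := QuotientGroup.mk' (zpowers z)
  have P : Proj f π := by
    refine ⟨QuotientGroup.mk'_surjective _, fun x => ?_⟩
    rw [QuotientGroup.mk'_apply, QuotientGroup.eq_one_iff, mem_zpowers_iff]
    have h2 : z ^ (2 : ℤ) = 1 := by rw [zpow_two]; exact L.tab.z_sq
    constructor
    · rintro ⟨k, rfl⟩
      rcases Int.even_or_odd k with ⟨j, rfl⟩ | ⟨j, rfl⟩
      · left; rw [← two_mul, zpow_mul, h2, one_zpow]
      · right; rw [zpow_add_one, zpow_mul, h2, one_zpow, one_mul]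
    · rintro (rfl | rfl)
      · exact ⟨0, zpow_zero _⟩
      · exact ⟨1, zpow_one _⟩
  have hOH : Cfsg.oddCore (C ⧸ zpowers z) = ⊥ := by
    rw [eq_bot_iff]
    intro y hy
    obtain ⟨x, rfl⟩ := P.surj y
    obtain ⟨o, ho, hx⟩ := core_lift π (a := z) L.central L.tab.z_sq P.ker hy
    rw [hO, mem_bot] at ho
    subst ho
    rw [mem_bot, P.ker]
    simpa using hx
  obtain ⟨hN, hC⟩ := P.normal_V L hOH
  set b : Fin 5 → C := fun i => f (bc i) with hb
  have F : Frame b z := ⟨L.tab.z_ne, L.tab.z_sq, fun i => (L.tab.sq_eq_one_iff _).2 (bc_sing i).2.1,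
    fun i j h => by
      simp only [hb, hzdef]
      rw [← L.tab.mul, frame_codes.1 i j h, L.tab.mul, L.tab.mul],
    by
      simp only [hb, hzdef]
      rw [← L.tab.mul, ← L.tab.mul, ← L.tab.mul, ← L.tab.mul, frame_codes.2.1]⟩
  have hQQ : QQ b = L.tab.subQ := by
    refine eq_of_le_of_card_ge ((closure_le _).2 ?_) (by rw [F.card_QQ, L.tab.card_subQ])
    rintro _ ⟨i, rfl⟩
    exact ⟨bc i, (bc_sing i).1, rfl⟩
  have hback : ∀ x : C, π x ∈ P.V L → x ∈ L.tab.subQ := by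
    intro x hx
    obtain ⟨d, hd, e⟩ := (P.mem_V L).1 hx
    rcases (P.eq_iff L _ _).1 e.symm with h | h
    · exact ⟨d, hd, h.symm⟩
    · exact ⟨mm d zc, iq_mm _ _ hd (by decide), by rw [h, L.tab.mul]⟩
  have hp : Pre b z := by
    refine ⟨F, L.central, ⟨fun x hx g => ?_⟩, fun g hg => ?_⟩
    · rw [hQQ] at hx ⊢
      refine hback _ ?_
      rw [map_mul, map_mul, map_inv]
      exact conj_mem_of_normalizer (hN ▸ mem_top (π g)) (mem_map_of_mem π hx)
    · rw [hQQ]
      refine hback g (hC (mem_centralizer_iff.2 ?_))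
      rintro _ ⟨y, hy, rfl⟩
      have : QQ b ≤ centralizer ({g} : Set C) :=
        (closure_le _).2 fun _ ⟨i, hi⟩ => mem_centralizer_singleton_iff.2 (hi ▸ (hg i).symm)
      rw [← map_mul, ← map_mul, mem_centralizer_singleton_iff.1 (this (hQQ ▸ hy))]
  have hk : ∀ v : Fin 4, hp.eta (f (kc v)) = kp v := fun v => hp.eta_eq fun i => by
    simp only [hb]
    rw [L.tab.map_conj, kc_bc]
    rfl
  -- the image has order sixty
  obtain ⟨m, -, hm⟩ := L.moved
  have hσ : hp.eta m 0 = 4 := by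
    refine hp.img_eq ?_
    simp only [hb, hzdef]
    rw [frame_codes.2.2.1, frame_codes.2.2.2, ← L.tab.mul]
    exact hm
  set Γ := hp.eta.range
  have hcard : Nat.card C = 32 * Nat.card Γ := by
    have h := hp.eta.ker.card_mul_index
    rwa [index_ker, hp.ker_eq, F.card_QQ, eq_comm] at h
  have hdvd : Nat.card Γ ∣ 120 := by
    have h := Γ.card_subgroup_dvd_card
    rwa [show Nat.card (Equiv.Perm (Fin 5)) = 120 by rw [Nat.card_eq_fintype_card, Fintype.card_perm]; rfl] at h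
  have h8 : ¬ 8 ∣ Nat.card Γ := by
    intro h
    have h256 : 2 ^ 8 ∣ Nat.card C := by
      rw [hcard]; exact (show (2 : ℕ) ^ 8 = 32 * 8 from rfl) ▸ Nat.mul_dvd_mul_left 32 h
    have h1 := (Nat.prime_two.pow_dvd_iff_le_factorization Nat.card_pos.ne').1 h256
    have h2 := S.card_eq_multiplicity
    rw [L.tab.card_eq, show (128 : ℕ) = 2 ^ 7 from rfl] at h2
    have h3 := Nat.pow_right_injective le_rfl h2
    omega
  have hkmem : ∀ v, kp v ∈ Γ := fun v => ⟨_, hk v⟩
  have h4 : 4 ∣ Nat.card Γ := by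
    let K4 : Subgroup (Equiv.Perm (Fin 5)) :=
      { carrier := Set.range kp
        one_mem' := ⟨0, by decide +kernel⟩
        mul_mem' := by
          rintro _ _ ⟨v, rfl⟩ ⟨w, rfl⟩
          exact ⟨v ^^^ w, ((by decide +kernel : ∀ v w : Fin 4, kp v * kp w = kp (v ^^^ w)) v w).symm⟩
        inv_mem' := by
          rintro _ ⟨v, rfl⟩
          exact ⟨v, ((by decide +kernel : ∀ v : Fin 4, (kp v)⁻¹ = kp v) v).symm⟩ }
    have hK : Nat.card K4 = 4 := by
      show Nat.card (Set.range kp) = 4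
      rw [Nat.card_range_of_injective (f := kp) (by decide +kernel), Nat.card_fin]
    rw [← hK]
    exact card_dvd_of_le (by rintro _ ⟨v, rfl⟩; exact hkmem v)
  obtain ⟨⟨v3, w3, e3, n3⟩, ⟨v5, w5, e5, n5⟩⟩ := perm_orders _ hσ
  have hmem : ∀ v w, kp v * (hp.eta m * kp w * (hp.eta m)⁻¹) ∈ Γ := fun v w =>
    mul_mem (hkmem v) (mul_mem (mul_mem ⟨m, rfl⟩ (hkmem w)) (inv_mem ⟨m, rfl⟩))
  have h3 : 3 ∣ Nat.card Γ := by
    rw [← orderOf_eq_prime e3 n3 (hp := ⟨by norm_num⟩)]
    exact Subgroup.orderOf_dvd_natCard Γ (hmem v3 w3)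
  have h5 : 5 ∣ Nat.card Γ := by
    have h := Subgroup.orderOf_dvd_natCard Γ (hmem v5 w5)
    rwa [orderOf_eq_prime e5 n5 (hp := ⟨by norm_num⟩)] at h
  have h60 : Nat.card Γ = 60 := by
    have hle : Nat.card Γ ≤ 120 := Nat.le_of_dvd (by norm_num) hdvd
    omega
  have H : Hyp b z := by
    refine ⟨hp, by rw [hcard, h60], f (kc 1), (L.tab.sq_eq_one_iff _).2 (kc_sq 1), fun h => ?_, kp 1,
      fun i => ?_⟩
    · have h1 := hp.eta_QQ h
      rw [hk] at h1
      exact absurd h1 (by decide +kernel)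
    · simp only [hb]
      rw [L.tab.map_conj, kc_bc]
      rfl
  exact ⟨H, hQQ, hk⟩

/-- A core-free such group is the split extension. -/
theorem cliffExt (hO : Cfsg.oddCore C = ⊥) :
    ∃ (a : Fin 5 → C) (η : C →* Equiv.Perm (Fin 5)), CliffExt C (f zc) a η := by
  obtain ⟨H, -, hk⟩ := L.exists_hyp hO
  set b : Fin 5 → C := fun i => f (bc i)
  have F := H.frame
  refine ⟨b, H.eta, ⟨H.card, L.central, L.tab.z_sq, L.tab.z_ne, F.sq, F.anti, fun c i => ?_, H.range_eq,
    fun c hc => ?_, f (kc 1), (L.tab.sq_eq_one_iff _).2 (kc_sq 1), ?_⟩⟩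
  · rcases H.eta_spec c i with h | h
    · exact Or.inl h
    · exact Or.inr (h.trans (L.central _))
  · have h1 : H.eta c = 1 := H.eta_eq fun i => by rw [hc i]; rfl
    exact H.exact_ker (fun i => by rw [h1, hc i]; rfl) h1
  · show H.eta (f (kc 1)) ≠ 1
    rw [hk]
    decide +kernel

end Loc

/-- The centralizer of a central involution is that of a 2-central involution of the Hall–Janko group. -/
theorem centralizer_structure {G : Type*} [Group G] [Finite G] (S : Sylow 2 G) (P : Sylow 2 Cfsg.Spor.J2)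
    (hS : Nonempty (↥(S : Subgroup G) ≃* ↥(P : Subgroup Cfsg.Spor.J2)))
    (h2 : ∀ H : Subgroup G, H.Normal → H.index ≠ 2)
    (z : G) (hz : orderOf z = 2) (hzS : z ∈ (S : Subgroup G))
    (hzc : ∀ s ∈ (S : Subgroup G), s * z = z * s) :
    ∃ (z' : Cfsg.Spor.J2) (Q : Sylow 2 Cfsg.Spor.J2), orderOf z' = 2 ∧
      z' ∈ (Q : Subgroup Cfsg.Spor.J2) ∧ (∀ s ∈ (Q : Subgroup Cfsg.Spor.J2), s * z' = z' * s) ∧
      Nonempty ((↥(centralizer ({z} : Set G)) ⧸ Cfsg.oddCore ↥(centralizer ({z} : Set G))) ≃*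
        ↥(centralizer ({z'} : Set Cfsg.Spor.J2))) := by
  classical
  haveI : Fact (Nat.Prime 2) := ⟨Nat.prime_two⟩
  obtain ⟨f, hT⟩ := exists_tab_of_J2 (S : Subgroup G) P hS
  obtain ⟨c, rfl⟩ := hT.surj z hzS
  obtain rfl : c = zc := by
    refine ((centre c).1 fun d => ((hT.comm_iff d c).1 (hzc _ (hT.mem d))).symm).resolve_left ?_
    rintro rfl
    rw [hT.map_zero, orderOf_one] at hz
    exact absurd hz (by norm_num)
  obtain ⟨g, hgz, hgQ, hgu⟩ := fusion S hT h2
  set C := centralizer ({f zc} : Set G)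
  have hSC : (S : Subgroup G) ≤ C := fun s hs => mem_centralizer_singleton_iff.2 (hzc s hs)
  set S0 := S.subtype hSC
  haveI : (Cfsg.oddCore C).Normal := ocore_normal
  set p := QuotientGroup.mk' (Cfsg.oddCore C)
  set f' : Fin 128 → C ⧸ Cfsg.oddCore C := fun c => p ⟨f c, hSC (hT.mem c)⟩
  have hT' : Tab (S0.mapSurjective (QuotientGroup.mk'_surjective (Cfsg.oddCore C)) : Subgroup (C ⧸ Cfsg.oddCore C))
      f' := by
    refine ⟨fun c => ⟨⟨f c, hSC (hT.mem c)⟩, hT.mem c, rfl⟩, ?_, fun a b h => ?_, fun a b => ?_⟩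
    · rintro _ ⟨y, hy, rfl⟩
      obtain ⟨c, hc⟩ := hT.surj (y : G) hy
      exact ⟨c, congrArg p (Subtype.ext hc)⟩
    · refine hT.inj ?_
      have h1 : (⟨f a, hSC (hT.mem a)⟩ : C)⁻¹ * ⟨f b, hSC (hT.mem b)⟩ ∈ Cfsg.oddCore C := QuotientGroup.eq.1 h
      have h2 := inf_eq_bot_of_odd (ocore_odd (G := C)) S0.2 h1
        (mul_mem (inv_mem (show (⟨f a, hSC (hT.mem a)⟩ : C) ∈ (S0 : Subgroup C) from hT.mem a))
          (show (⟨f b, hSC (hT.mem b)⟩ : C) ∈ (S0 : Subgroup C) from hT.mem b))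
      rw [inv_mul_eq_one] at h2
      exact congrArg Subtype.val h2
    · show p _ = p _ * p _
      rw [← map_mul]
      exact congrArg p (Subtype.ext (hT.mul a b))
  have L : Loc (S0.mapSurjective (QuotientGroup.mk'_surjective (Cfsg.oddCore C))) f' := by
    refine ⟨hT', fun y => ?_, p ⟨g, mem_centralizer_singleton_iff.2 hgz⟩, fun c hc => ?_, ?_⟩
    · obtain ⟨y, rfl⟩ := QuotientGroup.mk'_surjective (Cfsg.oddCore C) y
      show p y * p _ = p _ * p y
      rw [← map_mul, ← map_mul]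
      exact congrArg p (Subtype.ext (mem_centralizer_singleton_iff.1 y.2))
    · obtain ⟨d, hd, e⟩ := hgQ c hc
      refine ⟨d, hd, ?_⟩
      show p _ * p _ * (p _)⁻¹ = p _
      rw [← map_inv, ← map_mul, ← map_mul]
      exact congrArg p (Subtype.ext e)
    · simp only [f']
      rw [← map_inv, ← map_mul, ← map_mul]
      exact hgu.imp (fun e => congrArg p (Subtype.ext e)) (fun e => congrArg p (Subtype.ext e))
  obtain ⟨a, η, D⟩ := L.cliffExt LocalB.oddCore_quotient
  exact D.exists_J2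

end CfsgLib.JankoSylow
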