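import Cfsg.Agent.JankoSylow.CentU
import Cfsg.Agent.JankoSylow.CoreLift
import Cfsg.Agent.Invol.IsolatedApps

/-!
Modulo the centre: the image `V` of the Clifford group is normal.
-/

set_option autoImplicit false
set_option linter.unusedSectionVars false
set_option linter.style.haveILetI false

namespace CfsgLib.JankoSylow

open Subgroup CfsgLib.SylL34

theorem iq_kinds : ∀ c : Fin 128, IQ c → c = 0 ∨ c = zc ∨ Sing c ∨ sq c = zc := by decide +kernel

theorem sing_eqz : ∀ c d : Fin 128, Sing d → Eqz c d → Sing c ∧ sq c ≠ zc := by decide +kernel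

theorem iq_eqz : ∀ c d : Fin 128, IQ d → Eqz c d → IQ c := by decide +kernel

theorem gen_split : ∀ c : Fin 128, IQ c ∨ ∃ v : Fin 4, IQ (mm c (kc v)) := by decide +kernel

theorem kc_sq : ∀ v : Fin 4, sq (kc v) = 0 := by decide +kernel

theorem v_reps : (∀ c d : Fin 128, c.val < 16 → d.val < 16 → Eqz c d → c = d) ∧
    ∀ c : Fin 128, IQ c → ∃ d : Fin 128, d.val < 16 ∧ Eqz c d := by decide +kernel

/-- A projection with kernel the central involution. -/
structure Proj {C H : Type*} [Group C] [Group H] (f : Fin 128 → C) (π : C →* H) : Prop where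
  surj : Function.Surjective π
  ker : ∀ x : C, π x = 1 ↔ x = 1 ∨ x = f zc

namespace Proj

variable {C : Type*} [Group C] [Finite C] {S : Sylow 2 C} {f : Fin 128 → C}
  {H : Type*} [Group H] [Finite H] {π : C →* H} (P : Proj f π) (L : Loc S f)
include P L

theorem eq_iff (x y : C) : π x = π y ↔ x = y ∨ x = y * f zc := by
  rw [← inv_mul_eq_one, ← map_inv, ← map_mul, P.ker, inv_mul_eq_one, inv_mul_eq_iff_eq_mul]
  constructor
  · rintro (h | h)
    · exact Or.inl h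
    · exact Or.inr (by rw [h, mul_assoc, L.tab.z_sq, mul_one])
  · rintro (h | h)
    · exact Or.inl h
    · exact Or.inr (by rw [h, mul_assoc, L.tab.z_sq, mul_one])

theorem eq_code (c d : Fin 128) : π (f c) = π (f d) ↔ Eqz c d := by rw [P.eq_iff L, L.tab.eqz_iff]

theorem eq_one_code (c : Fin 128) : π (f c) = 1 ↔ c = 0 ∨ c = zc := by
  rw [P.ker, L.tab.eq_one_iff, L.tab.inj.eq_iff]

omit P L in
/-- The image of the Clifford group. -/
abbrev V (_P : Proj f π) (L' : Loc S f) : Subgroup H := L'.tab.subQ.map π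

theorem mem_V {v : H} : v ∈ P.V L ↔ ∃ c, IQ c ∧ π (f c) = v := by
  constructor
  · rintro ⟨_, ⟨c, hc, rfl⟩, rfl⟩; exact ⟨c, hc, rfl⟩
  · rintro ⟨c, hc, rfl⟩; exact ⟨_, ⟨c, hc, rfl⟩, rfl⟩

theorem V_sq : ∀ v ∈ P.V L, v * v = 1 := by
  intro v hv
  obtain ⟨c, hc, rfl⟩ := (P.mem_V L).1 hv
  rw [← map_mul, L.tab.map_sq, P.eq_one_code L]
  exact (by decide +kernel : ∀ c : Fin 128, IQ c → JankoSylow.sq c = 0 ∨ JankoSylow.sq c = zc) c hc

theorem V_comm {v w : H} (hv : v ∈ P.V L) (hw : w ∈ P.V L) : v * w = w * v := comm_of_sq (P.V_sq L) hv hw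

theorem card_V : Nat.card (P.V L) = 16 := by
  refine Eq.trans (Nat.card_congr (Equiv.ofBijective
    (fun c : {c : Fin 128 // c.val < 16} => (⟨π (f c.1),
      (P.mem_V L).2 ⟨c.1, Nat.lt_of_lt_of_le c.2 (by norm_num), rfl⟩⟩ : P.V L)) ⟨?_, ?_⟩)).symm ?_
  · exact fun x y h => Subtype.ext (v_reps.1 _ _ x.2 y.2 ((P.eq_code L _ _).1 (congrArg Subtype.val h :)))
  · rintro ⟨v, hv⟩
    obtain ⟨c, hc, rfl⟩ := (P.mem_V L).1 hv
    obtain ⟨d, hd, e⟩ := v_reps.2 c hc
    exact ⟨⟨d, hd⟩, Subtype.ext ((P.eq_code L _ _).2 e).symm⟩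
  · rw [Nat.card_eq_fintype_card]; decide

omit P L in
/-- The Sylow 2-subgroup of the quotient. -/
noncomputable abbrev R (P' : Proj f π) (_L : Loc S f) : Sylow 2 H :=
  haveI : Fact (Nat.Prime 2) := ⟨Nat.prime_two⟩
  S.mapSurjective P'.surj

theorem mem_R {x : H} : x ∈ (P.R L : Subgroup H) ↔ ∃ c, π (f c) = x := by
  constructor
  · rintro ⟨y, hy, rfl⟩
    obtain ⟨c, rfl⟩ := L.tab.surj y hy
    exact ⟨c, rfl⟩
  · rintro ⟨c, rfl⟩
    exact ⟨f c, L.tab.mem c, rfl⟩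

theorem V_le_R : P.V L ≤ (P.R L : Subgroup H) := fun v hv => by
  obtain ⟨c, -, rfl⟩ := (P.mem_V L).1 hv
  exact (P.mem_R L).2 ⟨c, rfl⟩

theorem closed_V {v g : H} (hv : v ∈ P.V L) (h : g * v * g⁻¹ ∈ (P.R L : Subgroup H)) : g * v * g⁻¹ ∈ P.V L := by
  obtain ⟨c, hc, rfl⟩ := (P.mem_V L).1 hv
  obtain ⟨x, rfl⟩ := P.surj g
  obtain ⟨d, hd⟩ := (P.mem_R L).1 h
  have hd' : π (x * f c * x⁻¹) = π (f d) := by rw [hd, map_mul, map_mul, map_inv]
  rcases (P.eq_iff L _ _).1 hd' with e | e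
  · exact (P.mem_V L).2 ⟨d, L.closed hc e, hd⟩
  · rw [← L.tab.mul] at e
    exact (P.mem_V L).2 ⟨d, iq_eqz d _ (L.closed hc e) (Or.inr ((by decide +kernel :
      ∀ d : Fin 128, d = mm (mm d zc) zc) d)), hd⟩

theorem R_normalizes : (P.R L : Subgroup H) ≤ normalizer (P.V L : Set H) := fun _ hr =>
  mem_normalizer_of_conj_mem fun v hv =>
    P.closed_V L hv (mul_mem (mul_mem hr (P.V_le_R L hv)) (inv_mem hr))

theorem cj_mem_normalizer {g : H} (h : cj g (P.V L) ≤ (P.R L : Subgroup H)) :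
    g ∈ normalizer (P.V L : Set H) :=
  mem_normalizer_of_conj_mem fun _ hv => P.closed_V L hv (h (conj_mem_cj.2 hv))

/-- Every 2-group containing `V` normalises it. -/
theorem two_normalizes {T : Subgroup H} (hT : IsPGroup 2 T) (hV : P.V L ≤ T) :
    T ≤ normalizer (P.V L : Set H) := by
  obtain ⟨g, hg⟩ := exists_cj_le (P.R L) hT
  have hgN := P.cj_mem_normalizer L ((map_mono hV).trans hg)
  intro y hy
  have h1 := P.R_normalizes L (hg (conj_mem_cj.2 hy))
  have := mul_mem (mul_mem (inv_mem hgN) h1) hgN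
  rwa [show g⁻¹ * (g * y * g⁻¹) * g = y by group] at this

/-- A conjugate of an element of `V` in a 2-group containing `V` lies in `V`. -/
theorem two_closed {T : Subgroup H} (hT : IsPGroup 2 T) (hV : P.V L ≤ T) {v x : H} (hv : v ∈ P.V L)
    (h : x * v * x⁻¹ ∈ T) : x * v * x⁻¹ ∈ P.V L := by
  obtain ⟨g, hg⟩ := exists_cj_le (P.R L) hT
  have hgN := P.cj_mem_normalizer L ((map_mono hV).trans hg)
  have h1 := P.closed_V L (g := g * x) hv (by
    have := hg (conj_mem_cj.2 h)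
    rwa [show g * (x * v * x⁻¹) * g⁻¹ = g * x * v * (g * x)⁻¹ by group] at this)
  rw [show g * x * v * (g * x)⁻¹ = g * (x * v * x⁻¹) * g⁻¹ by group] at h1
  exact (mem_normalizer_iff.1 hgN _).2 h1

theorem isPGroup_V : IsPGroup 2 (P.V L) := isPGroup_of_sq (P.V_sq L)

/-- The Frattini argument for `V`. -/
theorem frattini {X : Subgroup H} (hV : P.V L ≤ X) {c : H} (hc : c ∈ normalizer (X : Set H)) :
    ∃ r ∈ X, r * c ∈ normalizer (P.V L : Set H) := by
  haveI : Fact (Nat.Prime 2) := ⟨Nat.prime_two⟩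
  obtain ⟨T, hT⟩ := ((P.isPGroup_V L).comap_subtype : IsPGroup 2 ((P.V L).subgroupOf X)).exists_le_sylow
  obtain ⟨r, hr⟩ := exists_cj_le T (P := (cj c (P.V L)).subgroupOf X) (((P.isPGroup_V L).map _).comap_subtype)
  refine ⟨r, r.2, mem_normalizer_of_conj_mem fun v hv => ?_⟩
  have hcv : c * v * c⁻¹ ∈ X := conj_mem_of_normalizer hc (hV hv)
  have h1 := hr ((conj_mem_cj (g := r)).2 (show (⟨_, hcv⟩ : X) ∈ (cj c (P.V L)).subgroupOf X from conj_mem_cj.2 hv))
  refine P.two_closed L (T.2.map X.subtype) (fun w hw => ⟨⟨w, hV hw⟩, hT hw, rfl⟩) hv ?_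
  exact ⟨_, h1, by simp [mul_assoc]⟩

omit P L in
/-- A singular point. -/
def SingV (_P : Proj f π) (_L : Loc S f) (v : H) : Prop := ∃ c, Sing c ∧ π (f c) = v

theorem SingV_mem {v : H} (h : P.SingV L v) : v ∈ P.V L := by
  obtain ⟨c, hc, rfl⟩ := h
  exact (P.mem_V L).2 ⟨c, hc.1, rfl⟩

theorem SingV_ne {v : H} (h : P.SingV L v) : v ≠ 1 := by
  obtain ⟨c, hc, rfl⟩ := h
  rw [ne_eq, P.eq_one_code L]
  exact fun h => h.elim hc.2.2.1 hc.2.2.2

theorem singV_bc (i : Fin 5) : P.SingV L (π (f (bc i))) := ⟨_, bc_sing i, rfl⟩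

theorem SingV_conj {v g : H} (h : P.SingV L v) (hg : g * v * g⁻¹ ∈ P.V L) : P.SingV L (g * v * g⁻¹) := by
  obtain ⟨c, hc, rfl⟩ := h
  obtain ⟨x, rfl⟩ := P.surj g
  obtain ⟨d, hd, e⟩ := (P.mem_V L).1 hg
  have he : π (x * f c * x⁻¹) = π (f d) := by rw [e, map_mul, map_mul, map_inv]
  obtain ⟨d', hd', hdd⟩ : ∃ d', x * f c * x⁻¹ = f d' ∧ Eqz d' d := by
    rcases (P.eq_iff L _ _).1 he with h | h
    · exact ⟨d, h, Or.inl rfl⟩
    · exact ⟨_, h.trans (L.tab.mul _ _).symm, Or.inr rfl⟩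
  refine ⟨d', ⟨iq_eqz d' d hd hdd, ?_, ?_, ?_⟩, ?_⟩
  · refine (L.tab.sq_eq_one_iff d').1 ?_
    rw [← hd', show x * f c * x⁻¹ * (x * f c * x⁻¹) = x * (f c * f c) * x⁻¹ by group,
      (L.tab.sq_eq_one_iff c).2 hc.2.1]
    group
  · intro h0
    rw [h0, L.tab.map_zero] at hd'
    exact hc.2.2.1 ((L.tab.eq_one_iff c).1 (conj_eq_one_iff.1 hd'))
  · intro h0
    rw [h0] at hd'
    refine hc.2.2.2 (L.tab.inj ?_)
    calc f c = x⁻¹ * (x * f c * x⁻¹) * x := by group
      _ = x⁻¹ * (f zc * x) := by rw [hd', mul_assoc]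
      _ = f zc := by rw [← L.central, inv_mul_cancel_left]
  · rw [← hd', map_mul, map_mul, map_inv]

theorem not_singV_root {c : Fin 128} (h : JankoSylow.sq c = zc) : ¬ P.SingV L (π (f c)) := by
  rintro ⟨d, hd, e⟩
  exact (sing_eqz c d hd ((P.eq_code L _ _).1 e.symm)).2 h

theorem kinds {v : H} (hv : v ∈ P.V L) (h1 : v ≠ 1) :
    P.SingV L v ∨ ∃ c, IQ c ∧ JankoSylow.sq c = zc ∧ π (f c) = v := by
  obtain ⟨c, hc, rfl⟩ := (P.mem_V L).1 hv
  rcases iq_kinds c hc with e | e | e | e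
  · exact absurd ((P.eq_one_code L c).2 (Or.inl e)) h1
  · exact absurd ((P.eq_one_code L c).2 (Or.inr e)) h1
  · exact Or.inl ⟨c, e, rfl⟩
  · exact Or.inr ⟨c, hc, e, rfl⟩

/-- The centralizer of a singular point. -/
theorem cent_sing {v h : H} (hv : P.SingV L v) (hh : h * v = v * h) :
    ∃ o ∈ Oc v, ∃ n ∈ normalizer (P.V L : Set H), h = o * n := by
  -- the fifth point
  have hu : ∀ h : H, h * π (f uc) = π (f uc) * h →
      ∃ o ∈ Oc (π (f uc)), ∃ n ∈ normalizer (P.V L : Set H), h = o * n := by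
    intro h hh
    have hlift : ∀ g : C, π g * π (f uc) = π (f uc) * π g →
        g * f uc * g⁻¹ = f uc ∨ g * f uc * g⁻¹ = f (mm uc zc) := fun g hg => by
      rw [L.tab.mul, ← P.eq_iff L, map_mul, map_mul, map_inv, hg, mul_inv_cancel_right]
    obtain ⟨g, rfl⟩ := P.surj h
    obtain ⟨o, ho, n, hn, rfl⟩ := L.stab_decomp (hlift g hh)
    refine ⟨π o, ?_, π n, ?_, map_mul π o n⟩
    · refine le_Oc (x := π (f uc)) (N := L.Ou.map π) ?_ ?_ ?_ (mem_map_of_mem π ho)
      · rintro _ ⟨y, hy, rfl⟩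
        obtain ⟨y', -, rfl⟩ := hy
        exact mem_centralizer_singleton_iff.2 (by
          rw [← map_mul, ← map_mul]; exact congrArg π (mem_centralizer_singleton_iff.1 y'.2))
      · intro c hc
        obtain ⟨g', rfl⟩ := P.surj c
        refine mem_normalizer_of_conj_mem ?_
        rintro _ ⟨y, hy, rfl⟩
        exact ⟨g' * y * g'⁻¹, conj_mem_of_normalizer
          (L.normalizes_Ou (hlift g' (mem_centralizer_singleton_iff.1 hc))) hy, by simp⟩
      · exact Odd.of_dvd_nat L.Ou_odd (card_map_dvd L.Ou π)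
    · refine mem_normalizer_of_conj_mem ?_
      rintro _ ⟨y, hy, rfl⟩
      exact ⟨n * y * n⁻¹, conj_mem_of_normalizer hn hy, by simp⟩
  -- move `v` there by an element of the normalizer
  obtain ⟨g, hg, hgv⟩ : ∃ g ∈ normalizer (P.V L : Set H), g * π (f uc) * g⁻¹ = v := by
    obtain ⟨c, hc, rfl⟩ := hv
    have hN : ∀ t : Fin 128, π (f t) ∈ normalizer (P.V L : Set H) := fun t =>
      P.R_normalizes L ((P.mem_R L).2 ⟨t, rfl⟩)
    obtain ⟨m, hmQ, hm⟩ := L.moved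
    have hmN : π m ∈ normalizer (P.V L : Set H) := mem_normalizer_of_conj_mem fun w hw => by
      obtain ⟨d, hd, rfl⟩ := (P.mem_V L).1 hw
      obtain ⟨d', hd', e⟩ := hmQ d hd
      exact (P.mem_V L).2 ⟨d', hd', by rw [← e, map_mul, map_mul, map_inv]⟩
    rcases sing_orbit c hc with rfl | rfl | ⟨t, ht⟩
    · exact ⟨1, one_mem _, by group⟩
    · exact ⟨1, one_mem _, by
        rw [one_mul, inv_one, mul_one, P.eq_code L]
        exact Or.inr ((by decide +kernel : uc = mm (mm uc zc) zc))⟩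
    · refine ⟨π (f t) * (π m)⁻¹, mul_mem (hN t) (inv_mem hmN), ?_⟩
      have hmu : π (f uc) = π m * π (f 1) * (π m)⁻¹ := by
        rw [← map_inv, ← map_mul, ← map_mul]
        rcases hm with e | e <;> rw [e]
        exact ((P.eq_code L _ _).2 (Or.inr rfl)).symm
      rw [← ht, hmu, ← L.tab.map_conj, map_mul, map_mul, map_inv]
      group
  subst hgv
  obtain ⟨o, ho, n, hn, e⟩ := hu (g⁻¹ * h * g) (by
    calc g⁻¹ * h * g * π (f uc) = g⁻¹ * (h * (g * π (f uc) * g⁻¹)) * g := by group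
      _ = g⁻¹ * ((g * π (f uc) * g⁻¹) * h) * g := by rw [hh]
      _ = π (f uc) * (g⁻¹ * h * g) := by group)
  refine ⟨g * o * g⁻¹, conj_mem_Oc ho, g * n * g⁻¹, mul_mem (mul_mem hg hn) (inv_mem hg), ?_⟩
  calc h = g * (g⁻¹ * h * g) * g⁻¹ := by group
    _ = _ := by rw [e]; group

/-- The centralizer of a nonsingular point. -/
theorem cent_root {a h : H} {ac : Fin 128} (hac : IQ ac) (hsq : JankoSylow.sq ac = zc) (hae : π (f ac) = a)
    (hh : h * a = a * h) : ∃ o ∈ Oc a, ∃ n ∈ normalizer (P.V L : Set H), h = o * n := by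
  classical
  haveI : Fact (Nat.Prime 2) := ⟨Nat.prime_two⟩
  subst hae
  set a := π (f ac)
  have haV : a ∈ P.V L := (P.mem_V L).2 ⟨ac, hac, rfl⟩
  have ha1 : a ≠ 1 := fun e => by
    rcases (P.eq_one_code L ac).1 e with rfl | rfl <;> exact absurd hsq (by decide)
  obtain ⟨i, hi⟩ := root_pair ac hsq
  set v := π (f (bc i)) with hv
  have hvS : P.SingV L v := P.singV_bc L i
  have hvV := P.SingV_mem L hvS
  have hvaS : P.SingV L (v * a) := ⟨_, hi, by rw [L.tab.mul, map_mul]⟩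
  set X := centralizer ({a} : Set H) with hX
  have hVX : P.V L ≤ X := fun w hw => mem_centralizer_singleton_iff.2 (P.V_comm L hw haV)
  set a' : X := ⟨a, mem_centralizer_singleton_iff.2 rfl⟩
  set v' : X := ⟨v, hVX hvV⟩
  have hac' : ∀ x : X, x * a' = a' * x := fun x => Subtype.ext (mem_centralizer_singleton_iff.1 x.2)
  haveI : (zpowers a').Normal := ⟨fun n hn g => by
    obtain ⟨k, rfl⟩ := mem_zpowers_iff.1 hn
    rw [((show Commute g a' from hac' g).zpow_right k).eq, mul_inv_cancel_right]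
    exact zpow_mem (mem_zpowers a') k⟩
  set p := QuotientGroup.mk' (zpowers a') with hp
  have haa : a * a = 1 := P.V_sq L a haV
  have hker : ∀ x : X, p x = 1 ↔ x = 1 ∨ x = a' := fun x => by
    rw [hp, QuotientGroup.mk'_apply, QuotientGroup.eq_one_iff, mem_zpowers_iff]
    constructor
    · rintro ⟨k, rfl⟩
      have h2 : a' ^ (2 : ℤ) = 1 := by rw [zpow_two]; exact Subtype.ext haa
      rcases Int.even_or_odd k with ⟨j, rfl⟩ | ⟨j, rfl⟩
      · left; rw [← two_mul, zpow_mul, h2, one_zpow]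
      · right; rw [zpow_add_one, zpow_mul, h2, one_zpow, one_mul]
    · rintro (rfl | rfl)
      · exact ⟨0, zpow_zero _⟩
      · exact ⟨1, zpow_one _⟩
  obtain ⟨T, hT⟩ := ((P.isPGroup_V L).comap_subtype : IsPGroup 2 ((P.V L).subgroupOf X)).exists_le_sylow
  have hsurj := QuotientGroup.mk'_surjective (zpowers a')
  have hTmap : P.V L ≤ (T : Subgroup X).map X.subtype := fun w hw => ⟨⟨w, hVX hw⟩, hT hw, rfl⟩
  -- isolation
  have hord : orderOf (p v') = 2 := by
    refine order_two (by rw [← map_mul, show v' * v' = 1 from Subtype.ext (P.V_sq L v hvV), map_one]) ?_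
    rw [ne_eq, hker]
    rintro (e | e)
    · exact P.SingV_ne L hvS (congrArg Subtype.val e)
    · refine P.not_singV_root L hsq ?_
      have e' : v = a := congrArg Subtype.val e
      exact (show P.SingV L a from e' ▸ hvS)
  have hiso : Cfsg.IsIsolatedInvolution (p v') := by
    refine Invol.isolated_of_sylow (T.mapSurjective hsurj) hord fun g hg => ?_
    obtain ⟨g, rfl⟩ := hsurj g
    rw [← map_inv, ← map_mul, ← map_mul] at hg ⊢
    obtain ⟨t, ht, e⟩ := hg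
    have hgT : g * v' * g⁻¹ ∈ (T : Subgroup X) := by
      rcases (hker (t⁻¹ * (g * v' * g⁻¹))).1 (by rw [map_mul, map_inv, e, inv_mul_cancel]) with h | h
      · rw [inv_mul_eq_one] at h; rwa [← h]
      · rw [inv_mul_eq_iff_eq_mul] at h; rw [h]; exact mul_mem ht (hT haV)
    have hw : (g : H) * v * (g : H)⁻¹ ∈ P.V L := P.two_closed L (T.2.map X.subtype) hTmap hvV ⟨_, hgT, rfl⟩
    have hwS := P.SingV_conj L hvS hw
    have hga : (g : H) * (v * a) * (g : H)⁻¹ = (g : H) * v * (g : H)⁻¹ * a := by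
      rw [← mul_assoc, mul_assoc ((g : H) * v) a, ← mem_centralizer_singleton_iff.1 (inv_mem g.2), ← mul_assoc]
    have hwaS : P.SingV L ((g : H) * v * (g : H)⁻¹ * a) := by
      rw [← hga]; exact P.SingV_conj L hvaS (hga ▸ mul_mem hw haV)
    obtain ⟨c, hc, ec⟩ := hwS
    obtain ⟨k, hk⟩ := sing_bc c hc
    have ek : π (f (bc k)) = (g : H) * v * (g : H)⁻¹ := by rw [← ec]; exact ((P.eq_code L _ _).2 hk).symm
    have hks : Sing (mm (bc k) ac) := by
      obtain ⟨d, hd, ed⟩ := hwaS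
      exact (sing_eqz _ d hd ((P.eq_code L _ _).1 (by rw [L.tab.mul, map_mul, ek, ed]))).1
    rw [hp, QuotientGroup.mk'_apply, QuotientGroup.mk'_apply, QuotientGroup.eq]
    rcases sing_pair ac hac hsq i hi k hks with h | h
    · have e' : g * v' * g⁻¹ = v' := Subtype.ext (by
        show (g : H) * v * (g : H)⁻¹ = v
        rw [← ek, hv]; exact (P.eq_code L _ _).2 h)
      rw [e', inv_mul_cancel]
      exact one_mem _
    · have e' : g * v' * g⁻¹ = v' * a' := Subtype.ext (by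
        show (g : H) * v * (g : H)⁻¹ = v * a
        rw [← ek, hv, ← map_mul, ← L.tab.mul]; exact (P.eq_code L _ _).2 h)
      rw [e', mul_inv_rev, mul_assoc, inv_mul_cancel, mul_one]
      exact inv_mem (mem_zpowers a')
  -- the correction
  obtain ⟨oq, hoq, cq, hcq, e⟩ := IsoApps.exists_mul hiso (p ⟨h, mem_centralizer_singleton_iff.2 hh⟩)
  obtain ⟨x, rfl⟩ := hsurj oq
  obtain ⟨o, ho, hox⟩ := core_lift p hac' (Subtype.ext haa) hker hoq
  set c : X := o⁻¹ * ⟨h, mem_centralizer_singleton_iff.2 hh⟩ with hc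
  have hpx : p x = p o := by
    rcases hox with rfl | rfl
    · rfl
    · rw [map_mul, (hker a').2 (Or.inr rfl), mul_one]
  have hcq' : p c = cq := by rw [hc, map_mul, map_inv, e, ← hpx, inv_mul_cancel_left]
  have hcv : (c : H) * v * (c : H)⁻¹ = v ∨ (c : H) * v * (c : H)⁻¹ = v * a := by
    have h1 : p (v'⁻¹ * (c * v' * c⁻¹)) = 1 := by
      rw [map_mul, map_inv, map_mul, map_mul, map_inv, hcq', mem_centralizer_singleton_iff.1 hcq,
        mul_inv_cancel_right, inv_mul_cancel]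
    rcases (hker _).1 h1 with e' | e' <;> rw [inv_mul_eq_iff_eq_mul] at e'
    · left; rw [mul_one] at e'; exact congrArg Subtype.val e'
    · right; exact congrArg Subtype.val e'
  -- the joint centralizer
  set R0 := centralizer ({a} : Set H) ⊓ centralizer ({v} : Set H) with hR0
  have hca : (c : H) * a = a * c := mem_centralizer_singleton_iff.1 c.2
  have hcR : (c : H) ∈ normalizer (R0 : Set H) := by
    refine mem_normalizer_of_conj_mem fun y hy => ?_
    obtain ⟨hy1, hy2⟩ := mem_inf.1 hy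
    have h1 : (c : H) * y * (c : H)⁻¹ ∈ centralizer ({a} : Set H) := mul_mem (mul_mem c.2 hy1) (inv_mem c.2)
    refine mem_inf.2 ⟨h1, ?_⟩
    have h2 : (c : H) * y * (c : H)⁻¹ ∈ centralizer ({(c : H) * v * (c : H)⁻¹} : Set H) :=
      cent_conj.2 (by rwa [show (c : H)⁻¹ * ((c : H) * y * (c : H)⁻¹) * c = y by group])
    rcases hcv with e' | e' <;> rw [e'] at h2
    · exact h2
    · rw [mem_centralizer_singleton_iff] at h1 h2 ⊢
      calc (c : H) * y * (c : H)⁻¹ * v = (c : H) * y * (c : H)⁻¹ * (v * a) * a⁻¹ := by group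
        _ = v * a * ((c : H) * y * (c : H)⁻¹) * a⁻¹ := by rw [h2]
        _ = v * (a * ((c : H) * y * (c : H)⁻¹)) * a⁻¹ := by group
        _ = v * ((c : H) * y * (c : H)⁻¹ * a) * a⁻¹ := by rw [h1]
        _ = v * ((c : H) * y * (c : H)⁻¹) := by group
  set OR := (Cfsg.oddCore R0).map R0.subtype with hOR
  have hORc : ∀ x : H, x ∈ normalizer (R0 : Set H) → x ∈ normalizer (OR : Set H) := fun x hx =>
    LocalBalance.normalizer_le_normalizer_core (p := 2) R0 hx
  have hORa : OR ≤ Oc a := by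
    refine le_Oc_of_mod ((map_subtype_le _).trans inf_le_left)
      (by rw [hOR, card_map_of_injective R0.subtype_injective]; exact ocore_odd) fun g hg => ?_
    obtain ⟨oq, hoq, cq, hcq, e⟩ := IsoApps.exists_mul hiso (p ⟨g, hg⟩)
    obtain ⟨x, rfl⟩ := hsurj oq
    obtain ⟨o, ho, hox⟩ := core_lift p hac' (Subtype.ext haa) hker hoq
    have hpx : p x = p o := by
      rcases hox with rfl | rfl
      · rfl
      · rw [map_mul, (hker a').2 (Or.inr rfl), mul_one]
    set c₁ : X := o⁻¹ * ⟨g, hg⟩ with hc₁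
    have hcq₁ : p c₁ = cq := by rw [hc₁, map_mul, map_inv, e, ← hpx, inv_mul_cancel_left]
    refine ⟨o, ⟨o, ho, rfl⟩, c₁, hORc _ (mem_normalizer_of_conj_mem fun y hy => ?_),
      mem_centralizer_singleton_iff.1 c₁.2, by rw [hc₁]; push_cast; group⟩
    obtain ⟨hy1, hy2⟩ := mem_inf.1 hy
    have h1 : (c₁ : H) * y * (c₁ : H)⁻¹ ∈ centralizer ({a} : Set H) := mul_mem (mul_mem c₁.2 hy1) (inv_mem c₁.2)
    refine mem_inf.2 ⟨h1, ?_⟩
    have h2 : (c₁ : H) * y * (c₁ : H)⁻¹ ∈ centralizer ({(c₁ : H) * v * (c₁ : H)⁻¹} : Set H) :=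
      cent_conj.2 (by rwa [show (c₁ : H)⁻¹ * ((c₁ : H) * y * (c₁ : H)⁻¹) * c₁ = y by group])
    have h3 : p (v'⁻¹ * (c₁ * v' * c₁⁻¹)) = 1 := by
      rw [map_mul, map_inv, map_mul, map_mul, map_inv, hcq₁, mem_centralizer_singleton_iff.1 hcq,
        mul_inv_cancel_right, inv_mul_cancel]
    rcases (hker _).1 h3 with e' | e' <;> rw [inv_mul_eq_iff_eq_mul] at e'
    · rw [mul_one] at e'
      rwa [show (c₁ : H) * v * (c₁ : H)⁻¹ = v from congrArg Subtype.val e'] at h2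
    · rw [show (c₁ : H) * v * (c₁ : H)⁻¹ = v * a from congrArg Subtype.val e'] at h2
      rw [mem_centralizer_singleton_iff] at h1 h2 ⊢
      calc (c₁ : H) * y * (c₁ : H)⁻¹ * v = (c₁ : H) * y * (c₁ : H)⁻¹ * (v * a) * a⁻¹ := by group
        _ = v * a * ((c₁ : H) * y * (c₁ : H)⁻¹) * a⁻¹ := by rw [h2]
        _ = v * (a * ((c₁ : H) * y * (c₁ : H)⁻¹)) * a⁻¹ := by group
        _ = v * ((c₁ : H) * y * (c₁ : H)⁻¹ * a) * a⁻¹ := by rw [h1]
        _ = v * ((c₁ : H) * y * (c₁ : H)⁻¹) := by group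
  have hVR : P.V L ≤ R0 := fun w hw => mem_inf.2 ⟨hVX hw, mem_centralizer_singleton_iff.2 (P.V_comm L hw hvV)⟩
  obtain ⟨r, hr, hrc⟩ := P.frattini L hVR hcR
  obtain ⟨o', ho', n, hn, e'⟩ := P.cent_sing L hvS (mem_centralizer_singleton_iff.1 (mem_inf.1 hr).2)
  -- the odd factor centralizes `a`
  have hna : n * a * n⁻¹ = a := by
    have hmem : n * a * n⁻¹ * a⁻¹ ∈ Oc v := by
      have haO := conj_mem_of_normalizer (cent_le_normalizer_Oc v
        (mem_centralizer_singleton_iff.2 (P.V_comm L haV hvV))) ho'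
      have hra : r * a = a * r := mem_centralizer_singleton_iff.1 (mem_inf.1 hr).1
      rw [show n * a * n⁻¹ * a⁻¹ = o'⁻¹ * (r * a * r⁻¹) * (o' * a⁻¹) by rw [e']; group, hra,
        mul_inv_cancel_right, show o'⁻¹ * a * (o' * a⁻¹) = o'⁻¹ * (a * o' * a⁻¹) by group]
      exact mul_mem (inv_mem ho') haO
    exact mul_inv_eq_one.1 (inf_eq_bot_of_odd (Oc_odd v) (P.isPGroup_V L) hmem
      (mul_mem (conj_mem_of_normalizer hn haV) (inv_mem haV)))
  have ho'a : o' * a = a * o' := by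
    have hra : r * a = a * r := mem_centralizer_singleton_iff.1 (mem_inf.1 hr).1
    rw [e', mul_assoc, mul_inv_eq_iff_eq_mul.1 hna, ← mul_assoc, ← mul_assoc] at hra
    exact mul_right_cancel hra
  have hnR : n ∈ R0 := by
    have := mul_mem (inv_mem (show o' ∈ R0 from mem_inf.2 ⟨mem_centralizer_singleton_iff.2 ho'a, Oc_le v ho'⟩)) hr
    rwa [e', inv_mul_cancel_left] at this
  have ho'R : o' ∈ OR := by
    set N0 := (Oc v ⊓ centralizer ({a} : Set H)).subgroupOf R0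
    have hN0 : N0 ≤ Cfsg.oddCore R0 := by
      refine le_ocore ⟨fun y hy g => ?_⟩ ?_
      · obtain ⟨h1, h2⟩ := mem_inf.1 (mem_subgroupOf.1 hy)
        obtain ⟨g1, g2⟩ := mem_inf.1 g.2
        rw [mem_subgroupOf, mem_inf]
        push_cast
        exact ⟨conj_mem_of_normalizer (cent_le_normalizer_Oc v g2) h1, mul_mem (mul_mem g1 h2) (inv_mem g1)⟩
      · refine Odd.of_dvd_nat (Oc_odd v) ((card_comap_dvd_of_injective _ _ R0.subtype_injective).trans ?_)
        exact card_dvd_of_le inf_le_left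
    exact ⟨⟨o', mem_inf.2 ⟨mem_centralizer_singleton_iff.2 ho'a, Oc_le v ho'⟩⟩,
      hN0 (mem_subgroupOf.2 (mem_inf.2 ⟨ho', mem_centralizer_singleton_iff.2 ho'a⟩)), rfl⟩
  have hcin : n⁻¹ * o'⁻¹ * n ∈ Oc a := hORa (by
    have := conj_mem_of_normalizer (hORc n⁻¹ (inv_mem (le_normalizer hnR))) (inv_mem ho'R)
    rwa [inv_inv] at this)
  refine ⟨(o : H) * (n⁻¹ * o'⁻¹ * n), mul_mem ⟨o, ho, rfl⟩ hcin, n⁻¹ * (r * c),
    mul_mem (inv_mem hn) hrc, ?_⟩
  rw [e', hc]
  push_cast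
  group

/-- The centralizer of any nontrivial element of `V`. -/
theorem cent_V {b h : H} (hb : b ∈ P.V L) (hb1 : b ≠ 1) (hh : h * b = b * h) :
    ∃ o ∈ Oc b, ∃ n ∈ normalizer (P.V L : Set H), n * b = b * n ∧ h = o * n := by
  obtain ⟨o, ho, n, hn, e⟩ : ∃ o ∈ Oc b, ∃ n ∈ normalizer (P.V L : Set H), h = o * n := by
    rcases P.kinds L hb hb1 with hs | ⟨c, hc, hsq, hce⟩
    · exact P.cent_sing L hs hh
    · exact P.cent_root L hc hsq hce hh
  refine ⟨o, ho, n, hn, ?_, e⟩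
  have hob := Oc_comm ho
  rw [e, mul_assoc, ← mul_assoc b, ← hob, mul_assoc] at hh
  exact mul_left_cancel hh

theorem cV_two {T : Subgroup H} (hT : IsPGroup 2 T) (hV : P.V L ≤ T)
    (hc : T ≤ centralizer (P.V L : Set H)) : T ≤ P.V L := by
  obtain ⟨g, hg⟩ := exists_cj_le (P.R L) hT
  have hgN := P.cj_mem_normalizer L ((map_mono hV).trans hg)
  intro y hy
  obtain ⟨c, hc'⟩ := (P.mem_R L).1 (hg (conj_mem_cj.2 hy))
  refine (mem_normalizer_iff.1 hgN y).2 ?_
  rw [← hc']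
  refine (P.mem_V L).2 ⟨c, cent_mod c fun w hw => ?_, rfl⟩
  rw [← P.eq_code L, L.tab.mul, L.tab.mul, map_mul, map_mul, hc']
  have hwV : g⁻¹ * π (f w) * g ∈ P.V L := by
    have := conj_mem_of_normalizer (inv_mem hgN) ((P.mem_V L).2 ⟨w, hw, rfl⟩)
    rwa [inv_inv] at this
  have h := mem_centralizer_iff.1 (hc hy) _ hwV
  calc g * y * g⁻¹ * π (f w) = g * (y * (g⁻¹ * π (f w) * g)) * g⁻¹ := by group
    _ = g * ((g⁻¹ * π (f w) * g) * y) * g⁻¹ := by rw [h]
    _ = π (f w) * (g * y * g⁻¹) := by group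

/-- Balance on `V`, and the centralizer of `V`. -/
theorem balanced :
    (∀ a ∈ P.V L, a ≠ 1 → ∀ b ∈ P.V L, b ≠ 1 → ∀ x ∈ Oc a, x * b = b * x → x ∈ Oc b) ∧
    ∀ b ∈ P.V L, b ≠ 1 → ∀ x ∈ centralizer (P.V L : Set H), ∃ k ∈ Oc b, ∃ v ∈ P.V L, x = k * v := by
  haveI : Fact (Nat.Prime 2) := ⟨Nat.prime_two⟩
  set CV := centralizer (P.V L : Set H) with hCV
  have hVC : P.V L ≤ CV := fun v hv => mem_centralizer_iff.2 fun w hw => P.V_comm L hw hv
  obtain ⟨T, hT⟩ := ((P.isPGroup_V L).comap_subtype : IsPGroup 2 ((P.V L).subgroupOf CV)).exists_le_sylow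
  have hTV : ∀ y ∈ (T : Subgroup CV), (y : H) ∈ P.V L := fun y hy =>
    P.cV_two L (T.2.map CV.subtype) (fun w hw => ⟨⟨w, hVC hw⟩, hT hw, rfl⟩) (map_subtype_le _) ⟨y, hy, rfl⟩
  obtain ⟨h1, -⟩ := twoNil T fun n _ => mem_centralizer_iff.2 fun y hy =>
    Subtype.ext (mem_centralizer_iff.1 n.2 _ (hTV y hy))
  have hK : ∀ b ∈ P.V L, b ≠ 1 → (Cfsg.oddCore CV).map CV.subtype ≤ Oc b := by
    intro b hb hb1
    refine le_Oc_of_mod ((map_subtype_le _).trans fun x hx => mem_centralizer_singleton_iff.2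
        (mem_centralizer_iff.1 hx b hb).symm)
      (by rw [card_map_of_injective CV.subtype_injective]; exact ocore_odd) fun g hg => ?_
    obtain ⟨o, ho, n, hn, hnb, e⟩ := P.cent_V L hb hb1 (mem_centralizer_singleton_iff.1 hg)
    exact ⟨o, ho, n, LocalBalance.normalizer_le_normalizer_core (p := 2) CV
      (LocalBalance.normalizer_le_normalizer_centralizer _ hn), hnb, e⟩
  have hdec : ∀ b ∈ P.V L, b ≠ 1 → ∀ x ∈ CV, ∃ k ∈ Oc b, ∃ v ∈ P.V L, x = k * v := by
    intro b hb hb1 x hx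
    obtain ⟨k, hk, p, hp, e⟩ := h1 ⟨x, hx⟩
    exact ⟨k, hK b hb hb1 ⟨k, hk, rfl⟩, p, hTV p hp, congrArg Subtype.val e⟩
  refine ⟨fun a ha ha1 b hb hb1 x hx hxb => ?_, hdec⟩
  obtain ⟨o, ho, n, hn, hnb, rfl⟩ := P.cent_V L hb hb1 hxb
  have hCb : ∀ w ∈ P.V L, w ∈ centralizer ({b} : Set H) := fun w hw =>
    mem_centralizer_singleton_iff.2 (P.V_comm L hw hb)
  have hOb : ∀ w ∈ P.V L, ∀ y ∈ Oc b, w * y * w⁻¹ ∈ Oc b := fun w hw y hy =>
    conj_mem_of_normalizer (cent_le_normalizer_Oc b (hCb w hw)) hy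
  have hnC : n ∈ CV := by
    refine mem_centralizer_iff.2 fun w hw => ?_
    set w' := n * w * n⁻¹ with hw'def
    have hw' : w' ∈ P.V L := conj_mem_of_normalizer hn hw
    have hyA : o * n * w * (o * n)⁻¹ * w⁻¹ ∈ Oc a := by
      rw [show o * n * w * (o * n)⁻¹ * w⁻¹ = o * n * (w * (o * n)⁻¹ * w⁻¹) by group]
      exact mul_mem hx (conj_mem_of_normalizer (cent_le_normalizer_Oc a
        (mem_centralizer_singleton_iff.2 (P.V_comm L hw ha))) (inv_mem hx))
    have he2 : w' * w⁻¹ ∈ P.V L := mul_mem hw' (inv_mem hw)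
    have hO2 : o * (w' * o⁻¹ * w'⁻¹) ∈ Oc b := mul_mem ho (hOb w' hw' _ (inv_mem ho))
    have e' : w' * w⁻¹ = 1 := inf_eq_bot_of_odd (Oc_odd b) (P.isPGroup_V L)
      (mem_of_odd_mul hO2 (P.V_sq L _ he2) (hOb _ he2) (by
        rw [show o * (w' * o⁻¹ * w'⁻¹) * (w' * w⁻¹) = o * n * w * (o * n)⁻¹ * w⁻¹ by rw [hw'def]; group]
        exact odd_orderOf_of_mem (Oc_odd a) hyA)) he2
    rw [mul_inv_eq_one, hw'def, mul_inv_eq_iff_eq_mul] at e'
    exact e'.symm
  obtain ⟨k, hk, v, hv, e⟩ := hdec b hb hb1 n hnC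
  have hO : v ∈ Oc b := mem_of_odd_mul (mul_mem ho hk) (P.V_sq L v hv) (hOb v hv) (by
    rw [mul_assoc, ← e]; exact odd_orderOf_of_mem (Oc_odd a) hx)
  rw [e]
  exact mul_mem ho (mul_mem hk hO)

/-- The centralizer of an involution of `R` outside `V`. -/
theorem cent_out {t : H} (ht : t ∈ (P.R L : Subgroup H)) (htV : t ∉ P.V L) (htt : t * t = 1)
    {M : Subgroup H} (hM : ∀ b ∈ P.V L, b ≠ 1 → centralizer ({b} : Set H) ≤ M) :
    centralizer ({t} : Set H) ≤ M := by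
  classical
  haveI : Fact (Nat.Prime 2) := ⟨Nat.prime_two⟩
  obtain ⟨c, rfl⟩ := (P.mem_R L).1 ht
  set t := π (f c)
  have hcQ : ¬ IQ c := fun h => htV ((P.mem_V L).2 ⟨c, h, rfl⟩)
  have hcs : JankoSylow.sq c = 0 ∨ JankoSylow.sq c = zc := (P.eq_one_code L _).1 (by rw [← L.tab.map_sq, map_mul, htt])
  obtain ⟨i, hi, -, r, hr, hrsq, hrc⟩ := out_fixed c hcQ hcs
  set v := π (f (bc i)) with hv
  have hcomm : ∀ d : Fin 128, Eqz (mm c d) (mm d c) → t * π (f d) = π (f d) * t := fun d hd => by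
    rw [← map_mul, ← map_mul, ← L.tab.mul, ← L.tab.mul]
    exact (P.eq_code L _ _).2 hd
  set X := centralizer ({t} : Set H) with hX
  have hvX : v ∈ X := mem_centralizer_singleton_iff.2 (hcomm _ hi).symm
  have hvS : P.SingV L v := P.singV_bc L i
  have hvV := P.SingV_mem L hvS
  obtain ⟨T, hT⟩ := (((P.R L).2.to_le inf_le_left).comap_subtype :
    IsPGroup 2 (((P.R L : Subgroup H) ⊓ X).subgroupOf X)).exists_le_sylow
  set v' : X := ⟨v, hvX⟩
  have hv'T : v' ∈ (T : Subgroup X) := hT (show v ∈ (P.R L : Subgroup H) ⊓ X from ⟨P.V_le_R L hvV, hvX⟩)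
  have htT : (⟨t, mem_centralizer_singleton_iff.2 rfl⟩ : X) ∈ (T : Subgroup X) :=
    hT (show t ∈ (P.R L : Subgroup H) ⊓ X from ⟨ht, mem_centralizer_singleton_iff.2 rfl⟩)
  have hiso : Cfsg.IsIsolatedInvolution v' := by
    refine Invol.isolated_of_sylow T (order_two (Subtype.ext (P.V_sq L v hvV)) fun e =>
      P.SingV_ne L hvS (congrArg Subtype.val e)) fun g hg => ?_
    obtain ⟨k, hk⟩ := exists_cj_le (P.R L) (T.2.map X.subtype)
    have hkmem : ∀ y : X, y ∈ (T : Subgroup X) → k * (y : H) * k⁻¹ ∈ (P.R L : Subgroup H) :=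
      fun y hy => hk (conj_mem_cj.2 ⟨y, hy, rfl⟩)
    set w : H := (g : H) * v * (g : H)⁻¹ with hwdef
    have hwR : k * w * k⁻¹ ∈ (P.R L : Subgroup H) := hkmem (g * v' * g⁻¹) hg
    have hk1 := P.SingV_conj L hvS (P.closed_V L hvV (hkmem v' hv'T))
    have hk2 : P.SingV L (k * w * k⁻¹) := by
      have e1 : k * w * k⁻¹ = k * g * v * (k * g)⁻¹ := by rw [hwdef]; group
      rw [e1] at hwR ⊢
      exact P.SingV_conj L hvS (P.closed_V L hvV hwR)
    obtain ⟨c', hc'⟩ := (P.mem_R L).1 (hkmem _ htT)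
    have hc'Q : ¬ IQ c' := fun h => htV (by
      have h1 : k * t * k⁻¹ ∈ P.V L := (P.mem_V L).2 ⟨c', h, hc'⟩
      have h2 := P.closed_V L (g := k⁻¹) h1 (by
        rwa [inv_inv, show k⁻¹ * (k * t * k⁻¹) * k = t by group])
      rwa [inv_inv, show k⁻¹ * (k * t * k⁻¹) * k = t by group] at h2)
    have hc's : JankoSylow.sq c' = 0 ∨ JankoSylow.sq c' = zc := (P.eq_one_code L _).1 (by
      rw [← L.tab.map_sq, map_mul, hc']; exact conj_sq k t htt)
    obtain ⟨j, -, huniq, -⟩ := out_fixed c' hc'Q hc's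
    have key : ∀ y : H, y * t = t * y → P.SingV L (k * y * k⁻¹) → k * y * k⁻¹ = π (f (bc j)) := by
      intro y hy hS
      obtain ⟨d, hd, ed⟩ := hS
      obtain ⟨l, hl⟩ := sing_bc d hd
      have el' : π (f (bc l)) = k * y * k⁻¹ := by rw [← ed]; exact ((P.eq_code L _ _).2 hl).symm
      rw [← el', huniq l ((P.eq_code L _ _).1 ?_)]
      rw [L.tab.mul, L.tab.mul, map_mul, map_mul, el', hc',
        show k * t * k⁻¹ * (k * y * k⁻¹) = k * (t * y) * k⁻¹ by group, ← hy]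
      group
    have hwt : w * t = t * w := mem_centralizer_singleton_iff.1 (mul_mem (mul_mem g.2 hvX) (inv_mem g.2))
    have h12 : k * w * k⁻¹ = k * v * k⁻¹ :=
      (key w hwt hk2).trans (key v (mem_centralizer_singleton_iff.1 hvX) hk1).symm
    exact Subtype.ext (mul_left_cancel (mul_right_cancel h12))
  intro g hg
  obtain ⟨o, ho, d, hd, e⟩ := IsoApps.exists_mul hiso ⟨g, hg⟩
  rw [show g = (o : H) * d from congrArg Subtype.val e]
  refine mul_mem ?_ (hM v hvV (P.SingV_ne L hvS)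
    (mem_centralizer_singleton_iff.2 (congrArg Subtype.val (mem_centralizer_singleton_iff.1 hd))))
  set E := P.V L ⊓ X with hE
  have hE4 : 2 ^ 2 ≤ Nat.card E := by
    obtain ⟨n, hn⟩ := IsPGroup.iff_card.1 ((P.isPGroup_V L).to_le (inf_le_left : E ≤ P.V L))
    rw [hn]
    refine Nat.pow_le_pow_right (by norm_num) ?_
    have h1 : v ∈ E := ⟨hvV, hvX⟩
    have h2 : π (f r) ∈ E := ⟨(P.mem_V L).2 ⟨r, hr, rfl⟩, mem_centralizer_singleton_iff.2 (hcomm _ hrc).symm⟩
    by_contra hlt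
    have hsub : Nat.card E ≤ 2 := by rw [hn]; exact (Nat.pow_le_pow_right (by norm_num) (show n ≤ 1 by omega))
    have h3 : Set.ncard ({1, v, π (f r)} : Set H) = 3 := by
      rw [Set.ncard_insert_of_notMem, Set.ncard_pair]
      · exact fun e => P.not_singV_root L hrsq (e ▸ hvS)
      · simp only [Set.mem_insert_iff, Set.mem_singleton_iff, not_or]
        refine ⟨(P.SingV_ne L hvS).symm, fun e => ?_⟩
        rcases (P.eq_one_code L r).1 e.symm with rfl | rfl <;> exact absurd hrsq (by decide)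
    have h4 : Set.ncard ({1, v, π (f r)} : Set H) ≤ (E : Set H).ncard :=
      Set.ncard_le_ncard (by
        intro y hy
        rcases hy with rfl | rfl | rfl
        exacts [one_mem _, h1, h2]) (Set.toFinite _)
    rw [h3, ← Nat.card_coe_set_eq] at h4
    have : Nat.card (E : Set H) = Nat.card E := rfl
    omega
  have hel : Cfsg.IsElementaryAbelian 2 E :=
    ⟨⟨⟨fun a b => Subtype.ext (P.V_comm L a.2.1 b.2.1)⟩⟩, fun a ha => by rw [pow_two]; exact P.V_sq L a ha.1⟩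
  refine Signalizer.le_of_forall_centralizer hel le_rfl hE4 (X := Oc t)
    (fun e he => cent_le_normalizer_Oc t he.2) (Oc_odd t).not_two_dvd_nat (fun e he he1 y hy => ?_) ⟨o, ho, rfl⟩
  exact hM e he.1 he1 hy.2

/-- `V` is normal and self-centralizing. -/
theorem normal_V (hO : Cfsg.oddCore H = ⊥) :
    normalizer (P.V L : Set H) = ⊤ ∧ centralizer (P.V L : Set H) ≤ P.V L := by
  obtain ⟨hbal, hdec⟩ := P.balanced L
  obtain ⟨W, hWodd, hWle, -, hWN, -⟩ := closure_props (P.V_sq L) (by rw [P.card_V L]; norm_num) hbal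
  have hgen : (P.R L : Subgroup H) ≤ closure {y : H | y * y = 1} := by
    intro x hx
    obtain ⟨c, rfl⟩ := (P.mem_R L).1 hx
    rcases gen_split c with hc | ⟨w, hw⟩
    · exact subset_closure (P.V_sq L _ ((P.mem_V L).2 ⟨c, hc, rfl⟩))
    · have hk : π (f (kc w)) * π (f (kc w)) = 1 := by
        rw [← map_mul, (L.tab.sq_eq_one_iff _).2 (kc_sq w), map_one]
      rw [show π (f c) = π (f (mm c (kc w))) * π (f (kc w)) by rw [L.tab.mul, map_mul, mul_assoc, hk, mul_one]]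
      exact mul_mem (subset_closure (P.V_sq L _ ((P.mem_V L).2 ⟨_, hw, rfl⟩))) (subset_closure hk)
  have hNR : normalizer ((P.R L : Subgroup H) : Set H) ≤ normalizer (P.V L : Set H) := fun n hn =>
    P.cj_mem_normalizer L ((map_mono (P.V_le_R L)).trans (cj_of_mem_normalizer hn).le)
  have hu : P.SingV L (π (f uc)) := ⟨uc, by decide +kernel, rfl⟩
  have hrI : IQ (3 : Fin 128) ∧ JankoSylow.sq 3 = zc := by decide +kernel
  have hrV : π (f 3) ∈ P.V L := (P.mem_V L).2 ⟨3, hrI.1, rfl⟩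
  have hr1 : π (f 3) ≠ 1 := by rw [ne_eq, P.eq_one_code L]; decide
  have htop : ∀ M : Subgroup H, normalizer (P.V L : Set H) ≤ M →
      (∀ b ∈ P.V L, b ≠ 1 → Oc b ≤ M) → M = ⊤ := by
    intro M hNM hOM
    have hCb : ∀ b ∈ P.V L, b ≠ 1 → centralizer ({b} : Set H) ≤ M := by
      intro b hb hb1 g hg
      obtain ⟨o, ho, n, hn, -, rfl⟩ := P.cent_V L hb hb1 (mem_centralizer_singleton_iff.1 hg)
      exact mul_mem (hOM b hb hb1 ho) (hNM hn)
    refine top_of_cent (P.R L) hgen (hNR.trans hNM) (fun s hs hs2 => ?_)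
      (P.V_le_R L (P.SingV_mem L hu)) (order_two (P.V_sq L _ (P.SingV_mem L hu)) (P.SingV_ne L hu))
      (P.V_le_R L hrV) (order_two (P.V_sq L _ hrV) hr1) fun hc => ?_
    · by_cases hsV : s ∈ P.V L
      · exact hCb s hsV (Invol.ne_one hs2)
      · exact P.cent_out L hs hsV (Invol.mul_self_eq_one hs2) hCb
    · obtain ⟨g, hg⟩ := isConj_iff.1 hc
      exact P.not_singV_root L hrI.2 (hg ▸ P.SingV_conj L hu (hg.symm ▸ hrV))
  have hW : W = ⊥ := by
    have hM := htop (normalizer (W : Set H)) hWN fun b hb hb1 => (hWle b hb hb1).trans le_normalizer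
    exact le_bot_iff.1 (hO ▸ le_ocore (normalizer_eq_top_iff.1 hM) hWodd)
  have hOb : ∀ b ∈ P.V L, b ≠ 1 → ∀ o ∈ Oc b, o = 1 := fun b hb hb1 o ho => by
    have := hWle b hb hb1 ho
    rwa [hW, mem_bot] at this
  refine ⟨htop _ le_rfl fun b hb hb1 o ho => hOb b hb hb1 o ho ▸ one_mem _, fun x hx => ?_⟩
  obtain ⟨k, hk, v, hv, rfl⟩ := hdec _ hrV hr1 x hx
  rw [hOb _ hrV hr1 k hk, one_mul]
  exact hv

end Proj

end CfsgLib.JankoSylow
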