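import Cfsg.Agent.JankoSylow.Frame
import Mathlib.GroupTheory.Transfer
import Mathlib.GroupTheory.SpecificGroups.Alternating.Simple

/-!
A group of order 1920 with a normal self-centralizing Clifford group on five anticommuting involutions and an
exact involution outside has an exact complement `A₅`, and with it the parametrisation of its Sylow 2-subgroups by the code table.
-/

set_option autoImplicit false
set_option linter.unusedSimpArgs false
set_option linter.unusedSectionVars false
set_option linter.style.haveILetI false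

namespace CfsgLib.JankoSylow

open Subgroup

/-- The code of a bit. -/
def cp (x : Fin 128) (t : Bool) : Fin 128 := if t then x else 0

/-- The image of a code under a permutation of the five involutions. -/
def act (σ : Equiv.Perm (Fin 5)) (c : Fin 128) : Fin 128 :=
  mm (cp zc (bit c 4)) (mm (cp (bc (σ 0)) (bit c 0)) (mm (cp (bc (σ 1)) (bit c 1))
    (mm (cp (bc (σ 2)) (bit c 2)) (cp (bc (σ 3)) (bit c 3)))))

/-- The code modulo the four group. -/
def lo (c : Fin 128) : Fin 128 := ⟨c.val % 32, by omega⟩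

/-- The element of the four group of a code. -/
def hi (c : Fin 128) : Fin 4 := ⟨c.val / 32, by omega⟩

/-- The four group as permutations. -/
def kp (v : Fin 4) : Equiv.Perm (Fin 5) :=
  ⟨kperm v, kperm v, fun i => (by decide : ∀ v i, kperm v (kperm v i) = i) v i,
    fun i => (by decide : ∀ v i, kperm v (kperm v i) = i) v i⟩

variable {G : Type*} [Group G] {b : Fin 5 → G} {z : G}

/-- The subgroup generated by the frame. -/
def QQ (b : Fin 5 → G) : Subgroup G := closure (Set.range b)

theorem el_bit_lo (c : Fin 128) : el b z (lo c) = el b z c := by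
  have h : ∀ c : Fin 128, ∀ k : Fin 5, bit (lo c) k = bit c k := by decide +kernel
  have h0 := h c 0; have h1 := h c 1; have h2 := h c 2; have h3 := h c 3; have h4 := h c 4
  simp only [el]
  exact congr (congr (congr (congr (congrArg (elb b z) h4) h0) h1) h2) h3

namespace Frame

theorem iq_act : ∀ σ : Equiv.Perm (Fin 5), ∀ c : Fin 128, IQ (act σ c) := fun σ c => by
  have hc : ∀ (x : Fin 128) (t : Bool), IQ x → IQ (cp x t) := fun x t hx => by
    cases t
    · exact (by decide : IQ 0)
    · exact hx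
  exact iq_mm _ _ (hc _ _ (by decide)) (iq_mm _ _ (hc _ _ (bc_sing _).1) (iq_mm _ _ (hc _ _ (bc_sing _).1)
    (iq_mm _ _ (hc _ _ (bc_sing _).1) (hc _ _ (bc_sing _).1))))

variable (F : Frame b z)
include F

theorem z_mem : z ∈ QQ b := by
  rw [← F.prod]
  exact mul_mem (mul_mem (mul_mem (mul_mem (subset_closure ⟨0, rfl⟩) (subset_closure ⟨1, rfl⟩))
    (subset_closure ⟨2, rfl⟩)) (subset_closure ⟨3, rfl⟩)) (subset_closure ⟨4, rfl⟩)

theorem bp_mem {x : G} (hx : x ∈ QQ b) (t : Bool) : bp x t ∈ QQ b := by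
  cases t
  · exact one_mem _
  · exact hx

theorem el_mem (c : Fin 128) : el b z c ∈ QQ b :=
  mul_mem (F.bp_mem F.z_mem _) (mul_mem (F.bp_mem (subset_closure ⟨0, rfl⟩) _)
    (mul_mem (F.bp_mem (subset_closure ⟨1, rfl⟩) _) (mul_mem (F.bp_mem (subset_closure ⟨2, rfl⟩) _)
      (F.bp_mem (subset_closure ⟨3, rfl⟩) _))))

theorem mem_iff {x : G} : x ∈ QQ b ↔ ∃ c, IQ c ∧ el b z c = x := by
  refine ⟨fun hx => ?_, fun ⟨c, _, h⟩ => h ▸ F.el_mem c⟩
  induction hx using closure_induction with
  | mem y hy =>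
    obtain ⟨i, rfl⟩ := hy
    exact ⟨bc i, (bc_sing i).1, F.el_bc i⟩
  | one => exact ⟨0, by decide, F.el_zero⟩
  | mul u v _ _ hu hv =>
    obtain ⟨c, hc, rfl⟩ := hu
    obtain ⟨d, hd, rfl⟩ := hv
    exact ⟨mm c d, iq_mm c d hc hd, (F.mul_el hc hd).symm⟩
  | inv u _ hu =>
    obtain ⟨c, hc, rfl⟩ := hu
    have hi : ∀ a : Fin 128, IQ a → IQ (inv a) := by decide +kernel
    exact ⟨inv c, hi c hc, F.el_inv hc⟩

theorem card_QQ : Nat.card (QQ b) = 32 := by
  refine Eq.trans (Nat.card_congr (Equiv.ofBijective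
    (fun c : {c : Fin 128 // IQ c} => (⟨el b z c.1, F.el_mem c.1⟩ : QQ b)) ⟨?_, ?_⟩)).symm ?_
  · intro c d h
    exact Subtype.ext (F.el_inj c.2 d.2 (congrArg Subtype.val h :))
  · rintro ⟨x, hx⟩
    obtain ⟨c, hc, rfl⟩ := F.mem_iff.1 hx
    exact ⟨⟨c, hc⟩, rfl⟩
  · rw [Nat.card_eq_fintype_card]; decide

theorem el_cp {c : Fin 128} {x : G} (h : el b z c = x) (t : Bool) : el b z (cp c t) = bp x t := by
  cases t
  · exact F.el_zero
  · exact h

theorem el_mm_z {c : Fin 128} (hc : IQ c) : el b z (mm c zc) = el b z c * z := (F.mul_z hc).symm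

theorem sing_cases {x : G} (hx : x ∈ QQ b) (h2 : x * x = 1) (h1 : x ≠ 1) (hz : x ≠ z) :
    ∃ i, x = b i ∨ x = b i * z := by
  obtain ⟨c, hc, rfl⟩ := F.mem_iff.1 hx
  obtain ⟨i, hi⟩ := sing_bc c ⟨hc, F.el_inj (iq_mm c c hc hc) (by decide) (by
      show el b z (mm c c) = _
      rw [← F.mul_el hc hc, h2, F.el_zero]),
    fun e => h1 (by rw [e, F.el_zero]), fun e => hz (by rw [e, F.el_zc])⟩
  refine ⟨i, ?_⟩
  rcases hi with rfl | rfl
  · exact Or.inl (F.el_bc i)
  · exact Or.inr (by rw [F.el_mm_z (bc_sing i).1, F.el_bc])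

theorem b_ne {i : Fin 5} : b i ≠ 1 ∧ b i ≠ z := by
  have h : ∀ i : Fin 5, bc i ≠ 0 ∧ bc i ≠ zc := by decide +kernel
  rw [← F.el_bc i]
  exact ⟨fun e => (h i).1 (F.el_inj (bc_sing i).1 (by decide) (e.trans F.el_zero.symm)),
    fun e => (h i).2 (F.el_inj (bc_sing i).1 (by decide) (e.trans F.el_zc.symm))⟩

theorem b_unique {i j : Fin 5} (h : b i = b j ∨ b i = b j * z) : i = j := by
  have hd : ∀ i j : Fin 5, Eqz (bc i) (bc j) → i = j := by decide +kernel
  rw [← F.el_bc i, ← F.el_bc j, ← F.el_mm_z (bc_sing j).1] at h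
  exact hd i j (h.imp (F.el_inj (bc_sing i).1 (bc_sing j).1)
    (F.el_inj (bc_sing i).1 (iq_mm _ _ (bc_sing j).1 (by decide))))

theorem conj_z {g : G} (hg : g * z = z * g) : g * z * g⁻¹ = z := by rw [hg, mul_inv_cancel_right]

theorem conj_el {g : G} (hg : g * z = z * g) (σ : Equiv.Perm (Fin 5)) (hσ : ∀ i, g * b i * g⁻¹ = b (σ i))
    (c : Fin 128) : g * el b z c * g⁻¹ = el b z (act σ c) := by
  have hq : ∀ (i : Fin 5) (t : Bool), IQ (cp (bc i) t) := fun i t => by
    cases t
    · exact (by decide : IQ 0)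
    · exact (bc_sing i).1
  have hqz : ∀ t : Bool, IQ (cp zc t) := by decide
  have hb : ∀ (x y : G) (t : Bool), g * x * g⁻¹ = y → MulAut.conj g (bp x t) = bp y t := fun x y t h => by
    cases t
    · simp
    · simpa using h
  show MulAut.conj g (el b z c) = _
  rw [el, elb, map_mul, map_mul, map_mul, map_mul, hb z z _ (F.conj_z hg), hb _ _ _ (hσ 0), hb _ _ _ (hσ 1),
    hb _ _ _ (hσ 2), hb _ _ _ (hσ 3), act,
    ← F.mul_el (hqz _) (iq_mm _ _ (hq _ _) (iq_mm _ _ (hq _ _) (iq_mm _ _ (hq _ _) (hq _ _)))),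
    ← F.mul_el (hq _ _) (iq_mm _ _ (hq _ _) (iq_mm _ _ (hq _ _) (hq _ _))),
    ← F.mul_el (hq _ _) (iq_mm _ _ (hq _ _) (hq _ _)), ← F.mul_el (hq _ _) (hq _ _), F.el_cp F.el_zc,
    F.el_cp (F.el_bc _), F.el_cp (F.el_bc _), F.el_cp (F.el_bc _), F.el_cp (F.el_bc _)]

end Frame

/-- The hypotheses on the group other than its order. -/
structure Pre {G : Type*} [Group G] (b : Fin 5 → G) (z : G) : Prop where
  frame : Frame b z
  central : ∀ g : G, g * z = z * g
  normal : (QQ b).Normal
  cent : ∀ g : G, (∀ i, g * b i = b i * g) → g ∈ QQ b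

/-- The hypotheses on the group. -/
structure Hyp {G : Type*} [Group G] (b : Fin 5 → G) (z : G) : Prop extends Pre b z where
  card : Nat.card G = 1920
  invol : ∃ t : G, t * t = 1 ∧ t ∉ QQ b ∧ ∃ σ : Equiv.Perm (Fin 5), ∀ i, t * b i * t⁻¹ = b (σ i)

namespace Pre

variable (H : Pre b z)
include H

theorem exists_img (g : G) (i : Fin 5) : ∃ j, g * b i * g⁻¹ = b j ∨ g * b i * g⁻¹ = b j * z := by
  refine H.frame.sing_cases (H.normal.conj_mem _ (subset_closure ⟨i, rfl⟩) g) ?_ ?_ ?_
  · rw [show g * b i * g⁻¹ * (g * b i * g⁻¹) = g * (b i * b i) * g⁻¹ by group, H.frame.sq]; group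
  · rw [ne_eq, conj_eq_one_iff]; exact H.frame.b_ne.1
  · intro e
    refine (H.frame.b_ne (i := i)).2 ?_
    calc b i = g⁻¹ * (g * b i * g⁻¹) * g := by group
      _ = g⁻¹ * (g * z) := by rw [e, mul_assoc, ← H.central g]
      _ = z := inv_mul_cancel_left g z

/-- The image of an index. -/
noncomputable def img (g : G) (i : Fin 5) : Fin 5 := (H.exists_img g i).choose

theorem img_spec (g : G) (i : Fin 5) :
    g * b i * g⁻¹ = b (H.img g i) ∨ g * b i * g⁻¹ = b (H.img g i) * z := (H.exists_img g i).choose_spec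

theorem img_eq {g : G} {i j : Fin 5} (h : g * b i * g⁻¹ = b j ∨ g * b i * g⁻¹ = b j * z) : H.img g i = j := by
  refine H.frame.b_unique ?_
  have hz : ∀ x : G, x * z * z = x := fun x => by rw [mul_assoc, H.frame.zz, mul_one]
  rcases H.img_spec g i with e | e <;> rcases h with e' | e'
  · exact Or.inl (e.symm.trans e')
  · exact Or.inr (e.symm.trans e')
  · exact Or.inr (by rw [← e', e, hz])
  · exact Or.inl (mul_right_cancel (e.symm.trans e'))

theorem img_mul (g h : G) (i : Fin 5) : H.img (g * h) i = H.img g (H.img h i) := by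
  refine H.img_eq ?_
  have hz : ∀ x : G, g * (x * z) * g⁻¹ = g * x * g⁻¹ * z := fun x => by
    rw [← mul_assoc g, mul_assoc (g * x) z, ← H.central g⁻¹, ← mul_assoc]
  have hzz : ∀ x : G, x * z * z = x := fun x => by rw [mul_assoc, H.frame.zz, mul_one]
  rw [show g * h * b i * (g * h)⁻¹ = g * (h * b i * h⁻¹) * g⁻¹ by group]
  rcases H.img_spec h i with e | e <;> rcases H.img_spec g (H.img h i) with e' | e' <;>
    simp only [e, e', hz, hzz, true_or, or_true]

theorem img_one (i : Fin 5) : H.img 1 i = i := H.img_eq (Or.inl (by group))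

/-- The action on the five involutions. -/
noncomputable def eta : G →* Equiv.Perm (Fin 5) :=
  MonoidHom.mk' (fun g => ⟨H.img g, H.img g⁻¹,
      fun i => by rw [← H.img_mul, inv_mul_cancel, H.img_one],
      fun i => by rw [← H.img_mul, mul_inv_cancel, H.img_one]⟩)
    fun g h => Equiv.ext fun i => H.img_mul g h i

theorem eta_spec (g : G) (i : Fin 5) :
    g * b i * g⁻¹ = b (H.eta g i) ∨ g * b i * g⁻¹ = b (H.eta g i) * z := H.img_spec g i

theorem eta_eq {g : G} {σ : Equiv.Perm (Fin 5)} (h : ∀ i, g * b i * g⁻¹ = b (σ i)) : H.eta g = σ :=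
  Equiv.ext fun i => H.img_eq (Or.inl (h i))

theorem eta_QQ {g : G} (hg : g ∈ QQ b) : H.eta g = 1 := by
  refine Equiv.ext fun i => H.img_eq ?_
  obtain ⟨c, hc, rfl⟩ := H.frame.mem_iff.1 hg
  have hd : ∀ c : Fin 128, IQ c → ∀ i : Fin 5, Eqz (mm c (bc i)) (mm (bc i) c) := by decide +kernel
  show el b z c * b i * (el b z c)⁻¹ = b i ∨ el b z c * b i * (el b z c)⁻¹ = b i * z
  rw [← H.frame.el_bc i, H.frame.mul_el hc (bc_sing i).1]
  rcases hd c hc i with e | e <;> rw [e]
  · left; rw [← H.frame.mul_el (bc_sing i).1 hc, mul_inv_cancel_right]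
  · right
    rw [H.frame.el_mm_z (iq_mm _ _ (bc_sing i).1 hc), ← H.frame.mul_el (bc_sing i).1 hc,
      mul_assoc (el b z (bc i)), H.central, ← mul_assoc, mul_inv_cancel_right]

/-- Correct the signs on the first four involutions. -/
theorem fix_signs (g : G) : ∃ q ∈ QQ b, ∀ j : Fin 4,
    q * g * b ((H.eta g).symm j.castSucc) * (q * g)⁻¹ = b j.castSucc := by
  classical
  have hsig : ∀ e : Fin 4 → Bool, ∃ c : Fin 128, IQ c ∧ ∀ j : Fin 4,
      mm c (if e j then mm (bc j.castSucc) zc else bc j.castSucc) = mm (bc j.castSucc) c := by decide +kernel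
  obtain ⟨c, hc, hcj⟩ := hsig fun j => decide (g * b ((H.eta g).symm j.castSucc) * g⁻¹ ≠ b j.castSucc)
  refine ⟨el b z c, H.frame.el_mem c, fun j => ?_⟩
  set i := (H.eta g).symm j.castSucc
  have hj : H.eta g i = j.castSucc := (H.eta g).apply_symm_apply _
  have hcj' := hcj j
  have key : el b z c * (g * b i * g⁻¹) = b j.castSucc * el b z c := by
    by_cases hp : g * b i * g⁻¹ = b j.castSucc
    · rw [if_neg (by simpa using hp)] at hcj'
      rw [hp, ← H.frame.el_bc j.castSucc, H.frame.mul_el hc (bc_sing _).1, hcj', ← H.frame.mul_el (bc_sing _).1 hc]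
    · rw [if_pos (by simpa using hp)] at hcj'
      have := H.eta_spec g i
      rw [hj] at this
      rw [this.resolve_left hp, ← H.frame.el_bc j.castSucc, ← H.frame.el_mm_z (bc_sing _).1,
        H.frame.mul_el hc (iq_mm _ _ (bc_sing _).1 (by decide)), hcj', ← H.frame.mul_el (bc_sing _).1 hc]
  calc el b z c * g * b i * (el b z c * g)⁻¹ = el b z c * (g * b i * g⁻¹) * (el b z c)⁻¹ := by group
    _ = _ := by rw [key, mul_inv_cancel_right]

theorem ker_eq : H.eta.ker = QQ b := by
  refine le_antisymm (fun g hg => ?_) (fun g hg => H.eta_QQ hg)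
  obtain ⟨q, hq, hfix⟩ := H.fix_signs g
  have h4 : ∀ j : Fin 4, q * g * b j.castSucc = b j.castSucc * (q * g) := fun j => by
    have := hfix j
    rw [show H.eta g = 1 from hg] at this
    exact mul_inv_eq_iff_eq_mul.1 this
  have h : q * g ∈ QQ b := H.cent _ fun i => by
    by_cases hi : i = 4
    · subst hi
      have e : b 4 = (b 0 * b 1 * b 2 * b 3)⁻¹ * z := by rw [← H.frame.prod]; group
      have hc : Commute (q * g) (b 4) := by
        rw [e]
        exact ((((show Commute (q * g) (b 0) from h4 0).mul_right (h4 1)).mul_right (h4 2)).mul_right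
          (h4 3)).inv_right.mul_right (H.central _)
      exact hc.eq
    · have := h4 (i.castLT (by omega))
      rwa [Fin.castSucc_castLT] at this
  have := mul_mem (inv_mem hq) h
  rwa [inv_mul_cancel_left] at this

end Pre

namespace Hyp

variable (H : Hyp b z)
include H

theorem range_eq : H.eta.range = alternatingGroup (Fin 5) := by
  refine Equiv.Perm.eq_alternatingGroup_of_index_eq_two ?_
  have h1 := H.eta.ker.card_mul_index
  rw [index_ker, H.ker_eq, H.frame.card_QQ, H.card] at h1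
  have h2 := H.eta.range.card_mul_index
  rw [show Nat.card H.eta.range = 60 by omega,
    show Nat.card (Equiv.Perm (Fin 5)) = 120 by rw [Nat.card_eq_fintype_card, Fintype.card_perm]; rfl] at h2
  omega

theorem eta_even (g : G) : H.eta g ∈ alternatingGroup (Fin 5) := H.range_eq ▸ ⟨g, rfl⟩

/-- The elements permuting the five involutions exactly. -/
noncomputable def exact : Subgroup G where
  carrier := {g | ∀ i, g * b i * g⁻¹ = b (H.eta g i)}
  one_mem' i := by simp
  mul_mem' {g h} hg hh i := by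
    rw [show g * h * b i * (g * h)⁻¹ = g * (h * b i * h⁻¹) * g⁻¹ by group, hh, hg, map_mul, Equiv.Perm.mul_apply]
  inv_mem' {g} hg i := by
    have h := hg ((H.eta g).symm i)
    rw [Equiv.apply_symm_apply] at h
    rw [map_inv, Equiv.Perm.inv_def, ← h]
    group

theorem exists_exact (g : G) : ∃ q ∈ QQ b, q * g ∈ H.exact := by
  obtain ⟨q, hq, hfix⟩ := H.fix_signs g
  refine ⟨q, hq, fun i => ?_⟩
  have he : H.eta (q * g) = H.eta g := by rw [map_mul, H.eta_QQ hq, one_mul]
  set σ := H.eta g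
  rw [he]
  have h4 : ∀ i : Fin 5, σ i ≠ 4 → q * g * b i * (q * g)⁻¹ = b (σ i) := fun i hi => by
    have := hfix ((σ i).castLT (by omega))
    rwa [Fin.castSucc_castLT, Equiv.symm_apply_apply] at this
  by_cases hi : σ i = 4
  · -- the product determines the last sign
    rcases H.eta_spec (q * g) i with e | e <;> rw [he] at e
    · exact e
    exfalso
    let p : Fin 5 → Fin 128 := fun j => if j = i then mm (bc (σ j)) zc else bc (σ j)
    have hp : ∀ j, IQ (p j) ∧ el b z (p j) = MulAut.conj (q * g) (b j) := fun j => by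
      by_cases hj : j = i
      · subst hj
        exact ⟨by simp only [p, if_pos]; exact iq_mm _ _ (bc_sing _).1 (by decide),
          by simp only [p, if_pos]; rw [H.frame.el_mm_z (bc_sing _).1, H.frame.el_bc]; exact e.symm⟩
      · exact ⟨by simp only [p, if_neg hj]; exact (bc_sing _).1,
          by simp only [p, if_neg hj]; rw [H.frame.el_bc]
             exact (h4 j fun h => hj (σ.injective (h.trans hi.symm))).symm⟩
    have hbad : ∀ σ : Equiv.Perm (Fin 5), Equiv.Perm.sign σ = 1 → ∀ i : Fin 5, σ i = 4 →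
        mm (mm (mm (mm (if 0 = i then mm (bc (σ 0)) zc else bc (σ 0)) (if 1 = i then mm (bc (σ 1)) zc else bc (σ 1)))
          (if 2 = i then mm (bc (σ 2)) zc else bc (σ 2))) (if 3 = i then mm (bc (σ 3)) zc else bc (σ 3)))
          (if 4 = i then mm (bc (σ 4)) zc else bc (σ 4)) ≠ zc := by decide +kernel
    refine hbad σ (Equiv.Perm.mem_alternatingGroup.1 (H.eta_even g)) i hi (H.frame.el_inj ?_ (by decide) ?_)
    · exact iq_mm _ _ (iq_mm _ _ (iq_mm _ _ (iq_mm _ _ (hp 0).1 (hp 1).1) (hp 2).1) (hp 3).1) (hp 4).1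
    · show el b z (mm (mm (mm (mm (p 0) (p 1)) (p 2)) (p 3)) (p 4)) = _
      rw [← H.frame.mul_el (iq_mm _ _ (iq_mm _ _ (iq_mm _ _ (hp 0).1 (hp 1).1) (hp 2).1) (hp 3).1) (hp 4).1,
        ← H.frame.mul_el (iq_mm _ _ (iq_mm _ _ (hp 0).1 (hp 1).1) (hp 2).1) (hp 3).1,
        ← H.frame.mul_el (iq_mm _ _ (hp 0).1 (hp 1).1) (hp 2).1, ← H.frame.mul_el (hp 0).1 (hp 1).1,
        (hp 0).2, (hp 1).2, (hp 2).2, (hp 3).2, (hp 4).2, ← map_mul, ← map_mul, ← map_mul, ← map_mul,
        H.frame.prod, H.frame.el_zc]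
      exact H.frame.conj_z (H.central _)
  · exact h4 i hi

theorem z_exact : z ∈ H.exact := fun i => by
  rw [H.eta_QQ H.frame.z_mem, Equiv.Perm.one_apply, H.frame.zb, mul_inv_cancel_right]

theorem exact_ker {g : G} (hg : g ∈ H.exact) (h1 : H.eta g = 1) : g = 1 ∨ g = z := by
  have hQ : g ∈ QQ b := H.cent g fun i => by
    have := hg i
    rw [h1, Equiv.Perm.one_apply] at this
    exact mul_inv_eq_iff_eq_mul.1 this
  obtain ⟨c, hc, rfl⟩ := H.frame.mem_iff.1 hQ
  have hd : ∀ c : Fin 128, IQ c → (∀ i, mm c (bc i) = mm (bc i) c) → c = 0 ∨ c = zc := by decide +kernel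
  rcases hd c hc (fun i => H.frame.el_inj (iq_mm _ _ hc (bc_sing i).1) (iq_mm _ _ (bc_sing i).1 hc) (by
    rw [← H.frame.mul_el hc (bc_sing i).1, ← H.frame.mul_el (bc_sing i).1 hc, H.frame.el_bc]
    have := hg i
    rw [h1, Equiv.Perm.one_apply] at this
    exact mul_inv_eq_iff_eq_mul.1 this)) with rfl | rfl
  · exact Or.inl H.frame.el_zero
  · exact Or.inr H.frame.el_zc

/-- The restricted action. -/
noncomputable def etaE : H.exact →* alternatingGroup (Fin 5) :=
  (H.eta.comp H.exact.subtype).codRestrict _ fun g => H.eta_even g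

theorem etaE_surj : Function.Surjective H.etaE := by
  rintro ⟨σ, hσ⟩
  rw [← H.range_eq] at hσ
  obtain ⟨g, rfl⟩ := hσ
  obtain ⟨q, hq, h⟩ := H.exists_exact g
  exact ⟨⟨q * g, h⟩, Subtype.ext (by show H.eta (q * g) = _; rw [map_mul, H.eta_QQ hq, one_mul])⟩

theorem card_exact : Nat.card H.exact = 120 := by
  have h1 := H.etaE.ker.card_mul_index
  rw [index_ker, MonoidHom.range_eq_top.2 H.etaE_surj, card_top,
    show Nat.card (alternatingGroup (Fin 5)) = 60 by rw [Nat.card_eq_fintype_card]; decide] at h1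
  have hk : Nat.card H.etaE.ker = 2 := by
    rw [← Nat.card_congr (Equiv.ofBijective (fun t : Bool => (⟨⟨bp z t, by
        cases t
        · exact one_mem _
        · exact H.z_exact⟩, Subtype.ext (by
        show H.eta (bp z t) = 1
        cases t
        · exact map_one _
        · exact H.eta_QQ H.frame.z_mem)⟩ : H.etaE.ker)) ⟨?_, ?_⟩)]
    · simp
    · intro s t h
      have h' : bp z s = bp z t := congrArg (fun x : H.etaE.ker => ((x : H.exact) : G)) h
      cases s <;> cases t <;> first | rfl | (exfalso; exact H.frame.ne (by simpa using h')) |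
        (exfalso; exact H.frame.ne (by simpa using h'.symm))
    · rintro ⟨⟨g, hg⟩, hk⟩
      rcases H.exact_ker hg (congrArg Subtype.val hk :) with rfl | rfl
      · exact ⟨false, rfl⟩
      · exact ⟨true, rfl⟩
  omega

/-- An exact complement. -/
theorem exists_section : ∃ s : alternatingGroup (Fin 5) →* G,
    ∀ σ, s σ ∈ H.exact ∧ H.eta (s σ) = σ := by
  classical
  haveI : Finite G := Nat.finite_of_card_ne_zero (by rw [H.card]; norm_num)
  haveI : Fact (Nat.Prime 2) := ⟨Nat.prime_two⟩
  obtain ⟨t, htt, htQ, σ, hσ⟩ := H.invol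
  have hte : t ∈ H.exact := fun i => by rw [H.eta_eq hσ]; exact hσ i
  have htσ : H.eta t ≠ 1 := fun h => htQ (H.ker_eq ▸ (MonoidHom.mem_ker.2 h))
  obtain ⟨P⟩ : Nonempty (Sylow 2 H.exact) := inferInstance
  have hc8 : Nat.card (P : Subgroup H.exact) = 8 := by
    rw [P.card_eq_multiplicity, H.card_exact, show (120 : ℕ) = 2 ^ 3 * 15 by norm_num,
      Nat.factorization_mul (by norm_num) (by norm_num), Finsupp.add_apply, Nat.factorization_pow,
      Finsupp.smul_apply, Nat.Prime.factorization_self Nat.prime_two,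
      Nat.factorization_eq_zero_of_not_dvd (show ¬ 2 ∣ 15 by norm_num)]
    rfl
  have hexp : ∀ x ∈ (P : Subgroup H.exact), x * x = 1 := by
    intro x hx
    have hd : ∀ σ : Equiv.Perm (Fin 5), σ ^ 8 = 1 → Equiv.Perm.sign σ = 1 → σ = 1 ∨
        (σ ≠ 1 ∧ σ * σ = 1) := by decide +kernel
    have hconj : ∀ σ : Equiv.Perm (Fin 5), Equiv.Perm.sign σ = 1 → σ ≠ 1 → σ * σ = 1 →
        ∃ γ : Equiv.Perm (Fin 5), Equiv.Perm.sign γ = 1 ∧
          γ * (Equiv.swap 0 1 * Equiv.swap 2 3) = σ * γ := by decide +kernel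
    have h8 : (H.eta x) ^ 8 = 1 := by
      have := congrArg (fun y : (P : Subgroup H.exact) => ((y : H.exact) : G)) (pow_card_eq_one' (x := (⟨x, hx⟩ : (P : Subgroup H.exact))))
      rw [hc8] at this
      simp only [SubmonoidClass.coe_pow, OneMemClass.coe_one] at this
      rw [← map_pow, this, map_one]
    rcases hd _ h8 (Equiv.Perm.mem_alternatingGroup.1 (H.eta_even x)) with h | ⟨h1, h2⟩
    · rcases H.exact_ker x.2 h with e | e <;> refine Subtype.ext ?_ <;>
        simp [e, H.frame.zz]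
    · have ht2 : H.eta t * H.eta t = 1 := by rw [← map_mul, htt, map_one]
      obtain ⟨γ, hγ, eγ⟩ := hconj _ (Equiv.Perm.mem_alternatingGroup.1 (H.eta_even x)) h1 h2
      obtain ⟨δ, hδ, eδ⟩ := hconj _ (Equiv.Perm.mem_alternatingGroup.1 (H.eta_even t)) htσ ht2
      obtain ⟨⟨g, hg⟩, eg⟩ := H.etaE_surj ⟨γ * δ⁻¹, mul_mem (Equiv.Perm.mem_alternatingGroup.2 hγ) (inv_mem (Equiv.Perm.mem_alternatingGroup.2 hδ))⟩
      have eg' : H.eta g = γ * δ⁻¹ := congrArg Subtype.val eg
      have hx' : H.eta ((g * t * g⁻¹)⁻¹ * (x : G)) = 1 := by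
        rw [map_mul, map_inv, map_mul, map_mul, map_inv, eg',
          show H.eta t = δ * (Equiv.swap 0 1 * Equiv.swap 2 3) * δ⁻¹ by rw [eδ, mul_inv_cancel_right],
          show H.eta x = γ * (Equiv.swap 0 1 * Equiv.swap 2 3) * γ⁻¹ by rw [eγ, mul_inv_cancel_right]]
        group
      refine Subtype.ext ?_
      show (x : G) * x = 1
      have hsq : g * t * g⁻¹ * (g * t * g⁻¹) = 1 := by
        rw [show g * t * g⁻¹ * (g * t * g⁻¹) = g * (t * t) * g⁻¹ by group, htt]; group
      rcases H.exact_ker (mul_mem (inv_mem (mul_mem (mul_mem hg hte) (inv_mem hg))) x.2) hx' with e | e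
      · rw [inv_mul_eq_one] at e
        rw [← e]; exact hsq
      · rw [inv_mul_eq_iff_eq_mul] at e
        rw [e]
        calc g * t * g⁻¹ * z * (g * t * g⁻¹ * z) = g * t * g⁻¹ * (z * (g * t * g⁻¹)) * z := by group
          _ = g * t * g⁻¹ * (g * t * g⁻¹ * z) * z := by rw [← H.central]
          _ = g * t * g⁻¹ * (g * t * g⁻¹) * (z * z) := by group
          _ = 1 := by rw [hsq, H.frame.zz, one_mul]
  letI : CommGroup (P : Subgroup H.exact) :=
    { (inferInstance : Group (P : Subgroup H.exact)) with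
      mul_comm := fun x y => by
        have h := hexp _ (mul_mem x.2 y.2)
        refine Subtype.ext ?_
        show (x : H.exact) * y = y * x
        have hi : ∀ w ∈ (P : Subgroup H.exact), w⁻¹ = w := fun w hw => inv_eq_of_mul_eq_one_right (hexp w hw)
        rw [← hi _ (mul_mem x.2 y.2), mul_inv_rev, hi _ x.2, hi _ y.2] }
  set φ : H.exact →* (P : Subgroup H.exact) := MonoidHom.transfer (MonoidHom.id _)
  set K := φ.ker
  have hzK : (⟨z, H.z_exact⟩ : H.exact) ∉ K := by
    intro hK
    rw [MonoidHom.mem_ker, MonoidHom.transfer_eq_pow _ _ (fun k g₀ _ => by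
      refine Subtype.ext ?_
      push_cast
      rw [mul_assoc, ← (Commute.pow_right (H.central _) k).eq, inv_mul_cancel_left])] at hK
    have h15 : (P : Subgroup H.exact).index = 15 := by
      have h := (P : Subgroup H.exact).card_mul_index
      rw [hc8, H.card_exact] at h
      omega
    have h2 := congrArg (fun y : (P : Subgroup H.exact) => ((y : H.exact) : G)) hK
    simp only [MonoidHom.id_apply, SubmonoidClass.coe_pow, OneMemClass.coe_one, h15] at h2
    rw [show (15 : ℕ) = 2 * 7 + 1 from rfl, pow_succ, pow_mul, pow_two, H.frame.zz, one_pow, one_mul] at h2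
    exact H.frame.ne h2
  haveI : IsSimpleGroup (alternatingGroup (Fin 5)) := alternatingGroup.isSimpleGroup (by simp)
  have hinj : Function.Injective (H.etaE.comp K.subtype) := by
    refine (injective_iff_map_eq_one _).2 fun x hx => ?_
    rcases H.exact_ker x.1.2 (congrArg Subtype.val hx :) with e | e
    · exact Subtype.ext (Subtype.ext e)
    · exact absurd (by rw [show (⟨z, H.z_exact⟩ : H.exact) = x.1 from Subtype.ext e.symm]; exact x.2) hzK
  have hsurj : Function.Surjective (H.etaE.comp K.subtype) := by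
    have hN : (K.map H.etaE).Normal := Normal.map inferInstance _ H.etaE_surj
    rcases hN.eq_bot_or_eq_top with h | h
    · exfalso
      have h1 : Nat.card K ≤ 1 := by
        refine Finite.card_le_one_iff_subsingleton.2 ⟨fun x y => hinj ?_⟩
        have hbot : ∀ x : K, H.etaE.comp K.subtype x = 1 := fun x => by
          have := mem_map_of_mem H.etaE x.2
          rwa [h, mem_bot] at this
        rw [hbot x, hbot y]
      have h2 := K.card_mul_index
      rw [index_ker, H.card_exact] at h2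
      have h3 : Nat.card φ.range ≤ 8 := hc8 ▸ card_le_card_group _
      nlinarith
    · intro σ
      obtain ⟨x, hx, e⟩ := h.ge (mem_top σ)
      exact ⟨⟨x, hx⟩, e⟩
  let e := MulEquiv.ofBijective _ ⟨hinj, hsurj⟩
  refine ⟨(H.exact.subtype.comp K.subtype).comp e.symm.toMonoidHom, fun σ => ⟨(e.symm σ).1.2, ?_⟩⟩
  exact congrArg Subtype.val (e.apply_symm_apply σ)

/-- The product of a monomial and an element of the complement. -/
noncomputable def pair (p : {c : Fin 128 // IQ c} × alternatingGroup (Fin 5)) : G :=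
  el b z p.1.1 * H.exists_section.choose p.2

theorem sect_conj (σ : alternatingGroup (Fin 5)) (c : Fin 128) :
    H.exists_section.choose σ * el b z c * (H.exists_section.choose σ)⁻¹ = el b z (act σ.1 c) := by
  obtain ⟨he, hs⟩ := H.exists_section.choose_spec σ
  exact H.frame.conj_el (H.central _) σ.1 (fun i => by rw [he i, hs]) c

theorem pair_mul (p q : {c : Fin 128 // IQ c} × alternatingGroup (Fin 5)) :
    H.pair p * H.pair q =
      H.pair (⟨mm p.1.1 (act p.2.1 q.1.1), iq_mm _ _ p.1.2 (Frame.iq_act _ _)⟩, p.2 * q.2) := by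
  simp only [pair]
  rw [← H.frame.mul_el p.1.2 (Frame.iq_act _ _), ← H.sect_conj, map_mul]
  group

theorem pair_bij : Function.Bijective H.pair := by
  haveI : Finite G := Nat.finite_of_card_ne_zero (by rw [H.card]; norm_num)
  rw [Nat.bijective_iff_injective_and_card]
  refine ⟨fun p q h => ?_, ?_⟩
  · simp only [pair] at h
    have h2 : p.2 = q.2 := by
      have := congrArg H.eta h
      rw [map_mul, map_mul, H.eta_QQ (H.frame.el_mem _), H.eta_QQ (H.frame.el_mem _), one_mul, one_mul,
        (H.exists_section.choose_spec p.2).2, (H.exists_section.choose_spec q.2).2] at this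
      exact Subtype.ext this
    rw [h2] at h
    exact Prod.ext (Subtype.ext (H.frame.el_inj p.1.2 q.1.2 (mul_right_cancel h))) h2
  · rw [Nat.card_prod, H.card, Nat.card_eq_fintype_card, Nat.card_eq_fintype_card,
      show Fintype.card {c : Fin 128 // IQ c} = 32 by decide,
      show Fintype.card (alternatingGroup (Fin 5)) = 60 by decide]

/-- The parametrisation of a Sylow 2-subgroup. -/
theorem exists_tab : ∃ (T : Subgroup G) (f : Fin 128 → G), Tab T f := by
  have heven : ∀ v : Fin 4, kp v ∈ alternatingGroup (Fin 5) := fun v =>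
    Equiv.Perm.mem_alternatingGroup.2 ((by decide +kernel : ∀ v : Fin 4, Equiv.Perm.sign (kp v) = 1) v)
  have hxor : ∀ v w : Fin 4, kp v * kp w = kp (v ^^^ w) := by decide +kernel
  have hhi : ∀ a c : Fin 128, hi (mm a c) = hi a ^^^ hi c := by decide +kernel
  have hlo : ∀ a c : Fin 128, lo (mm a c) = mm (lo a) (act (kp (hi a)) (lo c)) := by decide +kernel
  have hloQ : ∀ c : Fin 128, IQ (lo c) := fun c => by show c.val % 32 < 32; omega
  let F : Fin 128 → {c : Fin 128 // IQ c} × alternatingGroup (Fin 5) :=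
    fun c => (⟨lo c, hloQ c⟩, ⟨kp (hi c), heven _⟩)
  let f : Fin 128 → G := fun c => H.pair (F c)
  have hmul : ∀ a c, f (mm a c) = f a * f c := fun a c => by
    show _ = H.pair (F a) * H.pair (F c)
    rw [H.pair_mul]
    exact congrArg H.pair (Prod.ext (Subtype.ext (hlo a c)) (Subtype.ext (by
      show kp (hi (mm a c)) = kp (hi a) * kp (hi c)
      rw [hhi, hxor])))
  have hone : f 0 = 1 := by
    have := hmul 0 0
    rw [(mm_one 0).1] at this
    exact left_eq_mul.1 this
  refine ⟨{ carrier := Set.range f, one_mem' := ⟨0, hone⟩, mul_mem' := ?_, inv_mem' := ?_ }, f,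
    fun c => ⟨c, rfl⟩, fun x hx => hx, ?_, hmul⟩
  · rintro _ _ ⟨a, rfl⟩ ⟨c, rfl⟩
    exact ⟨mm a c, hmul a c⟩
  · rintro _ ⟨a, rfl⟩
    exact ⟨inv a, eq_inv_of_mul_eq_one_left (by rw [← hmul, (mm_inv a).2, hone])⟩
  · intro a c h
    have h2 := H.pair_bij.1 h
    have hk : ∀ v w : Fin 4, kp v = kp w → v = w := by decide +kernel
    have e1 : lo a = lo c := congrArg (fun p => p.1.1) h2
    have e2 := hk _ _ (congrArg (fun p => p.2.1) h2)
    have v1 : a.val % 32 = c.val % 32 := congrArg Fin.val e1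
    have v2 : a.val / 32 = c.val / 32 := congrArg Fin.val e2
    exact Fin.ext (by omega)

end Hyp

end CfsgLib.JankoSylow
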