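import Mathlib.Algebra.Group.Subgroup.Basic
import Mathlib.GroupTheory.Perm.Basic
import Mathlib.Data.Fintype.Basic
import Mathlib.Data.Fin.Basic
import Mathlib.Tactic.FinCases

/-!
The multiplication table of the extension of the Clifford group on five anticommuting involutions by the
four group fixing the last of them: the type of a Sylow 2-subgroup of the Hall–Janko group.

The code `32 v + 16 e + m` stands for `z ^ e * b_m * k_v`, with `m` a set of the first four indices and `k_v`
permuting these by `i ↦ i xor v`.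
-/

set_option autoImplicit false

namespace CfsgLib.JankoSylow

/-- The permutations of the masks, four bits for each of `16 v + m`. -/
def permTab : Nat := 112039013230115047637966934924221926408469423091653416316119279244319701348880

/-- The signs of the permuted monomials. -/
def signTab : Nat := 9144566054784598016

/-- The signs of the products of monomials. -/
def betaTab : Nat := 40867796217264508184565122775466261096999833863607151025216202233750145204224

/-- The product of two codes. -/
def mmN (a b : Nat) : Nat :=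
  32 * ((a / 32) ^^^ (b / 32)) +
    16 * ((a / 16 + b / 16 + (signTab >>> (16 * (a / 32) + b % 16)) +
      (betaTab >>> (16 * (a % 16) + ((permTab >>> (4 * (16 * (a / 32) + b % 16))) &&& 15)))) % 2) +
    ((a % 16) ^^^ ((permTab >>> (4 * (16 * (a / 32) + b % 16))) &&& 15))

/-- The product of two codes. -/
def mm (a b : Fin 128) : Fin 128 := ⟨mmN a.val b.val % 128, Nat.mod_lt _ (by decide)⟩

/-- The square of a code. -/
def sq (a : Fin 128) : Fin 128 := mm a a

/-- The inverse of a code. -/
def inv (a : Fin 128) : Fin 128 := mm a (mm (sq a) (sq (sq a)))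

/-- The codes of the Clifford group. -/
abbrev IQ (c : Fin 128) : Prop := c.val < 32

/-- The code of the central involution. -/
def zc : Fin 128 := 16

/-- The code of the involution fixed by the four group. -/
def uc : Fin 128 := 31

/-- Commutation of codes. -/
abbrev Com (a b : Fin 128) : Prop := mm a b = mm b a

/-- Equality of codes up to the central involution. -/
abbrev Eqz (a b : Fin 128) : Prop := a = b ∨ a = mm b zc

/-- The codes centralizing the fifth involution. -/
abbrev IA (c : Fin 128) : Prop := Com c uc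

/-- The codes of the centre of that centralizer. -/
abbrev IZA (c : Fin 128) : Prop := c = 0 ∨ c = zc ∨ c = uc ∨ c = mm uc zc

/-- The involutions of the Clifford group other than the central one. -/
abbrev Sing (c : Fin 128) : Prop := IQ c ∧ sq c = 0 ∧ c ≠ 0 ∧ c ≠ zc

/-- The five involutions. -/
def bc (i : Fin 5) : Fin 128 := ([1, 2, 4, 8, 31] : List (Fin 128)).getD i.val 0

/-- The elements of the four group. -/
def kc (v : Fin 4) : Fin 128 := ⟨32 * v.val, by omega⟩

/-- The permutation of an element of the four group. -/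
def kperm (v : Fin 4) (i : Fin 5) : Fin 5 :=
  if i.val = 4 then i else ⟨(i.val ^^^ v.val) % 4, by omega⟩

theorem mm_one : ∀ a : Fin 128, mm a 0 = a ∧ mm 0 a = a := by decide +kernel

theorem mm_inv : ∀ a : Fin 128, mm a (inv a) = 0 ∧ mm (inv a) a = 0 := by decide +kernel

theorem iq_mm : ∀ a b : Fin 128, IQ a → IQ b → IQ (mm a b) := by decide +kernel

theorem ia_mm : ∀ a b : Fin 128, IA a → IA b → IA (mm a b) := by decide +kernel

theorem iza_mm : ∀ a b : Fin 128, IZA a → IZA b → IZA (mm a b) := by decide +kernel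

theorem centre : ∀ a : Fin 128, (∀ b : Fin 128, Com a b) ↔ a = 0 ∨ a = zc := by decide +kernel

theorem root_iq : ∀ a : Fin 128, sq a = zc → IQ a := by decide +kernel

theorem invol_out : ∀ a : Fin 128, sq a = 0 → ¬ IA a → IQ a := by decide +kernel

theorem sq_invol : ∀ a : Fin 128, sq (sq a) = 0 → IZA (sq a) := by decide +kernel

theorem iza_iff : ∀ a : Fin 128, IZA a ↔ IA a ∧ ∀ b : Fin 128, IA b → Com a b := by decide +kernel

theorem invol_iaq : ∀ a : Fin 128, IA a → IQ a → sq a = 0 → IZA a := by decide +kernel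

theorem cent_q : ∀ c : Fin 128, Com c 1 → IQ c := by decide +kernel

theorem cent_q_roots : ∀ c : Fin 128, Com c 1 →
    ∃ a, Com a 1 ∧ sq a = zc ∧ (mm (inv a) c = 0 ∨ (Com (mm (inv a) c) 1 ∧ sq (mm (inv a) c) = zc)) := by
  decide +kernel

theorem aq_roots : ∀ c : Fin 128, IA c → IQ c →
    ∃ a, IA a ∧ sq a = zc ∧ (mm (inv a) c = 0 ∨ (IA (mm (inv a) c) ∧ sq (mm (inv a) c) = zc)) := by
  decide +kernel

theorem iq_roots : ∀ c : Fin 128, IQ c →
    ∃ a, sq a = zc ∧ (mm (inv a) c = 0 ∨ sq (mm (inv a) c) = zc) := by decide +kernel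

theorem aq_normal : ∀ t w : Fin 128, IA w → IQ w → IA (mm (mm t w) (inv t)) ∧ IQ (mm (mm t w) (inv t)) := by
  decide +kernel

theorem iq_normal : ∀ t w : Fin 128, IQ w → IQ (mm (mm t w) (inv t)) := by decide +kernel

theorem ia_normal : ∀ t w : Fin 128, IA w → IA (mm (mm t w) (inv t)) := by decide +kernel

/-- The centralizer of an involution outside the Clifford group. -/
theorem cent_a : ∀ a : Fin 128, IA a → ¬ IQ a → sq a = 0 →
    (∀ e, Com e a → IA e ∧ sq e = 0) ∧ (∀ e, IZA e → Com e a) := by decide +kernel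

theorem cent_a_normalizer : ∀ a t : Fin 128, IA a → ¬ IQ a → sq a = 0 → ¬ IA t →
    ¬ Com (mm (mm t a) (inv t)) a := by decide +kernel

theorem cent_a_class : ∀ a : Fin 128, IA a → ¬ IQ a → sq a = 0 →
    (∀ e, Com e a ↔ Com e 32) ∨ ∀ e, Com e a ↔ Com e 35 := by decide +kernel

theorem cent_a_swap : ∀ e : Fin 128, Com e 35 ↔ Com (mm (mm 1 e) 1) 32 := by decide +kernel

theorem cent_a_coset : ∀ a v : Fin 128, IA a → ¬ IQ a → sq a = 0 → IZA v →
    ∃ t, IA t ∧ mm (mm t a) (inv t) = mm a v := by decide +kernel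

theorem cent_aq : ∀ c : Fin 128, (∀ w, IA w → IQ w → Com c w) → IZA c := by decide +kernel

theorem cent_iq : ∀ c : Fin 128, (∀ w, IQ w → Com c w) → c = 0 ∨ c = zc := by decide +kernel

theorem cent_mod : ∀ c : Fin 128, (∀ w, IQ w → Eqz (mm c w) (mm w c)) → IQ c := by decide +kernel

theorem sing_pair : ∀ a : Fin 128, IQ a → sq a = zc → ∀ i : Fin 5, Sing (mm (bc i) a) →
    ∀ k : Fin 5, Sing (mm (bc k) a) → Eqz (bc k) (bc i) ∨ Eqz (bc k) (mm (bc i) a) := by decide +kernel

theorem root_pair : ∀ a : Fin 128, sq a = zc → ∃ i : Fin 5, Sing (mm (bc i) a) := by decide +kernel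

theorem out_fixed : ∀ t : Fin 128, ¬ IQ t → (sq t = 0 ∨ sq t = zc) →
    ∃ i : Fin 5, Eqz (mm t (bc i)) (mm (bc i) t) ∧
      (∀ k : Fin 5, Eqz (mm t (bc k)) (mm (bc k) t) → k = i) ∧
      ∃ r, IQ r ∧ sq r = zc ∧ Eqz (mm t r) (mm r t) := by decide +kernel

theorem bc_sing : ∀ i : Fin 5, Sing (bc i) := by decide +kernel

theorem sing_bc : ∀ c : Fin 128, Sing c → ∃ i, Eqz c (bc i) := by decide +kernel

theorem kc_bc : ∀ v : Fin 4, ∀ i : Fin 5, mm (mm (kc v) (bc i)) (inv (kc v)) = bc (kperm v i) := by
  decide +kernel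

/-- A parametrisation of a finite subgroup by the codes. -/
structure Tab {G : Type*} [Group G] (T : Subgroup G) (f : Fin 128 → G) : Prop where
  mem : ∀ c, f c ∈ T
  surj : ∀ x ∈ T, ∃ c, f c = x
  inj : Function.Injective f
  mul : ∀ a b, f (mm a b) = f a * f b

end CfsgLib.JankoSylow
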