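import Cfsg.Agent.J2U.Base

/-!
Uniqueness of the split extension `2^{1+4}.A₅`: five anticommuting involutions permuted up to sign by
`A₅`, with an involution outside the extraspecial subgroup.
-/

set_option autoImplicit false
set_option linter.style.haveILetI false
set_option linter.unusedSectionVars false
set_option linter.unusedSimpArgs false
set_option maxRecDepth 100000

namespace CfsgLib.JankoSylow

open CfsgLib.Coset CfsgLib.J2U CfsgLib.HJT

/-- An extension of the Clifford group on five anticommuting involutions by `A₅`. -/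
structure CliffExt (C : Type*) [Group C] (z : C) (a : Fin 5 → C)
    (π : C →* Equiv.Perm (Fin 5)) : Prop where
  card : Nat.card C = 1920
  zc : ∀ c, c * z = z * c
  zz : z * z = 1
  zne : z ≠ 1
  sq : ∀ i, a i * a i = 1
  anti : ∀ i j, i ≠ j → a i * a j = z * (a j * a i)
  conj : ∀ c i, c * a i * c⁻¹ = a (π c i) ∨ c * a i * c⁻¹ = z * a (π c i)
  range : π.range = alternatingGroup (Fin 5)
  fix : ∀ c, (∀ i, c * a i * c⁻¹ = a i) → c = 1 ∨ c = z
  invol : ∃ s, s * s = 1 ∧ π s ≠ 1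

variable {C : Type*} [Group C] {z : C}

/-- `c` permutes the five involutions exactly as `σ`. -/
def Ex (a : Fin 5 → C) (c : C) (σ : Equiv.Perm (Fin 5)) : Prop :=
  ∀ i, c * a i * c⁻¹ = a (σ i)

theorem Ex.mul {a : Fin 5 → C} {c d : C} {σ τ : Equiv.Perm (Fin 5)} (h : Ex a c σ)
    (h' : Ex a d τ) : Ex a (c * d) (σ * τ) := fun i => by
  rw [← conj_assoc, h', h, Equiv.Perm.mul_apply]

theorem Ex.inv {a : Fin 5 → C} {c : C} {σ : Equiv.Perm (Fin 5)} (h : Ex a c σ) :
    Ex a c⁻¹ σ⁻¹ := fun i => by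
  have h1 := h (σ⁻¹ i)
  rw [show σ (σ⁻¹ i) = i from Equiv.apply_symm_apply σ i] at h1
  rw [← h1]; group

theorem Ex.pow {a : Fin 5 → C} {c : C} {σ : Equiv.Perm (Fin 5)} (h : Ex a c σ) :
    ∀ n : ℕ, Ex a (c ^ n) (σ ^ n)
  | 0 => fun i => by simp
  | n + 1 => by rw [pow_succ, pow_succ]; exact (h.pow n).mul h

namespace CliffExt

variable {a : Fin 5 → C} {π : C →* Equiv.Perm (Fin 5)} (D : CliffExt C z a π)
include D

theorem cz (c : C) : Commute z c := (D.zc c).symm

theorem ex_z : Ex a z 1 := fun i => by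
  rw [(D.cz (a i)).eq, mul_inv_cancel_right, Equiv.Perm.one_apply]

theorem ex_zmul {c : C} {σ : Equiv.Perm (Fin 5)} (h : Ex a c σ) : Ex a (z * c) σ := by
  have := D.ex_z.mul h
  rwa [one_mul] at this

theorem zp_cases (b : ZMod 2) : zp z b = 1 ∨ zp z b = z := by
  rcases zmod2_cases b with rfl | rfl
  exacts [Or.inl (zp_zero z), Or.inr (zp_one z)]

theorem zp_commute (b : ZMod 2) (c : C) : Commute (zp z b) c := by
  rcases D.zp_cases b with h | h <;> rw [h]
  exacts [Commute.one_left c, D.cz c]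

theorem zadd (b c : ZMod 2) : zp z (b + c) = zp z b * zp z c := zp_add D.zz b c

theorem zmul_zmul (b c : ZMod 2) (u v : C) :
    zp z b * u * (zp z c * v) = zp z (b + c) * (u * v) := by
  rw [D.zadd, mul_assoc, ← mul_assoc u, ← (D.zp_commute c u).eq, mul_assoc (zp z c), ← mul_assoc]

theorem a_inv (i : Fin 5) : (a i)⁻¹ = a i := inv_eq_of_mul_eq_one_right (D.sq i)

theorem conj_a (j i : Fin 5) :
    a j * a i * (a j)⁻¹ = zp z (if i = j then 0 else 1) * a i := by
  rcases eq_or_ne i j with rfl | h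
  · rw [if_pos rfl, zp_zero, one_mul, mul_inv_cancel_right]
  · rw [if_neg h, zp_one, D.anti j i (Ne.symm h), mul_assoc, mul_assoc, mul_inv_cancel, mul_one]

theorem swap (i j : Fin 5) (h : i ≠ j) (u v : C) :
    u * (a i * a j) * v = z * (u * (a j * a i) * v) := by
  rw [D.anti i j h, ← mul_assoc u z, ← (D.cz u).eq, mul_assoc z u, mul_assoc z]

/-- The five involutions can be chosen with product `z`. -/
theorem exists_normal :
    ∃ b : Fin 5 → C, CliffExt C z b π ∧ b 0 * b 1 * b 2 * b 3 * b 4 = z := by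
  have hp : ∀ i, a 0 * a 1 * a 2 * a 3 * a 4 * a i * (a 0 * a 1 * a 2 * a 3 * a 4)⁻¹ = a i := by
    intro i
    have hstep : ∀ (j : Fin 5) (e : ZMod 2),
        a j * (zp z e * a i) * (a j)⁻¹ = zp z (e + if i = j then 0 else 1) * a i := by
      intro j e
      rw [← mul_assoc (a j), ← (D.zp_commute e (a j)).eq, mul_assoc (zp z e), mul_assoc (zp z e),
        D.conj_a, D.zadd, mul_assoc]
    have h4 := D.conj_a 4 i
    rw [show a 0 * a 1 * a 2 * a 3 * a 4 * a i * (a 0 * a 1 * a 2 * a 3 * a 4)⁻¹ =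
      a 0 * (a 1 * (a 2 * (a 3 * (a 4 * a i * (a 4)⁻¹) * (a 3)⁻¹) * (a 2)⁻¹) * (a 1)⁻¹) * (a 0)⁻¹ by
        group, h4, hstep, hstep, hstep, hstep]
    have h0 : ∀ i : Fin 5, ((((if i = 4 then 0 else 1 : ZMod 2) + if i = 3 then 0 else 1) +
        if i = 2 then 0 else 1) + if i = 1 then 0 else 1) + (if i = 0 then 0 else 1) = 0 := by decide
    rw [h0, zp_zero, one_mul]
  rcases D.fix _ hp with h | h
  · let e : Fin 5 → ZMod 2 := fun i => if i = 0 then 1 else 0
    let b : Fin 5 → C := fun i => zp z (e i) * a i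
    have hcb : ∀ c i, c * b i * c⁻¹ = zp z (e i) * (c * a i * c⁻¹) := fun c i => by
      show c * (zp z (e i) * a i) * c⁻¹ = _
      rw [← mul_assoc, ← (D.zp_commute _ c).eq, mul_assoc (zp z (e i)), mul_assoc (zp z (e i))]
    refine ⟨b, ⟨D.card, D.zc, D.zz, D.zne, fun i => ?_, fun i j hij => ?_, fun c i => ?_, D.range,
      fun c hc => D.fix c fun i => ?_, D.invol⟩, ?_⟩
    · show zp z (e i) * a i * (zp z (e i) * a i) = 1
      rw [D.zmul_zmul, CharTwo.add_self_eq_zero, zp_zero, one_mul, D.sq]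
    · show zp z (e i) * a i * (zp z (e j) * a j) = z * (zp z (e j) * a j * (zp z (e i) * a i))
      rw [D.zmul_zmul, D.zmul_zmul, D.anti i j hij, add_comm (e j),
        ← mul_assoc, ← (D.cz (zp z (e i + e j))).eq, mul_assoc]
    · rw [hcb]
      have hzb : ∀ k, a k = zp z (e k) * b k := fun k => by
        show a k = zp z (e k) * (zp z (e k) * a k)
        rw [← mul_assoc, ← D.zadd, CharTwo.add_self_eq_zero, zp_zero, one_mul]
      rcases D.conj c i with h' | h' <;> rw [h', hzb (π c i)]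
      · rw [← mul_assoc, ← D.zadd]
        rcases D.zp_cases (e i + e (π c i)) with h'' | h'' <;> rw [h'']
        exacts [Or.inl (one_mul _), Or.inr rfl]
      · rw [show z * (zp z (e (π c i)) * b (π c i)) = zp z (1 + e (π c i)) * b (π c i) by
          rw [D.zadd, zp_one, mul_assoc], ← mul_assoc, ← D.zadd]
        rcases D.zp_cases (e i + (1 + e (π c i))) with h'' | h'' <;> rw [h'']
        exacts [Or.inl (one_mul _), Or.inr rfl]
    · have := hc i
      rw [hcb] at this
      exact mul_left_cancel this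
    · show zp z (e 0) * a 0 * (zp z (e 1) * a 1) * (zp z (e 2) * a 2) * (zp z (e 3) * a 3) *
        (zp z (e 4) * a 4) = z
      rw [D.zmul_zmul, D.zmul_zmul, D.zmul_zmul, D.zmul_zmul, h, mul_one,
        show e 0 + e 1 + e 2 + e 3 + e 4 = 1 by decide, zp_one]
  · exact ⟨a, D, h⟩

variable (hP : a 0 * a 1 * a 2 * a 3 * a 4 = z)
include hP

theorem prod_S : a 1 * a 0 * a 2 * a 4 * a 3 = z := by
  have h1 := D.swap 1 0 (by decide) 1 (a 2 * a 4 * a 3)
  have h2 := D.swap 4 3 (by decide) (a 0 * a 1 * a 2) 1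
  simp only [one_mul, mul_one, mul_assoc] at h1 h2 hP ⊢
  rw [h1, h2, ← mul_assoc z z, D.zz, one_mul, hP]

theorem prod_R : a 0 * a 2 * a 3 * a 1 * a 4 = z := by
  have h1 := D.swap 3 1 (by decide) (a 0 * a 2) (a 4)
  have h2 := D.swap 2 1 (by decide) (a 0) (a 3 * a 4)
  simp only [mul_assoc] at h1 h2 hP ⊢
  rw [h1, h2, ← mul_assoc z z, D.zz, one_mul, hP]

/-- The signs of a lift have even sum. -/
theorem sum_signs {c : C} {σ : Equiv.Perm (Fin 5)} {ε : Fin 5 → ZMod 2}
    (hε : ∀ i, c * a i * c⁻¹ = zp z (ε i) * a (σ i))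
    (hσ : a (σ 0) * a (σ 1) * a (σ 2) * a (σ 3) * a (σ 4) = z) :
    ε 0 + ε 1 + ε 2 + ε 3 + ε 4 = 0 := by
  have h : c * (a 0 * a 1 * a 2 * a 3 * a 4) * c⁻¹ = z := by
    rw [hP, D.zc, mul_inv_cancel_right]
  rw [show c * (a 0 * a 1 * a 2 * a 3 * a 4) * c⁻¹ = (c * a 0 * c⁻¹) * (c * a 1 * c⁻¹) *
    (c * a 2 * c⁻¹) * (c * a 3 * c⁻¹) * (c * a 4 * c⁻¹) by group, hε, hε, hε, hε, hε,
    D.zmul_zmul, D.zmul_zmul, D.zmul_zmul, D.zmul_zmul, hσ] at h
  exact zp_inj D.zne ((mul_eq_right.1 h).trans (zp_zero z).symm)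

omit hP in
theorem signs (c : C) :
    ∃ ε : Fin 5 → ZMod 2, ∀ i, c * a i * c⁻¹ = zp z (ε i) * a (π c i) := by
  have h : ∀ i, ∃ e : ZMod 2, c * a i * c⁻¹ = zp z e * a (π c i) := fun i => by
    rcases D.conj c i with h | h
    · exact ⟨0, by rw [h, zp_zero, one_mul]⟩
    · exact ⟨1, by rw [h, zp_one]⟩
  exact ⟨fun i => (h i).choose, fun i => (h i).choose_spec⟩

omit hP in
/-- Conjugation by a product of two of the involutions. -/
theorem conj_pair (j k i : Fin 5) : a j * a k * a i * (a j * a k)⁻¹ =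
    zp z ((if i = k then 0 else 1) + (if i = j then 0 else 1)) * a i := by
  rw [show a j * a k * a i * (a j * a k)⁻¹ = a j * (a k * a i * (a k)⁻¹) * (a j)⁻¹ by group,
    D.conj_a, ← mul_assoc (a j), ← (D.zp_commute _ (a j)).eq, mul_assoc (zp z _),
    mul_assoc (zp z _), D.conj_a, ← mul_assoc, ← D.zadd]

omit hP in
/-- A product of involutions with prescribed even signs. -/
theorem exists_signs (ε : Fin 5 → ZMod 2) (hε : ε 0 + ε 1 + ε 2 + ε 3 + ε 4 = 0) :
    ∃ q, π q = 1 ∧ ∀ i, q * a i * q⁻¹ = zp z (ε i) * a i := by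
  have hw : ∀ (q : C) (f : Fin 5 → ZMod 2), (∀ i, q * a i * q⁻¹ = zp z (f i) * a i) → π q = 1 := by
    intro q f hf
    ext1 i
    have hi := hf i
    by_contra hne
    rw [Equiv.Perm.one_apply] at hne
    obtain ⟨e, he⟩ : ∃ e, a (π q i) = zp z e * a i := by
      rcases D.conj q i with h | h <;> rw [hi] at h
      · exact ⟨f i, h.symm⟩
      · refine ⟨1 + f i, ?_⟩
        rw [D.zadd, zp_one, mul_assoc, h, ← mul_assoc, D.zz, one_mul]
    have h2 := D.anti _ i hne
    rw [he, mul_assoc, D.sq, ← mul_assoc (a i), ← (D.zp_commute e (a i)).eq, mul_assoc (zp z e),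
      D.sq, mul_one] at h2
    exact D.zne (left_eq_mul.1 (h2.trans (D.cz _).eq))
  have key : ∀ (p : C) (f : Fin 5 → ZMod 2), (∀ i, p * a i * p⁻¹ = zp z (f i) * a i) → ∀ e : ZMod 2,
      ∃ q, ∀ i, q * a i * q⁻¹ = zp z (e * f i) * a i := by
    intro p f hp e
    rcases zmod2_cases e with rfl | rfl
    · exact ⟨1, fun i => by simp⟩
    · exact ⟨p, fun i => by rw [one_mul]; exact hp i⟩
  obtain ⟨q0, h0⟩ := key _ _ (D.conj_pair 0 4) (ε 0)
  obtain ⟨q1, h1⟩ := key _ _ (D.conj_pair 1 4) (ε 1)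
  obtain ⟨q2, h2⟩ := key _ _ (D.conj_pair 2 4) (ε 2)
  obtain ⟨q3, h3⟩ := key _ _ (D.conj_pair 3 4) (ε 3)
  have hstep : ∀ (q : C) (g : Fin 5 → ZMod 2), (∀ i, q * a i * q⁻¹ = zp z (g i) * a i) →
      ∀ (e : ZMod 2) (i : Fin 5), q * (zp z e * a i) * q⁻¹ = zp z (e + g i) * a i := by
    intro q g hq e i
    rw [← mul_assoc q, ← (D.zp_commute e q).eq, mul_assoc (zp z e), mul_assoc (zp z e), hq, D.zadd,
      mul_assoc]
  have hfin : ∀ ε : Fin 5 → ZMod 2, ε 0 + ε 1 + ε 2 + ε 3 + ε 4 = 0 → ∀ i : Fin 5,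
      ε 3 * ((if i = 4 then 0 else 1) + if i = 3 then 0 else 1) +
        ε 2 * ((if i = 4 then 0 else 1) + if i = 2 then 0 else 1) +
        ε 1 * ((if i = 4 then 0 else 1) + if i = 1 then 0 else 1) +
        ε 0 * ((if i = 4 then 0 else 1) + if i = 0 then 0 else 1) = ε i := by decide
  refine ⟨q0 * q1 * q2 * q3, hw _ ε fun i => ?_, fun i => ?_⟩
  all_goals
    rw [show q0 * q1 * q2 * q3 * a i * (q0 * q1 * q2 * q3)⁻¹ =
      q0 * (q1 * (q2 * (q3 * a i * q3⁻¹) * q2⁻¹) * q1⁻¹) * q0⁻¹ by group,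
      h3, hstep q2 _ h2, hstep q1 _ h1, hstep q0 _ h0, hfin ε hε i]

/-- Exact lifts of permutations preserving the product. -/
theorem exists_ex {σ : Equiv.Perm (Fin 5)} (hσs : Equiv.Perm.sign σ = 1)
    (hσ : a (σ 0) * a (σ 1) * a (σ 2) * a (σ 3) * a (σ 4) = z) : ∃ c, Ex a c σ := by
  obtain ⟨c, hc⟩ : σ ∈ π.range := by rw [D.range, Equiv.Perm.mem_alternatingGroup]; exact hσs
  obtain ⟨ε, hε⟩ := D.signs c
  rw [hc] at hε
  obtain ⟨q, -, hq⟩ := D.exists_signs ε (D.sum_signs hP hε hσ)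
  refine ⟨c * q, fun i => ?_⟩
  rw [← conj_assoc, hq, ← mul_assoc c, ← (D.zp_commute _ c).eq, mul_assoc (zp z _),
    mul_assoc (zp z _), hε, ← mul_assoc, ← D.zadd, CharTwo.add_self_eq_zero, zp_zero, one_mul]

/-- An exact lift of `(0 1)(3 4)` which is an involution. -/
theorem exists_S : ∃ S, Ex a S σS ∧ S * S = 1 := by
  obtain ⟨s0, hs0, hs1⟩ := D.invol
  have hτ : Equiv.Perm.sign (π s0) = 1 := by
    rw [← Equiv.Perm.mem_alternatingGroup, ← D.range]; exact ⟨s0, rfl⟩
  have hτ2 : π s0 * π s0 = 1 := by rw [← map_mul, hs0, map_one]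
  obtain ⟨ρ, hρ, hρc⟩ := (by decide +kernel : ∀ τ : Equiv.Perm (Fin 5), Equiv.Perm.sign τ = 1 →
    τ ≠ 1 → τ * τ = 1 → ∃ ρ : Equiv.Perm (Fin 5), Equiv.Perm.sign ρ = 1 ∧ ρ * τ * ρ⁻¹ = σS)
    _ hτ hs1 hτ2
  obtain ⟨c, rfl⟩ : ρ ∈ π.range := by rw [D.range, Equiv.Perm.mem_alternatingGroup]; exact hρ
  set s := c * s0 * c⁻¹ with hs
  have hss : s * s = 1 := by rw [hs, conj_mul, hs0, mul_one, mul_inv_cancel]
  have hπ : π s = σS := by rw [hs, map_mul, map_mul, map_inv, hρc]
  obtain ⟨ε, hε⟩ := D.signs s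
  rw [hπ] at hε
  obtain ⟨t0, t1, t2, t3, t4, -⟩ := perm_table
  have hpair : ∀ i, ε (σS i) = ε i := by
    intro i
    have h1 : s * (s * a i * s⁻¹) * s⁻¹ = a i := by rw [conj_assoc, hss]; group
    rw [hε, ← mul_assoc s, ← (D.zp_commute _ s).eq, mul_assoc (zp z _), mul_assoc (zp z _), hε,
      ← mul_assoc, ← D.zadd, show σS (σS i) = i from (by decide : ∀ i, σS (σS i) = i) i] at h1
    exact (CharTwo.add_eq_zero.1 (zp_inj D.zne ((mul_eq_right.1 h1).trans (zp_zero z).symm))).symm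
  have hsum : ε 0 + ε 1 + ε 2 + ε 3 + ε 4 = 0 :=
    D.sum_signs hP hε (by rw [t0, t1, t2, t3, t4]; exact D.prod_S hP)
  have h10 : ε 1 = ε 0 := by have := hpair 0; rwa [t0] at this
  have h43 : ε 4 = ε 3 := by have := hpair 3; rwa [t3] at this
  have h2 : ε 2 = 0 := by
    rw [h10, h43] at hsum
    exact (by decide : ∀ p q r : ZMod 2, p + p + q + r + r = 0 → q = 0) _ _ _ hsum
  obtain ⟨p, hp, hps, hpp⟩ : ∃ p, (∀ i, p * a i * p⁻¹ = zp z (ε i) * a i) ∧
      s * p * s⁻¹ = p⁻¹ ∧ True := by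
    have hq01 : ∀ e : ZMod 2, e = ε 0 → ∀ f : ZMod 2, f = ε 3 → ∃ p,
        (∀ i, p * a i * p⁻¹ = zp z (ε i) * a i) ∧ s * p * s⁻¹ = p⁻¹ ∧ True := by
      intro e he f hf
      -- the pair `a 0 a 1` and the pair `a 3 a 4` are inverted by `s`
      have hinv : ∀ j, s * (a j * a (σS j)) * s⁻¹ = (a j * a (σS j))⁻¹ := by
        intro j
        rw [show s * (a j * a (σS j)) * s⁻¹ = (s * a j * s⁻¹) * (s * a (σS j) * s⁻¹) by group, hε,
          hε, D.zmul_zmul, hpair, CharTwo.add_self_eq_zero, zp_zero, one_mul,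
          (by decide : ∀ i, σS (σS i) = i) j, mul_inv_rev, D.a_inv, D.a_inv]
      have e01 : a 0 * a 1 * (a 3 * a 4) = a 3 * a 4 * (a 0 * a 1) := by
        have := D.conj_pair 0 1 3
        have h4 := D.conj_pair 0 1 4
        simp only [show ((if (3 : Fin 5) = 1 then 0 else 1 : ZMod 2) + if (3 : Fin 5) = 0 then 0 else 1) = 0
          by decide, zp_zero, one_mul] at this
        simp only [show ((if (4 : Fin 5) = 1 then 0 else 1 : ZMod 2) + if (4 : Fin 5) = 0 then 0 else 1) = 0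
          by decide, zp_zero, one_mul] at h4
        have c3 : Commute (a 0 * a 1) (a 3) := mul_inv_eq_iff_eq_mul.1 this
        have c4 : Commute (a 0 * a 1) (a 4) := mul_inv_eq_iff_eq_mul.1 h4
        exact (c3.mul_right c4).eq
      rcases zmod2_cases e with rfl | rfl <;> rcases zmod2_cases f with rfl | rfl
      · refine ⟨1, fun i => ?_, by simp, trivial⟩
        have : ε i = 0 := by
          fin_cases i
          exacts [he.symm, h10.trans he.symm, h2, hf.symm, h43.trans hf.symm]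
        simp [this]
      · refine ⟨a 3 * a 4, fun i => ?_, by have := hinv 3; rwa [t3] at this, trivial⟩
        rw [D.conj_pair]
        congr 2
        fin_cases i <;> simp [← he, ← hf, h10, h43, h2] <;> decide
      · refine ⟨a 0 * a 1, fun i => ?_, by have := hinv 0; rwa [t0] at this, trivial⟩
        rw [D.conj_pair]
        congr 2
        fin_cases i <;> simp [← he, ← hf, h10, h43, h2] <;> decide
      · refine ⟨a 0 * a 1 * (a 3 * a 4), fun i => ?_, ?_, trivial⟩
        · rw [show a 0 * a 1 * (a 3 * a 4) * a i * (a 0 * a 1 * (a 3 * a 4))⁻¹ =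
            a 0 * a 1 * (a 3 * a 4 * a i * (a 3 * a 4)⁻¹) * (a 0 * a 1)⁻¹ by group, D.conj_pair,
            ← mul_assoc (a 0 * a 1), ← (D.zp_commute _ (a 0 * a 1)).eq, mul_assoc (zp z _),
            mul_assoc (zp z _), D.conj_pair, ← mul_assoc, ← D.zadd]
          congr 2
          fin_cases i <;> simp [← he, ← hf, h10, h43, h2] <;> decide
        · have i0 := hinv 0
          have i3 := hinv 3
          rw [t0] at i0; rw [t3] at i3
          rw [show s * (a 0 * a 1 * (a 3 * a 4)) * s⁻¹ =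
            (s * (a 0 * a 1) * s⁻¹) * (s * (a 3 * a 4) * s⁻¹) by group, i0, i3, ← mul_inv_rev, e01]
    exact hq01 _ rfl _ rfl
  refine ⟨p⁻¹ * s, fun i => ?_, ?_⟩
  · rw [← conj_assoc, hε, ← mul_assoc p⁻¹, ← (D.zp_commute _ p⁻¹).eq, mul_assoc (zp z _),
      mul_assoc (zp z _)]
    have hq := hp (σS i)
    rw [hpair] at hq
    have h5 : p⁻¹ * a (σS i) * p⁻¹⁻¹ = zp z (ε i) * a (σS i) := by
      calc p⁻¹ * a (σS i) * p⁻¹⁻¹
          = p⁻¹ * (zp z (ε i) * (p * a (σS i) * p⁻¹)) * p := by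
            rw [hq, ← mul_assoc (zp z (ε i)), ← D.zadd, CharTwo.add_self_eq_zero, zp_zero, one_mul,
              inv_inv]
        _ = zp z (ε i) * a (σS i) := by
            rw [← mul_assoc p⁻¹, ← (D.zp_commute _ p⁻¹).eq]; group
    rw [h5, ← mul_assoc, ← D.zadd, CharTwo.add_self_eq_zero, zp_zero, one_mul]
  · rw [show p⁻¹ * s * (p⁻¹ * s) = p⁻¹ * (s * p * s⁻¹)⁻¹ * (s * s) by group, hps, inv_inv, hss,
      mul_one, inv_mul_cancel]

/-- The relators of the standard presentation hold. -/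
theorem exists_rels : ∃ S w x, (∀ u ∈ relsC, ev (LCof z a S w x) u = 1) ∧ Ex a S σS ∧
    Ex a x σR := by
  obtain ⟨S0, hS0, hS0s⟩ := D.exists_S hP
  obtain ⟨x0, hx0⟩ := D.exists_ex hP (σ := σR) (by decide)
    (by obtain ⟨-, -, -, -, -, -, -, -, -, -, r0, r1, r2, r3, r4⟩ := perm_table
        rw [r0, r1, r2, r3, r4]; exact D.prod_R hP)
  obtain ⟨x, hx, hx3⟩ : ∃ x, Ex a x σR ∧ x * x * x = 1 := by
    have h := D.fix (x0 ^ 3) fun i => by
      rw [hx0.pow 3 i, show σR ^ 3 = 1 by decide, Equiv.Perm.one_apply]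
    rcases h with h | h
    · exact ⟨x0, hx0, by rw [← h, pow_three']⟩
    · refine ⟨z * x0, D.ex_zmul hx0, ?_⟩
      rw [show z * x0 * (z * x0) * (z * x0) = (z * x0) ^ 3 from (pow_three' _).symm, (D.cz x0).mul_pow, h,
        ← pow_succ, show 3 + 1 = 2 * 2 by rfl, pow_mul, _root_.sq z, D.zz, one_pow]
  obtain ⟨S, hS, hS2, hS5⟩ : ∃ S, Ex a S σS ∧ S * S = 1 ∧ (S * x) ^ 5 = 1 := by
    have h := D.fix ((S0 * x) ^ 5) fun i => by
      rw [(hS0.mul hx).pow 5 i, show (σS * σR) ^ 5 = 1 by decide +kernel, Equiv.Perm.one_apply]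
    rcases h with h | h
    · exact ⟨S0, hS0, hS0s, h⟩
    · refine ⟨z * S0, D.ex_zmul hS0, ?_, ?_⟩
      · rw [(D.cz S0).symm.mul_mul_mul_comm, D.zz, hS0s, one_mul]
      · rw [mul_assoc, (D.cz (S0 * x)).mul_pow, h, ← pow_succ, show 5 + 1 = 2 * 3 by rfl, pow_mul,
          _root_.sq z, D.zz, one_pow]
  set w := ev (LAof S x) [2, 0, 2, 0, 1, 0, 1] with hw
  have hwe : w = x⁻¹ * (S * (x⁻¹ * (S * (x * (S * x))))) := by simp [hw, LAof, fl]
  have hexw : Ex a w σW := by
    rw [hwe, ← (by decide : σR⁻¹ * (σS * (σR⁻¹ * (σS * (σR * (σS * σR))))) = σW)]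
    exact hx.inv.mul (hS.mul (hx.inv.mul (hS.mul (hx.mul (hS.mul hx)))))
  have T := tableA hS2 hx3 hS5
  have evA : ∀ u : List Nat, sameT TA.Tb 3 u [] = true → ev (LAof S x) u = 1 := fun u hu =>
    (ev_eq_of_sameT T (by norm_num) (show (LAof S x).length = 3 from rfl) (v := []) hu).trans
      (ev_nil _)
  have hw2 : w * w = 1 := by
    rw [hw, ← ev_append]; exact evA _ (by decide +kernel)
  have hxw : x * w * (x * w) * (x * w) = 1 := by
    have h := evA ([1] ++ [2, 0, 2, 0, 1, 0, 1] ++ ([1] ++ [2, 0, 2, 0, 1, 0, 1]) ++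
      ([1] ++ [2, 0, 2, 0, 1, 0, 1])) (by decide +kernel)
    simpa [ev_append, hw, LAof, fl, mul_assoc] using h
  have hword : w * (x⁻¹ * (S * (x⁻¹ * (S * (x * (S * x)))))) = 1 := by rw [← hwe, hw2]
  refine ⟨S, w, x, ?_, hS, hx⟩
  have winv : w⁻¹ = w := inv_eq_of_mul_eq_one_right hw2
  have Sinv : S⁻¹ = S := inv_eq_of_mul_eq_one_right hS2
  have hzc : ∀ c : C, z * (c * (z * c⁻¹)) = 1 := fun c => by
    rw [← mul_assoc c, D.zc, mul_assoc, mul_inv_cancel, mul_one, D.zz]
  have hz2 : ∀ p q, p ≠ q → a p * (a q * (a p * (a q * z))) = 1 := fun p q hpq => by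
    calc a p * (a q * (a p * (a q * z))) = (a p * a q) * (a p * a q) * z := by group
      _ = z * (a q * a p) * (a p * a q) * z := by nth_rewrite 1 [D.anti p q hpq]; rfl
      _ = z * (a q * (a p * a p) * a q) * z := by group
      _ = 1 := by rw [D.sq, mul_one, D.sq, mul_one, D.zz]
  have hact : ∀ (c ci : C) (σ : Equiv.Perm (Fin 5)), ci = c⁻¹ → Ex a c σ →
      ∀ j, c * (a j * (ci * a (σ j))) = 1 := fun c ci σ hci h j => by
    rw [hci, show c * (a j * (c⁻¹ * a (σ j))) = c * a j * c⁻¹ * a (σ j) by group, h, D.sq]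
  obtain ⟨s0, s1, s2, s3, s4, w0, w1, w2, w3, w4, r0, r1, r2, r3, r4⟩ := perm_table
  have gS := hact S S σS Sinv.symm hS
  have gw := hact w w σW winv.symm hexw
  have gx := hact x x⁻¹ σR rfl hx
  intro u hu
  simp only [relsC, List.mem_cons, List.not_mem_nil, or_false] at hu

  repeat' rcases hu with rfl | hu
  all_goals simp only [ev_cons, ev_nil, mul_one, LCof, fl, List.getD_eq_getElem?_getD,
    List.length_cons, List.length_nil, List.getElem?_cons_succ, List.getElem?_cons_zero,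
    Option.getD_some, zero_add, Nat.reduceAdd]
  all_goals first
    | exact mul_inv_cancel _
    | exact inv_mul_cancel _
    | exact D.sq _
    | exact hS2
    | exact hw2
    | exact D.zz
    | exact hz2 _ _ (by decide)
    | (have h := hzc (a 0); rw [D.a_inv] at h; exact h)
    | (have h := hzc (a 1); rw [D.a_inv] at h; exact h)
    | (have h := hzc (a 2); rw [D.a_inv] at h; exact h)
    | (have h := hzc (a 3); rw [D.a_inv] at h; exact h)
    | (have h := hzc (a 4); rw [D.a_inv] at h; exact h)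
    | (have h := hzc S; rw [Sinv] at h; exact h)
    | (have h := hzc w; rw [winv] at h; exact h)
    | exact hzc _
    | (simp only [← mul_assoc]; rw [hP, D.zz])
    | exact hword
    | (simpa [mul_assoc] using hx3)
    | (simpa [mul_assoc, pow_succ] using hS5)
    | (simpa [mul_assoc] using hxw)
    | (have h := gS 0; rw [s0] at h; exact h)
    | (have h := gS 1; rw [s1] at h; exact h)
    | (have h := gS 2; rw [s2] at h; exact h)
    | (have h := gS 3; rw [s3] at h; exact h)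
    | (have h := gS 4; rw [s4] at h; exact h)
    | (have h := gw 0; rw [w0] at h; exact h)
    | (have h := gw 1; rw [w1] at h; exact h)
    | (have h := gw 2; rw [w2] at h; exact h)
    | (have h := gw 3; rw [w3] at h; exact h)
    | (have h := gw 4; rw [w4] at h; exact h)
    | (have h := gx 0; rw [r0] at h; exact h)
    | (have h := gx 1; rw [r1] at h; exact h)
    | (have h := gx 2; rw [r2] at h; exact h)
    | (have h := gx 3; rw [r3] at h; exact h)
    | (have h := gx 4; rw [r4] at h; exact h)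

omit hP in
/-- The extension is the presented group. -/
theorem nonempty_mulEquiv : Nonempty (C ≃* NumGr 10 relsC) := by
  classical
  obtain ⟨b, E, hb⟩ := D.exists_normal
  obtain ⟨S, w, x, hrel, hS, hx⟩ := E.exists_rels hb
  haveI : Finite C := Nat.finite_of_card_ne_zero (by rw [D.card]; norm_num)
  let L : List C := LCof z b S w x
  have hL : L.length = 10 := rfl
  let ψ : NumGr 10 relsC →* C := numHom hL hrel
  have hgen : ∀ l, fl L l ∈ ψ.range := fun l => ⟨fl (numGens 10 relsC) l, numHom_fl hL hrel l⟩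
  have hzr : z ∈ ψ.range := hgen 9
  have hbr : ∀ i, b i ∈ ψ.range := fun i => by
    fin_cases i
    exacts [hgen 0, hgen 1, hgen 2, hgen 3, hgen 4]
  have hev : ∀ u : List Nat, ev L u ∈ ψ.range := fun u =>
    ⟨ev (numGens 10 relsC) u, numHom_ev hL hrel u⟩
  have hπ : ∀ (c : C) (σ : Equiv.Perm (Fin 5)), Ex b c σ → π c = σ := by
    intro c σ h
    ext1 i
    have hi := h i
    by_contra hne
    obtain ⟨e, he⟩ : ∃ e, b (π c i) = zp z e * b (σ i) := by
      rcases E.conj c i with h' | h' <;> rw [hi] at h'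
      · exact ⟨0, by rw [zp_zero, one_mul]; exact h'.symm⟩
      · exact ⟨1, by rw [zp_one, h', ← mul_assoc, E.zz, one_mul]⟩
    have h2 := E.anti _ (σ i) hne
    rw [he, mul_assoc, E.sq, ← mul_assoc (b (σ i)), ← (E.zp_commute e (b (σ i))).eq,
      mul_assoc (zp z e), E.sq, mul_one] at h2
    exact E.zne (left_eq_mul.1 (h2.trans (E.cz _).eq))
  -- lifts of the words in the complement
  have hword : ∀ u : List Nat, (∀ l ∈ u, l < 3) →
      π (ev L (altW u)) = permW (altW u) := by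
    intro u
    induction u with
    | nil => intro _; simp [altW, permW]
    | cons l u ih =>
      intro hu
      have hl := hu l (by simp)
      rw [altW, List.map_cons, ev_cons, permW_cons, map_mul]
      congr 1
      · interval_cases l
        · exact hπ _ _ hS
        · exact hπ _ _ hx
        · exact hπ _ _ hx.inv
      · exact ih fun m hm => hu m (by simp [hm])
  have hcov : ∀ σ : Equiv.Perm (Fin 5), Equiv.Perm.sign σ = 1 → ∃ c ∈ ψ.range, π c = σ := by
    intro σ hσ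
    have h := List.all_eq_true.mp alt_cover (σ 0) (List.mem_finRange _)
    have h' := List.all_eq_true.mp (List.all_eq_true.mp h (σ 1) (List.mem_finRange _)) (σ 2)
      (List.mem_finRange _)
    simp only [Bool.or_eq_true, decide_eq_true_eq, List.any_eq_true, Bool.and_eq_true] at h'
    rcases h' with h' | ⟨u, hu, ⟨e0, e1⟩, e2⟩
    · rcases h' with h' | h' | h' <;> exact absurd (σ.injective h') (by decide)
    · refine ⟨_, hev (altW u), ?_⟩
      rw [hword u (fun l hl => by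
        have := List.all_eq_true.mp alt_letters u hu
        exact Nat.le_of_ble_eq_true (allList_iff.mp this l hl))]
      have hs : ∀ v : List Nat, Equiv.Perm.sign (permW v) = 1 := fun v => by
        induction v with
        | nil => simp [permW]
        | cons m v ih => rw [permW_cons, map_mul, sign_permC, ih, one_mul]
      refine inv_mul_eq_one.1 (even_ext _ (by rw [map_mul, map_inv, hs, hσ]; simp) ?_ ?_ ?_)
      · rw [Equiv.Perm.mul_apply, ← e0]; exact Equiv.symm_apply_apply _ _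
      · rw [Equiv.Perm.mul_apply, ← e1]; exact Equiv.symm_apply_apply _ _
      · rw [Equiv.Perm.mul_apply, ← e2]; exact Equiv.symm_apply_apply _ _
  have hsurj : ∀ c : C, c ∈ ψ.range := by
    intro c
    obtain ⟨d, hd, hdc⟩ := hcov (π c) (by
      rw [← Equiv.Perm.mem_alternatingGroup, ← E.range]; exact ⟨c, rfl⟩)
    have hk : π (d⁻¹ * c) = 1 := by rw [map_mul, map_inv, hdc, inv_mul_cancel]
    obtain ⟨ε, hε⟩ := E.signs (d⁻¹ * c)
    rw [hk] at hε
    simp only [Equiv.Perm.one_apply] at hε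
    have hsum := E.sum_signs hb (σ := 1) (c := d⁻¹ * c) (ε := ε) (by simpa using hε) (by simpa using hb)
    -- a product of pairs has the same signs
    have key : ∀ (e : ZMod 2) (j : Fin 5), ∃ q ∈ ψ.range, ∀ i, q * b i * q⁻¹ =
        zp z (e * ((if i = 4 then 0 else 1) + if i = j then 0 else 1)) * b i := by
      intro e j
      rcases zmod2_cases e with rfl | rfl
      · exact ⟨1, one_mem _, fun i => by simp⟩
      · exact ⟨b j * b 4, mul_mem (hbr j) (hbr 4), fun i => by rw [one_mul]; exact E.conj_pair j 4 i⟩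
    obtain ⟨q0, m0, h0⟩ := key (ε 0) 0
    obtain ⟨q1, m1, h1⟩ := key (ε 1) 1
    obtain ⟨q2, m2, h2⟩ := key (ε 2) 2
    obtain ⟨q3, m3, h3⟩ := key (ε 3) 3
    have hstep : ∀ (q : C) (g : Fin 5 → ZMod 2), (∀ i, q * b i * q⁻¹ = zp z (g i) * b i) →
        ∀ (e : ZMod 2) (i : Fin 5), q * (zp z e * b i) * q⁻¹ = zp z (e + g i) * b i := by
      intro q g hq e i
      rw [← mul_assoc q, ← (E.zp_commute e q).eq, mul_assoc (zp z e), mul_assoc (zp z e), hq, E.zadd,
        mul_assoc]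
    have hfin : ∀ ε : Fin 5 → ZMod 2, ε 0 + ε 1 + ε 2 + ε 3 + ε 4 = 0 → ∀ i : Fin 5,
        ε 3 * ((if i = 4 then 0 else 1) + if i = 3 then 0 else 1) +
          ε 2 * ((if i = 4 then 0 else 1) + if i = 2 then 0 else 1) +
          ε 1 * ((if i = 4 then 0 else 1) + if i = 1 then 0 else 1) +
          ε 0 * ((if i = 4 then 0 else 1) + if i = 0 then 0 else 1) = ε i := by decide
    set q := q0 * q1 * q2 * q3 with hq
    have hqm : q ∈ ψ.range := mul_mem (mul_mem (mul_mem m0 m1) m2) m3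
    have hqc : ∀ i, q⁻¹ * (d⁻¹ * c) * b i * (q⁻¹ * (d⁻¹ * c))⁻¹ = b i := by
      intro i
      have h4 : q * b i * q⁻¹ = d⁻¹ * c * b i * (d⁻¹ * c)⁻¹ := by
        rw [hε, hq, show q0 * q1 * q2 * q3 * b i * (q0 * q1 * q2 * q3)⁻¹ =
          q0 * (q1 * (q2 * (q3 * b i * q3⁻¹) * q2⁻¹) * q1⁻¹) * q0⁻¹ by group,
          h3, hstep q2 _ h2, hstep q1 _ h1, hstep q0 _ h0, hfin ε hsum i]
      rw [show q⁻¹ * (d⁻¹ * c) * b i * (q⁻¹ * (d⁻¹ * c))⁻¹ =
        q⁻¹ * (d⁻¹ * c * b i * (d⁻¹ * c)⁻¹) * q by group, ← h4]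
      group
    have hmem : q⁻¹ * (d⁻¹ * c) ∈ ψ.range := by
      rcases E.fix _ hqc with h | h <;> rw [h]
      exacts [one_mem _, hzr]
    have := mul_mem hd (mul_mem hqm hmem)
    rwa [mul_inv_cancel_left, mul_inv_cancel_left] at this
  have hT : TableOK (numGens 10 relsC) (⊥ : Subgroup (NumGr 10 relsC)) TC.E ivC 1920 TC.Rep TC.Tb :=
    tableOK_of_check (inv_of_rels length_numGens ev_numGens invC_table ivC_out) TC.hR
      (by rw [length_numGens]; exact TC.hdefs) (by rw [length_numGens]; exact TC.hsteps)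
      (by rw [length_numGens]; exact TC.htable) ev_numGens (by simp [TC.subs])
  have hcard := hT.finite_card_le (by norm_num) bot_le inferInstance (m := 1) (by simp)
  rw [closure_numGens, Subgroup.card_top] at hcard
  obtain ⟨hf, hc⟩ := hcard
  haveI : Finite (NumGr 10 relsC) := Finite.of_equiv _ Subgroup.topEquiv.toEquiv
  have hbij : Function.Bijective ψ := Function.Surjective.bijective_of_nat_card_le
    (fun c => hsurj c) (by rw [D.card]; omega)
  exact ⟨(MulEquiv.ofBijective ψ hbij).symm⟩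

omit hP in
/-- Two such extensions are isomorphic. -/
theorem nonempty_iso {C' : Type*} [Group C'] {z' : C'} {a' : Fin 5 → C'}
    {π' : C' →* Equiv.Perm (Fin 5)} (D' : CliffExt C' z' a' π') : Nonempty (C ≃* C') := by
  obtain ⟨e⟩ := D.nonempty_mulEquiv
  obtain ⟨e'⟩ := D'.nonempty_mulEquiv
  exact ⟨e.trans e'.symm⟩

end CliffExt

end CfsgLib.JankoSylow
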